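import Cfsg.Agent.Char.AltDec

/-!
# `A₈` and `A₉` are not strongly `3`-embedded in a larger group
-/

set_option autoImplicit false

namespace Cfsg.Agent.Char.AltM

open Subgroup Local Equiv

variable {m : ℕ}

theorem ba_map {β γ : Type*} (g : β → γ) (x0 x2 x4 x7 x8 : β) (i : ℕ) :
    g (ba x0 x2 x4 x7 x8 i) = ba (g x0) (g x2) (g x4) (g x7) (g x8) i := by
  unfold ba; split_ifs <;> rfl

theorem by_map {β γ : Type*} (g : β → γ) (x0 x6 x8 : β) (i : ℕ) :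
    g (by' x0 x6 x8 i) = by' (g x0) (g x6) (g x8) i := by
  unfold by'; split_ifs <;> rfl

theorem eq_of_swap {g c : Al m} {d : Bool} {i j : Fin (m + 8)} (hij : i ≠ j)
    (h : ∀ l, g.1 l = (c.1 * bif d then swap i j else 1) l) : g = c := by
  have h1 : g.1 = _ := Equiv.ext h
  cases d
  · exact Subtype.ext (by simpa using h1)
  · have h2 := congrArg Perm.sign h1
    rw [map_mul, Perm.mem_alternatingGroup.mp g.2, Perm.mem_alternatingGroup.mp c.2] at h2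
    simp [hij] at h2

theorem cent_a (hm : m ≤ 1) {g : Al m} (ha : g * a = a * g) (ht : g * t = t * g) :
    g ^ 4 ∈ zpowers a ∧
      (g * v = v * g → ∃ k : ℕ, ∃ b c : Bool, g = a ^ k * (bp b t * bp c v)) := by
  obtain ⟨h1, ⟨h2, h3, h4, h5, h6, h7⟩, h8⟩ := f4 hm
  have h9 : ∀ i, (wa i).1 (ba (g.1 0) (g.1 2) (g.1 4) (g.1 7) (g.1 8) i) = g.1 i := fun i => by
    rw [← ba_map g.1, ← app_comm (c := wa i) (Commute.mul_right (Commute.pow_right ht _)
      (Commute.pow_right ha _)), h1]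
  have := h8 _ (app_ne ht h2) _ (app_ne ht h3) _ (app_ne ha h4) _ (app_eq ht h5) (app_eq ha h6)
    (g.1 8)
  simp only [h9] at this
  obtain ⟨⟨k, hk⟩, h10⟩ := this fun i j e => g.1.injective e
  refine ⟨⟨k.val, Subtype.ext (Equiv.ext fun i => ?_)⟩, fun hv => ?_⟩
  · simpa [pow_succ] using (hk i).symm
  · obtain ⟨k, b, c, d, e⟩ := h10 (app_comm hv)
    exact ⟨k, b, c, eq_of_swap h7 e⟩

theorem cent_y (hm : m ≤ 1) {g : Al m} (hy : g * y = y * g) (hu : g * u = u * g) :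
    ∃ k : ℕ, ∃ b : Bool, g = y ^ k * bp b u := by
  obtain ⟨h1, ⟨h2, h3, h4⟩, h8⟩ := f5 hm
  have h9 : ∀ i, (wy i).1 (by' (g.1 0) (g.1 6) (g.1 8) i) = g.1 i := fun i => by
    rw [← by_map g.1, ← app_comm (c := wy i) (Commute.mul_right (Commute.pow_right hy _)
      (Commute.pow_right hu _)), h1]
  have := h8 _ (app_ne hy h2) _ (app_eq hy h3) (g.1 8)
  simp only [h9] at this
  obtain ⟨k, b, d, e⟩ := this fun i j e => g.1.injective e
  exact ⟨k, b, eq_of_swap h4 e⟩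

theorem eq_top_of_wc (hm : m ≤ 1) {G : Type*} [Group G] [Finite G] (ψ : Al m →* G)
    (hψ : Function.Injective ψ) (h3 : ∀ x ∈ ψ.range, orderOf x = 3 → WC ψ.range x) :
    ψ.range = ⊤ := by
  obtain ⟨⟨t1, t2, t3⟩, ⟨z1, z2, z3⟩, ⟨a1, a2, a3, a4, a5⟩, ⟨z4, z5, z6⟩, ⟨s1, s2⟩, ⟨n1, n2⟩,
    ⟨u1, u2, u3, u4, u5, u6, u7⟩, ⟨c1, c2, c3, c4⟩, w1, w2, w3⟩ := f1 hm
  set H := ψ.range
  have mm : ∀ x, ψ x ∈ H := fun x => ⟨x, rfl⟩
  have cm : ∀ {x y}, x * y = y * x ↔ ψ x * ψ y = ψ y * ψ x := by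
    intro x y; rw [← map_mul, ← map_mul, hψ.eq_iff]
  have hc : ∀ {x y}, IsConj x y → HC H (ψ x) (ψ y) := fun h => by
    obtain ⟨g, rfl⟩ := isConj_iff.mp h
    exact ⟨ψ g, mm g, by simp⟩
  have hc' : ∀ {x w}, HC H (ψ x) w → ∃ g, ψ (g * x * g⁻¹) = w := by
    rintro x w ⟨_, ⟨g, rfl⟩, rfl⟩
    exact ⟨g, by simp⟩
  have n1' : ∀ {x : Al m}, sc x ≠ 0 → ψ x ≠ 1 := fun h e => by
    rw [hψ (e.trans (map_one ψ).symm)] at h; simp [sc] at h
  have o3 : ∀ {x : Al m}, x ^ 3 = 1 → sc x ≠ 0 → orderOf (ψ x) = 3 := fun h h' =>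
    have : Fact (Nat.Prime 3) := ⟨Nat.prime_three⟩
    orderOf_eq_prime (by rw [← map_pow, h, map_one]) (n1' h')
  have oa := o3 a1 (by omega)
  have oy := o3 u2 (by omega)
  have ct : ∀ {w : Al m}, w * w = 1 → sc w = 4 → HC H (ψ t) (ψ w) := fun h h' =>
    hc (isConj_of_sc t1 h (by omega) (c1.trans h'.symm) w1 w2)
  have kl : Kl (ψ t) (ψ v) := (⟨t1, t2, t3⟩ : Kl (t : Al m) v).map ψ
  have hCy : ∀ g, g * ψ u = ψ u * g → g * ψ y = ψ y * g →
      g ∈ zpowers (ψ y) ∨ g * ψ u ∈ zpowers (ψ y) := fun g h1 h2 => by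
    obtain ⟨g, rfl⟩ := (h3 _ (mm y) oy).cent (mm y) h2
    obtain ⟨k, b, rfl⟩ := cent_y hm (cm.mpr h2) (cm.mpr h1)
    cases b
    · exact Or.inl (by simpa [bp] using npow_mem_zpowers _ k)
    · exact Or.inr (by simpa [bp, ← map_mul, mul_assoc, u1] using npow_mem_zpowers _ k)
  have uu : ψ u * ψ u = 1 := by rw [← map_mul, u1, map_one]
  have ntu : ¬ IsConj (ψ t) (ψ u) := fun e => by
    obtain ⟨g, hg⟩ := isConj_iff.mp e
    have hY : ∀ {g}, g * ψ u = ψ u * g → g ∈ centralizer {ψ u} :=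
      mem_centralizer_singleton_iff.mpr
    have h : CI (⟨ψ y, hY (cm.mp u3)⟩ : centralizer {ψ u}) ⟨ψ u, hY rfl⟩ := ⟨fun g =>
      Subtype.ext (mem_centralizer_singleton_iff.mp g.2), Subtype.ext uu,
      by rw [← orderOf_coe, oy], fun g hg => by
        rcases hCy g (mem_centralizer_singleton_iff.mp g.2) (congrArg Subtype.val hg) with
          ⟨n, e⟩ | ⟨n, e⟩
        · exact Or.inl ⟨n, Subtype.ext (by simpa using e)⟩
        · exact Or.inr ⟨n, Subtype.ext (by simpa using e)⟩⟩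
    obtain ⟨k, hk⟩ := isConj_iff.mp (h.isConj (t := ⟨ψ r, hY (cm.mp u4)⟩) (Subtype.ext (by
      simpa using congrArg ψ u5)) (y := ⟨g * ψ a * g⁻¹, hY (by
        rw [← hg, conj_mul, conj_mul, cm.mp a2])⟩) (Subtype.ext (by
          simp [conj_pow, ← map_pow, a1])) fun e =>
            n1' (x := a) (by omega) (conj_eq_one_iff.mp (congrArg Subtype.val e)))
    have e1 : g⁻¹ * k * ψ y * (g⁻¹ * k)⁻¹ = ψ a := by
      have : (k : G) * ψ y * (k : G)⁻¹ = g * ψ a * g⁻¹ := congrArg Subtype.val hk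
      calc _ = g⁻¹ * ((k : G) * ψ y * (k : G)⁻¹) * g := by group
        _ = _ := by rw [this]; group
    obtain ⟨l, hl⟩ := hc' ⟨_, h3 _ (mm y) oy _ (e1 ▸ mm a), e1⟩
    have := sc_eq (isConj_iff.mpr ⟨l, hψ hl⟩)
    omega
  have hV : ∀ g, g * ψ t = ψ t * g → g * ψ v = ψ v * g → g ∈ H := fun g h1 h2 =>
    cent_le_of_wc h3 (a := ψ a) (z := ψ z) kl.not_dvd kl.le_cent oa
      (kl.mem_cent.mpr ⟨cm.mp a2, cm.mp a3⟩) (fun g hg ha => by
        obtain ⟨g, rfl⟩ := (h3 _ (mm a) oa).cent (mm a) ha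
        rw [kl.mem_cent] at hg
        obtain ⟨k, b, c, rfl⟩ := (cent_a hm (cm.mpr ha) (cm.mpr hg.1)).2 (cm.mpr hg.2)
        rw [map_mul, map_pow]
        refine mul_mem_sup (npow_mem_zpowers _ k) ?_
        cases b <;> cases c <;> simp [bp, kl.mem_V])
      (by rw [← map_pow, z3, map_one]) (kl.mem_norm
        (by simp [← map_inv, ← map_mul, z1, kl.mem_V]) (by simp [← map_inv, ← map_mul, z2, kl.mem_V]))
      (cm.mp a4) (fun e => by
        rcases mem_zpowers_three oa e with e | e | e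
        · exact z4 (hψ (e.trans (map_one ψ).symm))
        · exact z5 (hψ e)
        · exact z6 (hψ (e.trans (map_inv ψ a).symm))) (mm a) (mm z) (kl.mem_cent.mpr ⟨h1, h2⟩)
  have key : ∀ q, HC H (ψ t) q → HC H (ψ t) (ψ t * q) → q * ψ t = ψ t * q →
      q = ψ v ∨ q = ψ t * ψ v ∨ (q * ψ v ≠ ψ v * q ∧ ∃ w, HC H (ψ t) w ∧ HC H (ψ t) (ψ t * w) ∧
        w * ψ t = ψ t * w ∧ w * q = q * w ∧ w ≠ q ∧ w ≠ ψ t * q) := fun q h1 h2 h4 => by
    obtain ⟨g, rfl⟩ := hc' h1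
    obtain ⟨k, hk⟩ := hc' h2
    have e1 := sc_eq (isConj_iff.mpr ⟨g, (rfl : g * t * g⁻¹ = _)⟩)
    have e2 := sc_eq (isConj_iff.mpr ⟨k, hψ (hk.trans (map_mul ψ _ _).symm)⟩)
    have e3 := cm.mpr h4
    have e4 : g * t * g⁻¹ = _ := conj_ss g 0 1 2 3
    rw [e4] at e1 e2 e3 ⊢
    rcases f3 hm _ _ _ _ e3 (by omega) (by omega) with e | e | ⟨e, i, j, d1, d2, d3, d4, d5, d6, d7⟩
    · exact Or.inl (congrArg ψ e)
    · exact Or.inr (Or.inl (by rw [e, map_mul]))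
    · refine Or.inr (Or.inr ⟨fun e' => e (cm.mpr e'), ψ (ss 0 1 i j), ct d1 d2, ?_, cm.mp d4,
        cm.mp d5, fun e => d6 (hψ e), fun e => d7 (hψ (e.trans (map_mul ψ _ _).symm))⟩)
      rw [← map_mul]
      refine ct ?_ d3
      rw [mul_assoc, ← mul_assoc _ t, d4, mul_assoc, d1, mul_one, t1]
  have hF : FourFus H (ψ t) (ψ v) (ψ u) := ⟨kl, mm t, ntu, n1' (by omega),
    hc (isConj_iff.mpr ⟨z, z1⟩),
    map_mul ψ t v ▸ hc (isConj_iff.mpr ⟨z * z, by rw [← z2, ← z1]; group⟩), hV,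
    ⟨ψ s, mm s, cm.mp s1, by simpa using congrArg ψ s2⟩, by
      rintro _ ⟨w, rfl⟩ hw
      have h1 : w * w = 1 := hψ (by rw [map_mul, hw, map_one])
      by_cases h2 : w = 1
      · exact Or.inl (by rw [h2, map_one])
      obtain ⟨h4, h5⟩ := four_dvd_sc h1 h2
      have h6 : sc w ≤ m + 8 := (Finset.card_le_univ _).trans (by simp)
      obtain e | e : sc w = 4 ∨ sc w = 8 := by omega
      · exact Or.inr (Or.inl (ct h1 e))
      · exact Or.inr (Or.inr (hc (isConj_of_sc u1 h1 (by omega) (c2.trans e.symm) w1 w3))),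
    fun q h1 h2 h4 => (key q h1 h2 h4).imp_right (Or.imp_right And.right),
    fun q h1 h2 h4 h5 => (key q h1 h2 h4).imp_right fun h => h.resolve_right fun h => h.1 h5⟩
  have hCt : ∀ g, g * ψ t = ψ t * g → g ∈ H := fun g hg =>
    hF.cent_le (mm n) oa (cm.mp a2) (by
      rw [← a5, ← z1]; simp only [map_mul, map_inv]; group) (by
      rw [conj_mul, ← map_mul ψ t v, ← a5, ← z2]; simp only [map_mul, map_inv]; group)
      (by simpa using cm.mp n1) (fun e => n2 (hψ (by simpa using e))) (fun g h1 h2 => by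
        obtain ⟨g, rfl⟩ := (h3 _ (mm a) oa).cent (mm a) h1
        rw [← map_pow, ← MonoidHom.map_zpowers]
        exact mem_map_of_mem ψ (cent_a hm (cm.mpr h1) (cm.mpr h2)).1) hg
  refine hF.eq_top hCt uu (n1' (by omega)) fun g hg => ci_le_of_wc uu oy (cm.mp u3) hCy (mm y)
    (h3 _ (mm y) oy) kl.pp (cm.mp u6) (mm t) (hF.wc hCt)
    (by rw [← map_mul, ← map_pow, u7, map_one]) ?_ (mem_centralizer_singleton_iff.mpr hg)
  obtain ⟨e1, e2⟩ := f2 hm
  have := Nat.card_le_card_of_injective (fun b => (⟨ψ (el b), mm _,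
    mem_centralizer_singleton_iff.mpr (cm.mp (e1 b))⟩ : ↥(H ⊓ centralizer {ψ u})))
    fun b c e => e2 b c (hψ (congrArg Subtype.val e))
  rw [Nat.card_eq_fintype_card] at this
  simp only [Fintype.card_prod, Fintype.card_bool] at this
  omega

end Cfsg.Agent.Char.AltM
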