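import Cfsg.Agent.Char.L8
import Cfsg.Agent.Char.AltMod
import Cfsg.Agent.Pres.Alt

/-!
# The `3`-local structure of `A₈`
-/

set_option autoImplicit false

namespace Cfsg.Agent.Char

open Subgroup Local
open scoped Pointwise

variable {G : Type*} [Group G]

theorem exists_pow_of_mem_closure {a b e : G} (ha : a ^ 3 = 1) (hb : b ^ 3 = 1)
    (hab : a * b = b * a) (he : e ∈ closure ({a, b} : Set G)) :
    ∃ i < 3, ∃ j < 3, e = a ^ i * b ^ j := by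
  suffices h : ∃ i j : ℕ, e = a ^ i * b ^ j by
    obtain ⟨i, j, rfl⟩ := h
    exact ⟨i % 3, by omega, j % 3, by omega, by
      rw [← pow_eq_pow_mod i ha, ← pow_eq_pow_mod j hb]⟩
  have hc : ∀ i j : ℕ, Commute (a ^ i) (b ^ j) := fun i j => Commute.pow_pow hab i j
  induction he using closure_induction with
  | mem x hx =>
    rcases hx with rfl | rfl
    exacts [⟨1, 0, by simp⟩, ⟨0, 1, by simp⟩]
  | one => exact ⟨0, 0, by simp⟩
  | mul x y _ _ h1 h2 =>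
    obtain ⟨i, j, rfl⟩ := h1
    obtain ⟨k, l, rfl⟩ := h2
    exact ⟨i + k, j + l, by rw [pow_add, pow_add, (hc k j).mul_mul_mul_comm]⟩
  | inv x _ h1 =>
    obtain ⟨i, j, rfl⟩ := h1
    refine ⟨2 * i, 2 * j, inv_eq_of_mul_eq_one_right ?_⟩
    rw [← (hc (2 * i) j).mul_mul_mul_comm, ← pow_add, ← pow_add, show i + 2 * i = 3 * i by ring,
      show j + 2 * j = 3 * j by ring, pow_mul, pow_mul, ha, hb]
    simp

theorem wc_of_classes {H : Subgroup G} {ι : Type*} (c : ι → G) {x : G} (h0 : ∃ i, HC H (c i) x)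
    (h1 : ∀ y ∈ H, IsConj x y → ∃ i, HC H (c i) y)
    (h2 : ∀ i j, IsConj (c i) (c j) → HC H (c i) (c j))
    (h3 : ∀ i g, g * c i = c i * g → g ∈ H) : WC H x := by
  obtain ⟨i, hi⟩ := h0
  refine WC.of_hc (fun g hg => ?_) hi
  have e : IsConj (c i) (g * c i * g⁻¹) := isConj_iff.mpr ⟨g, rfl⟩
  obtain ⟨j, hj⟩ := h1 _ hg (hi.isConj.symm.trans e)
  obtain ⟨k, hk, e'⟩ := (h2 i j (e.trans hj.isConj.symm)).trans hj
  have := h3 i (k⁻¹ * g) (by
    rw [← mul_inv_eq_iff_eq_mul]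
    calc _ = k⁻¹ * (g * c i * g⁻¹) * k := by group
      _ = _ := by rw [← e']; group)
  simpa using mul_mem hk this

theorem CI.isConj_or [Finite G] {e u : G} (h : CI e u) {y : G}
    (h3 : y ^ 3 = 1) (h1 : y ≠ 1) : IsConj e y ∨ IsConj e⁻¹ y := by
  have : Fact (Nat.Prime 3) := ⟨Nat.prime_three⟩
  obtain ⟨N, hN, hk, -⟩ := h.exists_quot
  have hf := QuotientGroup.mk'_surjective N
  obtain ⟨n, -, hn⟩ := (h.sct hf hk).exists_conj (mem_top _) (mem_top (QuotientGroup.mk' N y))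
    (orderOf_eq_prime (by rw [← map_pow, h3, map_one]) fun e =>
      h1 (h.eq_of_cube hk h3 (one_pow 3) (by rw [e, map_one])))
  obtain ⟨g, rfl⟩ := hf n
  have h4 : (g * y * g⁻¹) ^ 3 = 1 := by rw [conj_pow, h3]; group
  exact hn.imp (fun hn => (isConj_iff.mpr ⟨g, h.eq_of_cube hk h4 h.cube (by simpa using hn)⟩).symm)
    fun hn => (isConj_iff.mpr ⟨g, h.eq_of_cube hk h4
      (by rw [inv_pow, h.cube, inv_one]) (by simpa using hn)⟩).symm

namespace L8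

attribute [local irreducible] z x2 x3 x4 x5 a p q h s s' m r

/-- `φ` identifies the model with the normaliser of a subgroup of order three. -/
structure Loc (φ : L →* G) : Prop where
  inj : Function.Injective φ
  mem : ∀ g, g * φ z * g⁻¹ ∈ zpowers (φ z) → ∃ l, φ l = g

/-- The Sylow `3`-subgroup. -/
def D (φ : L →* G) : Subgroup G := closure {φ z, φ a}

variable {φ : L →* G}

theorem Loc.conj (hl : Loc φ) (g : G) : Loc ((MulAut.conj g).toMonoidHom.comp φ) :=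
  ⟨(MulAut.conj g).injective.comp hl.inj, fun k ⟨n, hn⟩ => by
    obtain ⟨l, e⟩ := hl.mem (g⁻¹ * k * g) ⟨n, by
      have : (g * φ z * g⁻¹) ^ n = k * (g * φ z * g⁻¹) * k⁻¹ := hn
      rw [conj_zpow] at this
      calc φ z ^ n = g⁻¹ * (g * φ z ^ n * g⁻¹) * g := by group
        _ = _ := by rw [this]; group⟩
    exact ⟨l, by simp [e, mul_assoc]⟩⟩

theorem Loc.cent (hl : Loc φ) {g : G} (hg : g * φ z = φ z * g) : ∃ l, φ l = g :=
  hl.mem g (by rw [hg, mul_inv_cancel_right]; exact mem_zpowers _)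

theorem Loc.cm (hl : Loc φ) {x y : L} : φ x * φ y = φ y * φ x ↔ x * y = y * x := by
  rw [← map_mul, ← map_mul, hl.inj.eq_iff]

theorem Loc.eq1 (hl : Loc φ) {x : L} : φ x = 1 ↔ x = 1 := map_eq_one_iff φ hl.inj

theorem cj (φ : L →* G) {x y w : L} (e : x * y * x⁻¹ = w) : φ x * φ y * (φ x)⁻¹ = φ w := by
  rw [← e]; simp

theorem Loc.cj' (hl : Loc φ) {x y w : L} (e : φ x * φ y * (φ x)⁻¹ = φ w) : x * y * x⁻¹ = w :=
  hl.inj (by simpa using e)

theorem z3 : φ z ^ 3 = 1 := by rw [← map_pow, rel.1.1, map_one]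

theorem a3 : φ a ^ 3 = 1 := by rw [← map_pow, rel2.1.2.2.1, map_one]

theorem za : φ z * φ a = φ a * φ z := by rw [← map_mul, ← map_mul, rel2.1.2.2.2.2.2.1]

theorem zD : φ z ∈ D φ := subset_closure (by simp)

theorem aD : φ a ∈ D φ := subset_closure (by simp)

theorem mem_D {d : G} : d ∈ D φ ↔ ∃ i < 3, ∃ j < 3, d = φ (z ^ i * a ^ j) := by
  simp only [map_mul, map_pow]
  refine ⟨exists_pow_of_mem_closure z3 a3 za, ?_⟩
  rintro ⟨i, -, j, -, rfl⟩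
  exact mul_mem (pow_mem zD i) (pow_mem aD j)

theorem comm_D {d g : G} (h1 : g * φ z = φ z * g) (h2 : g * φ a = φ a * g) (hd : d ∈ D φ) :
    g * d = d * g := by
  obtain ⟨i, -, j, -, rfl⟩ := mem_D.mp hd
  rw [map_mul, map_pow, map_pow]
  exact Commute.mul_right (Commute.pow_right h1 i) (Commute.pow_right h2 j)

theorem D_comm {d e : G} (hd : d ∈ D φ) (he : e ∈ D φ) : d * e = e * d :=
  comm_D (comm_D rfl za hd).symm (comm_D za.symm rfl hd).symm he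

theorem D_cube {d : G} (hd : d ∈ D φ) : d ^ 3 = 1 := cube_of_mem_closure z3 a3 za hd

theorem Loc.oz (hl : Loc φ) : orderOf (φ z) = 3 :=
  have : Fact (Nat.Prime 3) := ⟨Nat.prime_three⟩
  orderOf_eq_prime z3 fun e => rel2.1.2.2.2.1 (hl.eq1.mp e)

theorem Loc.cent_D (hl : Loc φ) {g : G} (h1 : g * φ z = φ z * g) (h2 : g * φ a = φ a * g) :
    g ∈ D φ := by
  obtain ⟨l, rfl⟩ := hl.cent h1
  obtain ⟨i, hi, j, hj, e⟩ := L8.cent_D l (hl.cm.mp h1) (hl.cm.mp h2)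
  exact mem_D.mpr ⟨i, hi, j, hj, by rw [e]⟩

theorem norm_D' [Finite G] {g : G} (h1 : g * φ z * g⁻¹ ∈ D φ) (h2 : g * φ a * g⁻¹ ∈ D φ) :
    g ∈ normalizer (D φ : Set G) := mem_normalizer_of_conj_mem fun d hd => by
  obtain ⟨i, -, j, -, rfl⟩ := mem_D.mp hd
  rw [map_mul, map_pow, map_pow, ← conj_mul, ← conj_pow, ← conj_pow]
  exact mul_mem (pow_mem h1 i) (pow_mem h2 j)

theorem rel3 : (s' * z * s'⁻¹ = z⁻¹ ∧ s' * a * s'⁻¹ = a ∧ s * z * s⁻¹ = z) ∧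
    ∀ i < 3, ∀ j < 3, (s * (z ^ i * a ^ j) * s⁻¹ = 1 ∨ s * (z ^ i * a ^ j) * s⁻¹ = z ^ i * a ^ j ∨
      s * (z ^ i * a ^ j) * s⁻¹ = (z ^ i * a ^ j)⁻¹) → j = 0 ∨ z ^ i * a ^ j = a ∨
        z ^ i * a ^ j = a⁻¹ := by
  decide +kernel

theorem Loc.exists_swap [Finite G] (hl : Loc φ) (N1 : ∃ n ∈ normalizer (D φ : Set G), n ^ 2 ∉ D φ)
    (N2 : ∀ g ∈ normalizer (D φ : Set G), ∀ k ∈ normalizer (D φ : Set G),
      g * (k⁻¹ * g * k) * g⁻¹ * (k⁻¹ * g * k)⁻¹ ∈ D φ) :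
    ∃ u, u * u = 1 ∧ u * φ z * u⁻¹ = φ a ∧ u * φ a * u⁻¹ = φ z := by
  obtain ⟨⟨e1, e2, e3⟩, e4⟩ := rel3
  have e5 := rel2.2.2.2.2.2.2.2.1
  have hs : φ s ∈ normalizer (D φ : Set G) :=
    norm_D' (by rw [cj φ e3]; exact zD) (by rw [cj φ e5, map_inv]; exact inv_mem aD)
  have key : ∀ n ∈ normalizer (D φ : Set G), n ^ 2 ∉ D φ →
      n * φ z * n⁻¹ = φ a ∨ n * φ z * n⁻¹ = (φ a)⁻¹ := fun n hn h2 => by
    have hw := mul_mem (mul_mem (inv_mem hn) hs) hn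
    have h3 := N2 _ hs _ hn
    set w := n⁻¹ * φ s * n with hw'
    have h4 := conj_mem_of_mem_normalizer hw zD
    have h5 : φ s * (w * φ z * w⁻¹) = w * φ z * w⁻¹ * φ s := by
      calc _ = φ s * w * (φ s)⁻¹ * w⁻¹ * (w * (φ s * φ z * (φ s)⁻¹) * w⁻¹) *
          (φ s * w * (φ s)⁻¹ * w⁻¹)⁻¹ * φ s := by group
        _ = _ := by rw [cj φ e3, D_comm h3 h4]; group
    obtain ⟨i, hi, j, hj, e⟩ := mem_D.mp h4
    rw [e, hl.cm] at h5
    obtain rfl := (fix_s i hi j hj).1 h5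
    obtain ⟨k, hk, j, hj, e'⟩ := mem_D.mp (conj_mem_of_mem_normalizer hn zD)
    have h6 : φ s * (n * φ z * n⁻¹) * (φ s)⁻¹ ∈ zpowers (n * φ z * n⁻¹) := ⟨i, by
      calc (n * φ z * n⁻¹) ^ (i : ℤ) = n * φ (z ^ i * a ^ 0) * n⁻¹ := by simp
        _ = _ := by rw [← e, hw']; group⟩
    have h7 := mem_zpowers_three (((MulAut.conj n).orderOf_eq _).trans hl.oz) h6
    rw [MulAut.conj_apply, e', ← map_inv, ← map_inv, ← map_mul, ← map_mul, hl.eq1, hl.inj.eq_iff,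
      hl.inj.eq_iff] at h7
    rcases e4 k hk j hj h7 with rfl | e | e
    · obtain ⟨l, rfl⟩ := hl.mem n (by rw [e']; exact ⟨k, by simp⟩)
      obtain ⟨i, hi, j, hj, e⟩ := norm_D l (hl.cm.mp (by
        simpa using D_comm (conj_mem_of_mem_normalizer hn aD) aD))
      exact absurd (mem_D.mpr ⟨i, hi, j, hj, by rw [← e, map_pow]⟩) h2
    · exact Or.inl (by rw [e', e])
    · exact Or.inr (by rw [e', e, map_inv])
  have fin : ∀ n, n * φ z * n⁻¹ = φ a → n * φ a * n⁻¹ = φ z →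
      ∃ u, u * u = 1 ∧ u * φ z * u⁻¹ = φ a ∧ u * φ a * u⁻¹ = φ z := fun n h1 h2 => by
    have h3 : n * n * φ z = φ z * (n * n) := by
      rw [← mul_inv_eq_iff_eq_mul]
      calc _ = n * (n * φ z * n⁻¹) * n⁻¹ := by group
        _ = _ := by rw [h1, h2]
    have h4 : n * n * φ a = φ a * (n * n) := by
      rw [← mul_inv_eq_iff_eq_mul]
      calc _ = n * (n * φ a * n⁻¹) * n⁻¹ := by group
        _ = _ := by rw [h2, h1]
    refine ⟨n * (n * n), ?_, ?_, ?_⟩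
    · rw [← D_cube (hl.cent_D h3 h4), pow_three]; group
    · rw [mul_assoc n, h3, ← h1]; group
    · rw [mul_assoc n, h4, ← h2]; group
  obtain ⟨n, hn, h2⟩ := N1
  have h3 : n * φ a * n⁻¹ = φ z ∨ n * φ a * n⁻¹ = (φ z)⁻¹ := by
    refine (key n⁻¹ (inv_mem hn) (by rwa [inv_pow, inv_mem_iff])).imp (fun e => ?_) fun e => ?_
    · rw [← e]; group
    · rw [← inv_inv (φ a), ← e]; group
  have c : ∀ (l x y : L) (b : G), l * x * l⁻¹ = y → n * φ y * n⁻¹ = b →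
      n * φ l * φ x * (n * φ l)⁻¹ = b := fun l x y b e e' => by
    rw [← e', ← cj φ e]; group
  have c' : ∀ {x b : G}, n * x * n⁻¹ = b⁻¹ → n * x⁻¹ * n⁻¹ = b := fun e => by
    rw [← conj_inv, e, inv_inv]
  rcases key n hn h2 with h4 | h4 <;> rcases h3 with h3 | h3
  · exact fin n h4 h3
  · exact fin _ (c s _ _ _ e3 h4) (c s _ _ _ e5 (map_inv φ a ▸ c' h3))
  · exact fin _ (c s' _ _ _ e1 (map_inv φ z ▸ c' h4)) (c s' _ _ _ e2 h3)
  · exact fin _ (c x3 _ _ _ rel2.2.2.1.2.2.2.2.2.2.2.2.2.1 (map_inv φ z ▸ c' h4))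
      (c x3 _ _ _ rel2.2.2.1.2.2.2.2.2.2.2.2.2.2 (map_inv φ a ▸ c' h3))

/-- The local hypotheses. -/
structure Hyp (φ : L →* G) (u : G) : Prop where
  loc : Loc φ
  uu : u * u = 1
  uz : u * φ z * u⁻¹ = φ a
  ua : u * φ a * u⁻¹ = φ z
  cy : ∀ g, g * φ (z * a) = φ (z * a) * g → g ∈ D φ ∨ g * u ∈ D φ
  nc : ¬ IsConj (φ z) (φ (z * a))

variable {u : G}

theorem Hyp.un [Finite G] (hh : Hyp φ u) : u ∈ normalizer (D φ : Set G) :=
  norm_D' (hh.uz ▸ aD) (hh.ua ▸ zD)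

theorem Hyp.uy (hh : Hyp φ u) : u * φ (z * a) = φ (z * a) * u := by
  rw [← mul_inv_eq_iff_eq_mul, map_mul, ← conj_mul, hh.uz, hh.ua, za]

theorem Hyp.ui (hh : Hyp φ u) : u⁻¹ = u := inv_eq_of_mul_eq_one_right hh.uu

theorem Hyp.oa (hh : Hyp φ u) : orderOf (φ a) = 3 :=
  hh.uz ▸ ((MulAut.conj u).orderOf_eq _).trans hh.loc.oz

theorem Loc.oy (hl : Loc φ) : orderOf (φ (z * a)) = 3 :=
  have : Fact (Nat.Prime 3) := ⟨Nat.prime_three⟩
  orderOf_eq_prime (D_cube (map_mul φ z a ▸ mul_mem zD aD)) fun e =>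
    rel2.1.2.2.2.2.2.2.2.2 (hl.eq1.mp e)

theorem Hyp.conj_z [Finite G] (hh : Hyp φ u) (i : ℕ) : Hyp φ (φ z ^ i * u * (φ z ^ i)⁻¹) := by
  have h1 : ∀ d ∈ D φ, φ z ^ i * d * (φ z ^ i)⁻¹ = d := fun d hd => by
    rw [D_comm (pow_mem zD i) hd]; group
  have h2 : ∀ d ∈ D φ, (φ z ^ i)⁻¹ * d * φ z ^ i = d := fun d hd => by
    rw [mul_assoc, D_comm hd (pow_mem zD i)]; group
  refine ⟨hh.loc, by rw [conj_mul, hh.uu]; group, ?_, ?_, fun g hg => (hh.cy g hg).imp_right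
    fun e => ?_, hh.nc⟩
  · calc _ = φ z ^ i * (u * ((φ z ^ i)⁻¹ * φ z * φ z ^ i) * u⁻¹) * (φ z ^ i)⁻¹ := by group
      _ = _ := by rw [h2 _ zD, hh.uz, h1 _ aD]
  · calc _ = φ z ^ i * (u * ((φ z ^ i)⁻¹ * φ a * φ z ^ i) * u⁻¹) * (φ z ^ i)⁻¹ := by group
      _ = _ := by rw [h2 _ aD, hh.ua, h1 _ zD]
  · have := mul_mem (mul_mem e (inv_conj_mem_of_mem_normalizer hh.un (pow_mem zD i)))
      (inv_mem (pow_mem zD i))
    simpa [mul_assoc] using this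

theorem Hyp.not_sc [Finite G] (hh : Hyp φ u) (g : G) :
    u * (g * φ z * g⁻¹) ≠ g * φ z * g⁻¹ * u := fun e => by
  have hY : ∀ {g}, g * u = u * g → g ∈ centralizer {u} := mem_centralizer_singleton_iff.mpr
  have key : ∀ d ∈ D φ, d * u = u * d → d ∈ zpowers (φ (z * a)) := fun d hd e => by
    obtain ⟨i, hi, j, hj, rfl⟩ := mem_D.mp hd
    obtain rfl := (fix_s i hi j hj).2 (hh.loc.inj (by
      rw [eq_comm, ← mul_inv_eq_iff_eq_mul] at e
      rw [← e, map_mul, map_mul, map_pow, map_pow, map_pow, map_pow, ← conj_mul, ← conj_pow,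
        ← conj_pow, hh.uz, hh.ua]))
    exact ⟨i, by simp [Commute.mul_pow (show Commute (φ z) (φ a) from za)]⟩
  have hc : CI (⟨φ (z * a), hY hh.uy.symm⟩ : centralizer {u}) ⟨u, hY rfl⟩ := ⟨fun g =>
    Subtype.ext (mem_centralizer_singleton_iff.mp g.2), Subtype.ext hh.uu,
    by rw [← orderOf_coe, hh.loc.oy], fun g hg => by
      have h1 := mem_centralizer_singleton_iff.mp g.2
      rcases hh.cy g (congrArg Subtype.val hg) with e | e
      · obtain ⟨n, e⟩ := key _ e h1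
        exact Or.inl ⟨n, Subtype.ext (by simpa using e)⟩
      · obtain ⟨n, e⟩ := key _ e (by rw [← mul_assoc, h1])
        exact Or.inr ⟨n, Subtype.ext (by simpa using e)⟩⟩
  have h1 : IsConj (φ z) (g * φ z * g⁻¹) := isConj_iff.mpr ⟨g, rfl⟩
  rcases hc.isConj_or (y := ⟨_, hY e.symm⟩) (Subtype.ext (by simp [conj_pow, z3])) (fun e =>
    rel2.1.2.2.2.1 (hh.loc.eq1.mp (conj_eq_one_iff.mp (congrArg Subtype.val e)))) with h2 | h2
  · exact hh.nc (h1.trans ((centralizer {u}).subtype.map_isConj h2).symm)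
  · refine hh.nc ((h1.trans ((centralizer {u}).subtype.map_isConj h2).symm).trans
      (isConj_iff.mpr ⟨φ x3, ?_⟩).symm)
    change _ = (φ (z * a))⁻¹
    rw [map_mul, ← conj_mul, cj φ rel2.2.2.1.2.2.2.2.2.2.2.2.2.1,
      cj φ rel2.2.2.1.2.2.2.2.2.2.2.2.2.2, za, mul_inv_rev, map_inv, map_inv]

theorem Hyp.not_conj [Finite G] (hh : Hyp φ u) (g : G) (l : L) : φ l ≠ g * u * g⁻¹ := fun e => by
  have h1 : ∀ w, φ l * w = w * φ l → u * (g⁻¹ * w * g) = g⁻¹ * w * g * u := fun w e' => by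
    calc _ = g⁻¹ * (g * u * g⁻¹ * w) * g := by group
      _ = _ := by rw [← e, e', e]; group
  rcases inv_sc l (hh.loc.eq1.mp (by rw [map_mul, e, conj_mul, hh.uu]; group)) with e' | ⟨k, e'⟩
  · exact hh.not_sc g⁻¹ (by simpa using h1 _ (hh.loc.cm.mpr e'))
  · refine hh.not_sc (g⁻¹ * φ k * u) ?_
    have := h1 _ (hh.loc.cm.mpr e')
    rw [← cj φ rfl, ← hh.uz] at this
    simpa [mul_assoc] using this

theorem pow_four {l : L} {k : ℕ} (e : l ^ 2 ^ k = 1) : (l ^ 2) ^ 2 = 1 := by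
  have h1 := exp60 l
  simp only [← pow_mul] at h1 ⊢
  rw [← orderOf_dvd_iff_pow_eq_one] at e h1 ⊢
  exact (Nat.Coprime.coprime_dvd_left e (Nat.Coprime.pow_left k (by norm_num : Nat.Coprime 2 15))
    ).dvd_of_dvd_mul_right h1

theorem klV (φ : L →* G) : Kl (φ p) (φ q) :=
  (⟨rel2.2.1.1, rel2.2.1.2.1, rel2.2.1.2.2.1⟩ : Kl p q).map φ

theorem Hyp.cent_not_le [Finite G] (hh : Hyp φ u)
    (hC : ∀ g ∈ centralizer ((klV φ).V : Set G), g * φ z * g⁻¹ ∈ zpowers (φ z)) : False := by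
  have hl := hh.loc
  obtain ⟨r1, r2, r3, r4, r5, r6, r7, r8, r9⟩ := rel2.2.2.2
  obtain ⟨l0, e0⟩ := hl.mem (u * φ s * u⁻¹) (by
    rw [← hh.ua, conj_mul, conj_inv, conj_mul, cj φ r5, map_inv, ← conj_inv]
    exact inv_mem (mem_zpowers _))
  obtain ⟨i, -, hi⟩ := eq_s' l0 (hl.eq1.mp (by
      rw [map_mul, e0, conj_mul, ← map_mul, r1, map_one]; group))
    (hl.cj' (by rw [e0, map_inv, ← hh.ua, conj_mul, conj_inv, conj_mul, cj φ r5, map_inv, conj_inv]))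
    (hl.cm.mp (by rw [e0, ← hh.uz, conj_mul, conj_mul, hl.cm.mpr r4]))
  have e1 : φ z ^ i * u * (φ z ^ i)⁻¹ * φ s * (φ z ^ i * u * (φ z ^ i)⁻¹)⁻¹ = φ s' := by
    have : φ z ^ i * φ s = φ s * φ z ^ i := (Commute.pow_right (hl.cm.mpr r4) i).symm
    calc _ = φ z ^ i * (u * ((φ z ^ i)⁻¹ * (φ s * φ z ^ i)) * u⁻¹) * (φ z ^ i)⁻¹ := by group
      _ = _ := by rw [← this, inv_mul_cancel_left, ← e0, ← hi]; simp
  replace hh := hh.conj_z i
  generalize φ z ^ i * u * (φ z ^ i)⁻¹ = w at hh e1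
  have e2 : w * φ s' * w⁻¹ = φ s := by
    rw [← e1, hh.ui]
    calc _ = (w * w) * φ s * (w * w) := by group
      _ = _ := by rw [hh.uu]; group
  have k1 : Kl (φ s) (φ r) := by rw [← cj φ r6, ← cj φ r7]; exact (klV φ).conj _
  have k2 : Kl (φ s) (φ s') := (⟨r1, r2, r3⟩ : Kl s s').map φ
  have hN : ∀ g ∈ normalizer (k1.V : Set G), ∃ l, φ l = g := fun g hg => by
    have h1 : ∀ v ∈ (klV φ).V, ∀ k ∈ normalizer (k1.V : Set G),
        (φ m)⁻¹ * k * φ m * v * ((φ m)⁻¹ * k * φ m)⁻¹ ∈ (klV φ).V := fun v hv k hk => by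
      have h2 : φ m * v * (φ m)⁻¹ ∈ k1.V := by
        rcases hv with e | e | e | e <;> rw [e]
        · simpa using one_mem _
        · rw [cj φ r6]; exact Or.inr (Or.inl rfl)
        · rw [cj φ r7]; exact Or.inr (Or.inr (Or.inl rfl))
        · rw [← conj_mul, cj φ r6, cj φ r7]; exact Or.inr (Or.inr (Or.inr rfl))
      have h3 : (φ m)⁻¹ * k * φ m * v * ((φ m)⁻¹ * k * φ m)⁻¹ =
          (φ m)⁻¹ * (k * (φ m * v * (φ m)⁻¹) * k⁻¹) * φ m := by group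
      rw [h3]
      rcases conj_mem_of_mem_normalizer hk h2 with e | e | e | e <;> rw [e] <;>
        simp [← cj φ r6, ← cj φ r7, Kl.mem_V, mul_assoc]
    have h2 := normalizer_le_normalizer_centralizer _ (mem_normalizer_of_conj_mem (h1 · · g hg))
    have h3 := conj_mem_of_mem_normalizer h2 ((klV φ).mem_cent.mpr
      ⟨hl.cm.mpr rel2.2.1.2.2.2.2.2.1, hl.cm.mpr rel2.2.1.2.2.2.2.2.2⟩)
    obtain ⟨l, e⟩ := hl.mem _ (hC _ h3)
    rw [← e, Kl.mem_cent, hl.cm, hl.cm] at h3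
    obtain ⟨k, e'⟩ := hl.mem ((φ m)⁻¹ * g * φ m) (by
      rw [← e]
      rcases (cent_V l h3.1 h3.2).1 (hl.eq1.mp (by rw [map_pow, e, conj_pow, z3]; group)) with
        rfl | rfl | rfl <;> simp)
    exact ⟨m * k * m⁻¹, by simp [e', mul_assoc]⟩
  obtain ⟨T, hT, hle⟩ := exists_isSylowIn_ge (p := 2) (Q := k1.V ⊔ zpowers (φ s')) (N := ⊤)
    (k1.isPGroup.to_sup_of_normal_left' (IsPGroup.of_card_dvd_pow (n := 1) (by
      rw [Nat.card_zpowers, pow_one]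
      exact orderOf_dvd_of_pow_eq_one (by rw [pow_two, k2.qq]))) (zpowers_le.mpr (k1.mem_norm
        (by rw [cj φ r8]; exact Or.inr (Or.inl rfl))
        (by rw [cj φ r9, map_mul]; exact Or.inr (Or.inr (Or.inr rfl)))))) le_top
  have sT : φ s ∈ T := hle (mem_sup_left (Or.inr (Or.inl rfl)))
  have rT : φ r ∈ T := hle (mem_sup_left (Or.inr (Or.inr (Or.inl rfl))))
  have sT' : φ s' ∈ T := hle (mem_sup_right (mem_zpowers _))
  by_cases hTM : T ≤ φ.range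
  · obtain ⟨n, -, hn⟩ := hT.exists_le_conj (Q := zpowers w) (IsPGroup.of_card_dvd_pow (n := 1) (by
      rw [Nat.card_zpowers, pow_one]
      exact orderOf_dvd_of_pow_eq_one (by rw [pow_two, hh.uu]))) le_top
    obtain ⟨l, e⟩ := hTM (Local.mem_conj_smul_iff.mp (hn (mem_zpowers w)))
    exact hh.not_conj n⁻¹ l (by simpa using e)
  obtain ⟨g, hg, h1, h2⟩ := exists_mem_normalizer_of_lt_of_isNilpotent (Q := T ⊓ φ.range)
    hT.isPGroup.isNilpotent (lt_of_le_of_ne inf_le_left fun e => hTM (e.ge.trans inf_le_right))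
  have hR : ∀ l, φ l ∈ T → InR l := fun l hl' => by
    have h3 : ∀ k, φ k ∈ T → (k ^ 2) ^ 2 = 1 := fun k hk => by
      obtain ⟨n, hn⟩ := hT.isPGroup ⟨_, hk⟩
      exact pow_four (k := n) (hl.eq1.mp (by simpa using congrArg Subtype.val hn))
    exact ⟨h3 _ hl', h3 _ (map_mul φ _ _ ▸ mul_mem hl' sT), h3 _ (map_mul φ _ _ ▸ mul_mem hl' rT),
      h3 _ (map_mul φ _ _ ▸ mul_mem hl' sT')⟩
  obtain ⟨h3, l, el⟩ := conj_mem_of_mem_normalizer h1 (⟨sT, s, rfl⟩ : φ s ∈ T ⊓ φ.range)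
  obtain ⟨h4, k, ek⟩ := conj_mem_of_mem_normalizer h1 (⟨rT, r, rfl⟩ : φ r ∈ T ⊓ φ.range)
  have k3 := k1.conj g
  have d : s ≠ 1 ∧ r ≠ 1 ∧ r ≠ s := by decide +kernel
  have n1 : ∀ {x y : L}, φ x = g * φ y * g⁻¹ → y ≠ 1 → x ≠ 1 := by
    rintro _ y e hy rfl
    exact hy (hl.eq1.mp (conj_eq_one_iff.mp (e.symm.trans (map_one φ))))
  rw [← el, ← ek] at k3
  rcases four_R l (hR l (el ▸ h3)) (hl.eq1.mp (by rw [map_mul, k3.pp])) (n1 el d.1) k (hR k (ek ▸ h4))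
    (hl.eq1.mp (by rw [map_mul, k3.qq])) (n1 ek d.2.1) (fun e => d.2.2 (hl.inj (by
      rw [e, el] at ek; simpa using ek.symm))) (hl.cm.mp k3.comm) with ⟨c1, c2⟩ | ⟨c1, c2, c3, c4⟩
  · obtain ⟨j, rfl⟩ := hN g (k1.mem_norm
      (by rw [← el]; rcases c1 with rfl | rfl | rfl <;> simp [Kl.mem_V])
      (by rw [← ek]; rcases c2 with rfl | rfl | rfl <;> simp [Kl.mem_V]))
    exact h2 ⟨hg, j, rfl⟩
  have c5 : φ s ∈ k3.V := by rcases c3 with e | e | e <;> simp [Kl.mem_V, e]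
  have c6 : φ s' ∈ k3.V := by rcases c4 with e | e | e <;> simp [Kl.mem_V, e]
  have c7 : ∀ x, (x = s ∨ x = s' ∨ x = s * s') → g⁻¹ * (w * φ x * w⁻¹) * g ∈ k1.V := fun x hx => by
    have : w * φ x * w⁻¹ ∈ k3.V := by
      rcases hx with rfl | rfl | rfl
      · exact e1 ▸ c6
      · exact e2 ▸ c5
      · rw [map_mul, ← conj_mul, e1, e2]; exact mul_mem c6 c5
    rcases this with e | e | e | e <;> rw [e] <;> simp [el, ek, Kl.mem_V, mul_assoc]
  obtain ⟨j, e⟩ := hN (g⁻¹ * w * g) (k1.mem_norm (by simpa [el, mul_assoc] using c7 l c1)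
    (by simpa [ek, mul_assoc] using c7 k c2))
  exact hh.not_conj g⁻¹ j (by simpa using e)

theorem Hyp.exists_inv [Finite G] (hh : Hyp φ u) : ∃ x, x * x = 1 ∧ x ≠ 1 ∧ (φ z * x) ^ 3 = 1 ∧
    x * φ a = φ a * x ∧ x * φ p = φ p * x ∧ x * φ x3 = φ x3 * x := by
  have hl := hh.loc
  have kl := klV φ
  obtain ⟨v1, v2, v3, v4, v5, v6, v7⟩ := rel2.2.1
  have zV : φ z ∈ centralizer (kl.V : Set G) := kl.mem_cent.mpr ⟨hl.cm.mpr v6, hl.cm.mpr v7⟩
  have hC : ∀ g ∈ centralizer (kl.V : Set G), g * φ z = φ z * g → g ∈ zpowers (φ z) ⊔ kl.V := by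
    intro g hg e
    obtain ⟨l, rfl⟩ := hl.cent e
    rw [Kl.mem_cent, hl.cm, hl.cm] at hg
    obtain ⟨i, -, e | e | e | e⟩ := (cent_V l hg.1 hg.2).2 <;> rw [e]
    · exact mem_sup_left (by simpa using npow_mem_zpowers _ i)
    all_goals
      rw [map_mul, map_pow]
      exact mul_mem_sup (npow_mem_zpowers _ i) (by simp [Kl.mem_V])
  obtain ⟨K, k1, k2, k3, k4, k5, -⟩ := tri (D := D φ) kl.not_dvd kl.le_cent hl.oz zV hC
    (fun e => ⟨1, Subtype.ext (by simpa using D_cube e.2)⟩) (by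
      rw [D, closure_le]; rintro x (rfl | rfl)
      · exact centralizer_le_normalizer _ zV
      · exact kl.mem_norm (by simp [cj φ v4, Kl.mem_V]) (by simp [cj φ v5, Kl.mem_V]))
  have hK : ∀ {k}, k ∈ K → k ^ 3 = 1 → k = 1 := fun hk e => eq_one_of_pow_eq_one_of_coprime
    ((Nat.Prime.coprime_iff_not_dvd Nat.prime_three).mpr k4) e
    (orderOf_dvd_iff_pow_eq_one.mp (orderOf_dvd_card_of_mem hk))
  obtain ⟨k, hk, ka, k0⟩ : ∃ k ∈ K, k * φ a = φ a * k ∧ k ≠ 1 := by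
    by_contra hn
    push Not at hn
    refine hh.cent_not_le (k5 (le_antisymm (le_of_centralizer_le_of_rank_two Nat.prime_three
      (k3 aD) (k3 zD) za.symm a3 hl.oz (fun e => ?_) k4 fun e he e1 k hk => ?_) k1))
    · rcases mem_zpowers_three hl.oz e with e | e | e
      · exact rel2.1.2.2.2.2.1 (hl.eq1.mp e)
      · exact rel2.1.2.2.2.2.2.2.1 (hl.inj e)
      · exact rel2.1.2.2.2.2.2.2.2.1 (hl.inj (e.trans (map_inv φ z).symm))
    rw [Set.pair_comm] at he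
    obtain ⟨i, hi, j, hj, rfl⟩ := mem_D.mp he
    have h1 := mem_centralizer_singleton_iff.mp hk.2
    have inv : ∀ {d x : G}, k * d = d * k → d = x ∨ d = x⁻¹ → k * x = x * k := by
      rintro d x e (rfl | rfl)
      exacts [e, Commute.inv_right_iff.mp e]
    rcases cls_D i hi j hj with e | ⟨l, hla, e | e | e⟩
    · exact absurd (by rw [e, map_one]) e1
    · obtain ⟨_, ⟨n, rfl⟩, v, hv, e'⟩ := (mem_sup_of_left_le_normalizer
        (zpowers_le.mpr (centralizer_le_normalizer _ zV))).mp (hC k (k2 hk.1) (inv h1 (by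
          rw [← e, ← map_inv]; exact (norm_z l).imp (congrArg φ) (congrArg φ))))
      have hkK : k ∈ K := hk.1
      replace e' : φ z ^ n * v = k := e'
      have h2 : φ z ^ n = 1 := hK (by simpa [← e'] using mul_mem hkK (inv_mem (k1 hv))) (by
        rw [← zpow_natCast, ← zpow_mul, mul_comm, zpow_mul, zpow_natCast, z3, one_zpow])
      rwa [← e', h2, one_mul]
    · have d : ∀ l : L, l * a * l⁻¹ * a = a * (l * a * l⁻¹) → l * a * l⁻¹ = a ∨ l * a * l⁻¹ = a⁻¹ := by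
        decide +kernel
      rw [hn k hk.1 (inv h1 (by
        rw [← e, ← map_inv]; exact (d l hla).imp (congrArg φ) (congrArg φ)))]
      exact one_mem _
    · have lN : φ l ∈ normalizer (D φ : Set G) := norm_D' (by
        rcases norm_z l with e | e <;> rw [cj φ e]
        exacts [zD, map_inv φ z ▸ inv_mem zD]) (hl.cent_D (by
          have : ∀ l : L, l * a * l⁻¹ * z = z * (l * a * l⁻¹) := by decide +kernel
          simpa using hl.cm.mpr (this l)) (by simpa using hl.cm.mpr hla))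
      have h2 : k ∈ normalizer (D φ : Set G) := by
        have h3 : (φ l)⁻¹ * k * φ l ∈ normalizer (D φ : Set G) := by
          rcases hh.cy ((φ l)⁻¹ * k * φ l) (by
            calc _ = (φ l)⁻¹ * (k * (φ l * φ (z * a) * (φ l)⁻¹)) * φ l := by group
              _ = _ := by rw [cj φ e, h1, ← cj φ e]; group) with e | e
          · exact le_normalizer e
          · simpa using mul_mem (le_normalizer e) (inv_mem hh.un)
        simpa [mul_assoc] using mul_mem (mul_mem lN h3) (inv_mem lN)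
      have h3 : ∀ d ∈ D φ, k * d = d * k := fun d hd => by
        rw [← mul_inv_eq_iff_eq_mul, ← mul_inv_eq_one]
        have hkK : k ∈ K := hk.1
        have := mul_mem hkK (conj_mem_of_mem_normalizer (k3 hd) (inv_mem hkK))
        exact hK (by simpa [mul_assoc] using this)
          (D_cube (mul_mem (conj_mem_of_mem_normalizer h2 hd) (inv_mem hd)))
      rw [hK hk.1 (D_cube (hl.cent_D (h3 _ zD) (h3 _ aD)))]
      exact one_mem _
  obtain ⟨ψ, hψ, pz, pa⟩ : ∃ ψ : L →* G, Loc ψ ∧ ψ z = φ a ∧ ψ a = φ z :=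
    ⟨_, hl.conj u, hh.uz, hh.ua⟩
  obtain ⟨l, rfl⟩ := hψ.cent (g := k) (pz ▸ ka)
  have K1 : ψ (a * l * a⁻¹) ∈ K := by
    rw [← cj ψ rfl, pa]; exact conj_mem_of_mem_normalizer (k3 zD) hk
  have K2 : ψ (a⁻¹ * l * a) ∈ K := by
    rw [map_mul, map_mul, map_inv, pa]; exact inv_conj_mem_of_mem_normalizer (k3 zD) hk
  have h20 : ∀ w, ψ w ∈ K → ((w ^ 2) ^ 2) ^ 5 = 1 := fun w hw => hψ.eq1.mp (hK
    (by simpa using pow_mem (pow_mem (pow_mem hw 2) 2) 5) (by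
      rw [← map_pow, pow_right_comm, exp60, map_one]))
  obtain ⟨l2, l3, hs⟩ := sel l (hψ.cm.mp (pz ▸ ka)) (fun e => k0 (hψ.eq1.mpr e))
    (h20 _ (map_mul ψ _ _ ▸ mul_mem hk K1))
    (h20 _ (by rw [map_mul, map_mul]; exact mul_mem (mul_mem hk hk) K1))
    (h20 _ (by rw [map_mul, map_mul, map_mul]; exact mul_mem (mul_mem (mul_mem hk K1) hk) K2))
  obtain ⟨w1, w2⟩ := rel2.2.2.1.2.2.2.2.2.2.2.2.2
  obtain ⟨j, ej⟩ := hψ.mem (φ x3) (by rw [pz, cj φ w2, map_inv]; exact inv_mem (mem_zpowers _))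
  have fin : ∀ c : L, c * a = a * c → c * z = z * c → ψ (c * l * c⁻¹) ∈ K →
      c * l * c⁻¹ * j = j * (c * l * c⁻¹) → ∃ x, x * x = 1 ∧ x ≠ 1 ∧ (φ z * x) ^ 3 = 1 ∧
      x * φ a = φ a * x ∧ x * φ p = φ p * x ∧ x * φ x3 = φ x3 * x := fun c c1 c2 c3 c4 =>
    ⟨ψ (c * l * c⁻¹), by rw [← map_mul, conj_mul, l2]; simp, fun e => k0 (hψ.eq1.mpr
      (conj_eq_one_iff.mp (hψ.eq1.mp e))), by
        have : a * (c * l * c⁻¹) = c * (a * l) * c⁻¹ := by
          rw [← mul_assoc, ← mul_assoc, ← c1, mul_assoc c]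
        rw [← pa, ← map_mul, ← map_pow, this, conj_pow, l3]
        simp, by
        rw [← pz, hψ.cm]
        exact Commute.mul_left (Commute.mul_left c2 (hψ.cm.mp (pz ▸ ka))) (Commute.inv_left c2),
      (kl.mem_cent.mp (k2 c3)).1, by rw [← ej, hψ.cm, c4]⟩
  rcases hs j (hψ.cj' (by rw [ej, map_inv, pz, cj φ w2, map_inv]))
    (hψ.cj' (by rw [ej, map_inv, pa, cj φ w1, map_inv]))
    (hψ.eq1.mp (by rw [map_mul, ej, ← map_mul, ← pow_two, rel.1.2.2.1, map_one])) with e | e | e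
  · exact fin 1 (by simp) (by simp) (by simpa using hk) (by simpa using e)
  · exact fin a rfl rel2.1.2.2.2.2.2.1.symm K1 e
  · exact fin a⁻¹ (by simp) (Commute.inv_left rel2.1.2.2.2.2.2.1.symm) (by simpa using K2)
      (by simpa using e)

theorem Hyp.moore [Finite G] (hh : Hyp φ u) : ∃ x : G,
    Pres.Moore ![φ z, x, φ x2, φ x3, φ x4, φ x5] := by
  obtain ⟨x, h1, h2, h3, h4, h5, h6⟩ := hh.exists_inv
  have hl := hh.loc
  obtain ⟨⟨e1, e2, -⟩, ⟨-, -, -, e3, -⟩, ⟨-, -, f1, f2, f3, f4, f5, f6, f7, -⟩, -⟩ := rel2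
  obtain ⟨⟨a0, a2, a3, a4, a5⟩, ⟨b2, b3, b4⟩, c2, c3, c4, c5, d1, d2, d3⟩ := rel
  have h7 : x * φ x4 = φ x4 * x := by rw [← e1, map_mul]; exact Commute.mul_right h6 h4
  have h8 : x * φ x5 = φ x5 * x := by rw [← e2, map_mul]; exact Commute.mul_right h6 h5
  obtain ⟨ψ, hψ, pz, pa⟩ : ∃ ψ : L →* G, Loc ψ ∧ ψ z = φ (a * a * p) ∧ ψ a = φ z :=
    ⟨_, (hl.conj u).conj (φ h), by
      change φ h * (u * φ z * u⁻¹) * (φ h)⁻¹ = _
      rw [hh.uz, cj φ f2], by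
      change φ h * (u * φ a * u⁻¹) * (φ h)⁻¹ = _
      rw [hh.ua, hl.cm.mpr f1, mul_inv_cancel_right]⟩
  have g1 : x * ψ z = ψ z * x := by
    rw [pz, map_mul, map_mul]; exact Commute.mul_right (Commute.mul_right h4 h4) h5
  have g2 : φ x2 * ψ z = ψ z * φ x2 := by rw [pz, hl.cm, f3]
  have g3 : φ x4 * ψ z * (φ x4)⁻¹ = (ψ z)⁻¹ := by rw [pz, cj φ f4, map_inv]
  obtain ⟨l, rfl⟩ := hψ.cent g1
  obtain ⟨k, ek⟩ := hψ.cent g2
  obtain ⟨j, ej⟩ := hψ.mem (φ x4) (by rw [g3]; exact inv_mem (mem_zpowers _))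
  have sq : ∀ {x : L}, x ^ 2 = 1 → φ x * φ x = 1 := fun e => by
    rw [← map_mul, ← pow_two, e, map_one]
  have h9 := cube l (hψ.cm.mp g1) (hψ.eq1.mp (by rw [map_mul, h1])) (fun e => h2 (hψ.eq1.mpr e))
    (hψ.eq1.mp (by rw [map_pow, map_mul, pa, h3])) k (hψ.cm.mp (ek ▸ g2))
    (hψ.eq1.mp (by rw [map_mul, ek, sq a2])) (hψ.cj' (by rw [ek, map_inv, pa, cj φ f6, map_inv]))
    j (hψ.cj' (by rw [ej, g3, map_inv])) (hψ.cj' (by rw [ej, map_inv, pa, cj φ f7, map_inv]))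
    (hψ.eq1.mp (by rw [map_mul, ej, sq a4])) (hψ.cm.mp (ej ▸ h7.symm))
    (hψ.cm.mp (by rw [ej, ek, hl.cm, f5]))
  have h10 : (ψ l * φ x2) ^ 3 = 1 := by rw [← ek, ← map_mul, ← map_pow, h9, map_one]
  have pw : ∀ {x y : L} {n : ℕ}, (x * y) ^ n = 1 → (φ x * φ y) ^ n = 1 := fun e => by
    rw [← map_mul, ← map_pow, e, map_one]
  have pc : ∀ {y : L}, y ^ 2 = 1 → ψ l * φ y = φ y * ψ l → (ψ l * φ y) ^ 2 = 1 := fun e e' => by
    rw [Commute.mul_pow e', ← map_pow φ, e, pow_two, h1]; simp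
  refine ⟨ψ l, fun i hi => ?_, fun i hi => ?_, fun i j hi => ?_, fun i j hi => ?_⟩
  · fin_cases i <;> simp at hi
    exact z3
  · fin_cases i <;> simp at hi
    exacts [(pow_two _).trans h1, (pow_two _).trans (sq a2), (pow_two _).trans (sq a3),
      (pow_two _).trans (sq a4), (pow_two _).trans (sq a5)]
  · fin_cases i <;> fin_cases j <;> simp at hi
    exacts [h3, h10, pw b2, pw b3, pw b4]
  · fin_cases i <;> fin_cases j <;> simp at hi
    exacts [pw c2, pw c3, pw c4, pw c5, pc a3 h6, pc a4 h7, pc a5 h8, pw d1, pw d2, pw d3]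

theorem Hyp.equiv [Finite G] (hh : Hyp φ u) (hS : IsSylowIn 3 (D φ) ⊤) :
    Nonempty (G ≃* alternatingGroup (Fin 8)) := by
  have hl := hh.loc
  obtain ⟨x, hx⟩ := hh.moore
  obtain ⟨ψ, hψ⟩ := Pres.exists_hom_alt 6 _ hx
  set g : Fin 6 → alternatingGroup (Fin 8) := fun i => ⟨Pres.altGen 6 i, Pres.altGen_mem 6 i⟩
  have h0 : ψ (g 0) = φ z := hψ 0
  have h1 : ψ (g 3 * g 4) = φ a := by
    rw [map_mul, hψ 3, hψ 4, ← rel2.1.1, map_mul]
    change φ x3 * (φ x3 * φ a) = _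
    rw [← mul_assoc, ← map_mul, ← pow_two, rel.1.2.2.1, map_one, one_mul]
  have hs := alternatingGroup.isSimpleGroup (α := Fin 8) (by simp)
  have inj : Function.Injective ψ := (MonoidHom.ker_eq_bot_iff ψ).mp
    (ψ.normal_ker.eq_bot_or_eq_top.resolve_right fun e => rel2.1.2.2.2.1 (hl.eq1.mp
      (h0 ▸ (e.ge (mem_top (g 0)) :))))
  have hM : ∀ l, φ l ∈ ψ.range := range_le φ ⟨_, h0⟩ ⟨_, hψ 2⟩ ⟨_, hψ 3⟩ ⟨_, hψ 4⟩ ⟨_, hψ 5⟩
  have hD : D φ ≤ ψ.range := fun d hd => by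
    obtain ⟨i, -, j, -, rfl⟩ := mem_D.mp hd
    exact hM _
  have uH : u ∈ ψ.range := by
    have d : (AltM.n : AltM.Al 0) * g 0 * AltM.n⁻¹ = g 3 * g 4 ∧
      (AltM.n : AltM.Al 0) * (g 3 * g 4) * AltM.n⁻¹ = g 0 := by decide +kernel
    have e1 := congrArg ψ d.1
    have e2 := congrArg ψ d.2
    rw [map_mul, map_mul, map_inv, h0, h1] at e1 e2
    have nH : ψ (AltM.n : AltM.Al 0) ∈ ψ.range := ⟨_, rfl⟩
    generalize ψ (AltM.n : AltM.Al 0) = n at e1 e2 nH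
    generalize ψ.range = H at nH hD
    have := hD (hl.cent_D (g := u⁻¹ * n) (by
      rw [← mul_inv_eq_iff_eq_mul]
      calc _ = u⁻¹ * (n * φ z * n⁻¹) * u := by group
        _ = _ := by rw [e1, ← hh.uz]; group) (by
      rw [← mul_inv_eq_iff_eq_mul]
      calc _ = u⁻¹ * (n * φ a * n⁻¹) * u := by group
        _ = _ := by rw [e2, ← hh.ua]; group))
    simpa using mul_mem nH (inv_mem this)
  have : Fact (Nat.Prime 3) := ⟨Nat.prime_three⟩
  have hc : ∀ y ∈ ψ.range, orderOf y = 3 → ∃ i, HC ψ.range (bif i then φ z else φ (z * a)) y := by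
    intro y hy o
    obtain ⟨n, hn, e⟩ := (hS.of_le hD le_top).exists_le_conj (isPGroup_zpowers_of_orderOf_eq o)
      (zpowers_le.mpr hy)
    obtain ⟨i, hi, j, hj, e⟩ := mem_D.mp (Local.mem_conj_smul_iff.mp (e (mem_zpowers y)))
    have e' : HC ψ.range (φ (z ^ i * a ^ j)) y := ⟨n, hn, by rw [← e]; group⟩
    rcases cls_D i hi j hj with e0 | ⟨l, -, e | e | e⟩
    · obtain ⟨k, -, rfl⟩ := e'
      rw [e0, map_one, mul_one, mul_inv_cancel, orderOf_one] at o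
      omega
    · exact ⟨true, HC.trans ⟨_, hM l, cj φ e⟩ e'⟩
    · exact ⟨true, HC.trans ⟨_, uH, hh.uz⟩ (HC.trans ⟨_, hM l, cj φ e⟩ e')⟩
    · exact ⟨false, HC.trans ⟨_, hM l, cj φ e⟩ e'⟩
  have top := AltM.eq_top_of_wc (m := 0) (by norm_num) ψ inj fun y hy o =>
    wc_of_classes _ (hc y hy o) (fun w hw e => hc w hw (by
      obtain ⟨k, rfl⟩ := isConj_iff.mp e
      exact ((MulAut.conj k).orderOf_eq y).trans o)) (fun i j e => by
        cases i <;> cases j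
        exacts [⟨1, one_mem _, by simp⟩, absurd e.symm hh.nc, absurd e hh.nc,
          ⟨1, one_mem _, by simp⟩]) fun i k e => by
        cases i
        · rcases hh.cy k e with e | e
          exacts [hD e, by simpa using mul_mem (hD e) (inv_mem uH)]
        · obtain ⟨l, rfl⟩ := hl.cent e
          exact hM l
  exact ⟨(MulEquiv.ofBijective ψ ⟨inj, MonoidHom.range_eq_top.mp top⟩).symm⟩

end L8

end Cfsg.Agent.Char
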