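import Cfsg.Agent.Char.Lat

/-!
# The lattice of the special classes of `3³ : S₄`
-/

set_option autoImplicit false

namespace Cfsg.Agent.Char.Lat

/-- The residual Gram matrix. -/
def R27 (j l : ℕ) : ℤ :=
  ([[2, 0, 1, -1, 0, -1, 0, 0, 0], [0, 2, 0, 1, -1, 0, -1, -1, -1],
    [1, 0, 3, -1, -1, -1, 1, -1, 1], [-1, 1, -1, 3, -1, 1, -1, -1, -1],
    [0, -1, -1, -1, 3, 0, 0, 1, 1], [-1, 0, -1, 1, 0, 3, 0, 1, 1], [0, -1, 1, -1, 0, 0, 3, 1, 1],
    [0, -1, -1, -1, 1, 1, 1, 4, 1], [0, -1, 1, -1, 1, 1, 1, 1, 4]].getD j []).getD l 0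

/-- The weights. -/
def W27 (j : ℕ) : St :=
  (64 ^ j, [-3, 4, 0, -2, 3, -4, 0, 3, 0].getD j 0, [0, -2, 0, -2, 0, 2, -3, 0, -3].getD j 0,
    [3, 1, -9, -2, -3, -1, 3, -3, 3].getD j 0)

/-- The basis in terms of the columns. -/
def G27 (j : ℕ) (k : Fin 9) : ℤ :=
  ([[0, 0, 0, 0, 0, 0, 0, 0, 648], [0, 0, 0, 0, 0, 216, -216, 0, 0],
    [-18, -72, -72, 162, 0, 0, 0, 0, 324], [-54, 0, 0, -162, 0, 216, 0, 0, -324],
    [54, 0, 0, -162, 0, -216, 0, -162, 0], [-54, 0, 0, -162, 0, -216, -216, 0, -324],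
    [0, -108, 0, 0, -324, -216, 0, 0, 0], [54, 0, 0, -162, 0, -216, 0, 162, 0],
    [0, -108, 0, 0, 324, -216, 0, 0, 0]].getD j []).getD k 0

/-- The norms of the columns. -/
def N27 (k : Fin 9) : ℤ := [108, 54, 81, 12, 6, 9, 9, 24, 2].getD k 0

/-- The values of the trivial character. -/
def T27 (k : Fin 9) : ℤ := [1, 1, 1, 1, 1, 1, 1, 2, 0].getD k 0

/-- The coefficients of the trivial character. -/
def t27 (j : ℕ) : ℤ := [0, 0, 0, 0, -1, -1, -1, 0, 0].getD j 0

/-- The four cubic forms. -/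
def cub (n : Fin 4) (x e w : ℤ) : ℤ :=
  match n with
  | 0 => 4 * (e * e * e) - (2 * (x * x * e) + 3 * (x * x * w) - 2 * (x * e * e) - 2 * (x * e * w) +
      3 * (x * w * w) - 2 * (e * e * w) + 2 * (e * w * w))
  | 1 => 4 * (e * e * e) - (3 * (x * x * e) + 5 * (x * e * e) - 4 * (e * e * w))
  | 2 => 4 * (e * e * e) - (-(x * x * e) - 5 * (x * e * e) - 2 * (x * e * w) + 4 * (e * e * w) +
      8 * (e * w * w))
  | 3 => 8 * (e * e * e) - (x * x * e + 2 * (x * e * e) + 5 * (x * e * w) - 4 * (e * e * w) +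
      4 * (e * w * w))

/-- The test at the leaves. -/
def leaf27 (L : List St) : Bool :=
  [0, 1, 2, 3].any fun n => L.all fun p => cub n p.2.1 p.2.2.1 p.2.2.2 == 0

theorem search27 : search leaf27 (levels W27 R27 0 9) [] = true := by decide +kernel

theorem gram27 : ∀ j < 9, ∀ l < 9,
    ∑ k, G27 j k * G27 l k * N27 k = 648 * 648 * (R27 j l + t27 j * t27 l) := by decide +kernel

theorem triv27 : ∀ j < 9, ∑ k, G27 j k * T27 k = 648 * t27 j := by decide +kernel

theorem coord27 : ∀ k : Fin 9,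
    (∑ j ∈ Finset.range 9, (W27 j).2.1 * G27 j k = if k = 0 then 648 else 0) ∧
    (∑ j ∈ Finset.range 9, (W27 j).2.2.1 * G27 j k = if k = 1 then 648 else 0) ∧
    (∑ j ∈ Finset.range 9, (W27 j).2.2.2 * G27 j k = if k = 2 then 648 else 0) := by
  decide +kernel

theorem dvd27 (V : Fin 9 → ℤ) (h1 : (2 * V 0 - V 1 - V 2) % 9 = 0)
    (h2 : (2 * V 1 - V 0 - V 2) % 9 = 0) (h3 : (V 3 + V 0) % 2 = 0) (h4 : (V 4 + V 1) % 2 = 0)
    (h5 : (3 * V 5 - V 0 - V 1 - V 2) % 9 = 0) (h6 : (3 * V 6 - V 0 - V 1 - V 2) % 9 = 0)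
    (h7 : (V 0 + V 3 + V 7) % 4 = 0) (h8 : (V 0 - V 3 + 2 * V 8) % 4 = 0) :
    ∀ j < 9, 648 ∣ ∑ k, G27 j k * V k := by
  intro j hj
  interval_cases j <;> simp [G27, Fin.sum_univ_succ] <;> omega

theorem cub_neg (n : Fin 4) (x e w : ℤ) : cub n (-x) (-e) (-w) = -cub n x e w := by
  fin_cases n <;> simp only [cub] <;> ring

theorem exists_cub {ι : Type*} [Fintype ι] (o : ι) (V : ι → Fin 9 → ℤ)
    (hV : ∀ k l, ∑ i, V i k * V i l = if k = l then N27 k else 0) (ho : ∀ k, V o k = T27 k)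
    (hd : ∀ i, ∀ j < 9, 648 ∣ ∑ k, G27 j k * V i k) :
    ∃ n, ∀ i, cub n (V i 0) (V i 1) (V i 2) = 0 := by
  classical
  let c : ι → ℕ → ℤ := fun i j => (∑ k, G27 j k * V i k) / 648
  have hc : ∀ i, ∀ j < 9, 648 * c i j = ∑ k, G27 j k * V i k :=
    fun i j hj => Int.mul_ediv_cancel' (hd i j hj)
  have hco : ∀ j < 9, c o j = t27 j := fun j hj => by
    have := hc o j hj
    simp only [ho, triv27 j hj] at this
    omega
  obtain ⟨L, h1, h2⟩ := exists_leaf (Finset.univ.erase o) c W27 R27 leaf27 9 (fun j hj l hl => by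
    have h3 : 648 * 648 * ∑ i, c i j * c i l = ∑ k, G27 j k * G27 l k * N27 k := by
      calc _ = ∑ i, (648 * c i j) * (648 * c i l) := by
            rw [Finset.mul_sum]; exact Finset.sum_congr rfl fun i _ => by ring
        _ = ∑ k, ∑ m, G27 j k * G27 l m * ∑ i, V i k * V i m := by
            simp only [hc _ j hj, hc _ l hl, Finset.sum_mul_sum]
            rw [Finset.sum_comm]
            refine Finset.sum_congr rfl fun k _ => ?_
            rw [Finset.sum_comm]
            refine Finset.sum_congr rfl fun m _ => ?_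
            rw [Finset.mul_sum]
            exact Finset.sum_congr rfl fun i _ => by ring
        _ = _ := by simp [hV]
    rw [gram27 j hj l hl, ← Finset.add_sum_erase _ _ (Finset.mem_univ o), hco j hj,
      hco l hl] at h3
    omega) search27
  have h4 : ∀ (i : ι) (f : ℕ → ℤ) (m : Fin 9),
      (∀ k, ∑ j ∈ Finset.range 9, f j * G27 j k = if k = m then 648 else 0) →
      ∑ j ∈ Finset.range 9, c i j * f j = V i m := by
    intro i f m hf
    have : 648 * ∑ j ∈ Finset.range 9, c i j * f j = 648 * V i m := by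
      calc _ = ∑ j ∈ Finset.range 9, ∑ k, f j * G27 j k * V i k := by
            rw [Finset.mul_sum]
            refine Finset.sum_congr rfl fun j hj => ?_
            rw [← mul_assoc, hc i j (Finset.mem_range.mp hj), Finset.sum_mul]
            exact Finset.sum_congr rfl fun k _ => by ring
        _ = _ := by
            rw [Finset.sum_comm]
            simp [← Finset.sum_mul, hf]
    omega
  have h5 : ∀ i, (st W27 9 (c i)).2 = (V i 0, V i 1, V i 2) := fun i => by
    simp only [st, Prod.snd_sum, Prod.ext_iff, Prod.fst_sum, Prod.smul_snd, Prod.smul_fst,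
      smul_eq_mul]
    exact ⟨h4 i _ _ fun k => (coord27 k).1, h4 i _ _ fun k => (coord27 k).2.1,
      h4 i _ _ fun k => (coord27 k).2.2⟩
  simp only [leaf27, List.any_eq_true, List.all_eq_true, beq_iff_eq] at h1
  obtain ⟨n, -, hn⟩ := h1
  refine ⟨n, fun i => ?_⟩
  by_cases hi : i = o
  · rw [hi, ho, ho, ho]
    clear hn
    revert n
    decide
  rcases h2 i (Finset.mem_erase.mpr ⟨hi, Finset.mem_univ i⟩) with e | e | e
  · simpa [h5] using hn _ e
  · simpa [h5, cub_neg] using hn _ e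
  · have := h5 i
    rw [e] at this
    simp only [Prod.snd_zero, Prod.ext_iff, Prod.fst_zero] at this
    rw [← this.1, ← this.2.1, ← this.2.2]
    clear hn
    revert n
    decide

theorem cube27 {ι : Type*} [Fintype ι] {X E W : ι → ℤ} {n : Fin 4}
    (h : ∀ i, cub n (X i) (E i) (W i) = 0) (r : ι → ℂ)
    (h1 : ∑ i, X i * X i * E i * r i = 23328) (h2 : ∑ i, X i * X i * W i * r i = 0)
    (h3 : ∑ i, X i * E i * E i * r i = 11664) (h4 : ∑ i, X i * E i * W i * r i = 17496)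
    (h5 : ∑ i, X i * W i * W i * r i = 26244) (h6 : ∑ i, E i * E i * W i * r i = 17496)
    (h7 : ∑ i, E i * W i * W i * r i = 13122) : ∑ i, E i * E i * E i * r i = 14580 := by
  have h0 : ∑ i, (cub n (X i) (E i) (W i) : ℂ) * r i = 0 := by simp [h]
  fin_cases n <;> simp only [cub] at h0 <;> push_cast at h0 <;>
    simp only [sub_mul, add_mul, neg_mul, mul_assoc _ _ (r _), Finset.sum_add_distrib,
      Finset.sum_sub_distrib, Finset.sum_neg_distrib, ← Finset.mul_sum] at h0 h1 h2 h3 h4 h5 h6 h7 ⊢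
  · linear_combination (h0 + 2 * h1 + 3 * h2 - 2 * h3 - 2 * h4 + 3 * h5 - 2 * h6 + 2 * h7) / 4
  · linear_combination (h0 + 3 * h1 + 5 * h3 - 4 * h6) / 4
  · linear_combination (h0 - h1 - 5 * h3 - 2 * h4 + 4 * h6 + 8 * h7) / 4
  · linear_combination (h0 + h1 + 2 * h3 + 5 * h4 - 4 * h6 + 4 * h7) / 8

end Cfsg.Agent.Char.Lat
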