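import Cfsg.Agent.Char.A9Mod
import Cfsg.Agent.Char.Lat27

/-!
# Characters of a group with a strongly embedded `3³ : S₄`
-/

set_option autoImplicit false

namespace Cfsg.Agent.Char.A9

open scoped ComplexConjugate
open Subgroup Complex

variable {G : Type*} [Group G] {H J : Subgroup G} {F : X648 → G} {χ : G → ℂ}

/-- Conjugacy in the model. -/
def Cj (x y : X648) : Prop := ∃ z, mx z x = mx y z

instance (x y : X648) : Decidable (Cj x y) := inferInstanceAs (Decidable (∃ z, mx z x = mx y z))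

theorem Mod.cyc (h : Mod H F) (hχ : IsCharacter G χ) (y : X648) (n : ℕ) [NeZero n] (lab : List ℕ)
    (hy : pw y n = (i0, 0)) (hl : ∀ k < n, Cj (pw y k) (rep (lab.getD k 0)))
    (a b : ℕ) (h3 : 3 ∣ a * n) (h4 : 4 ∣ b * n) : ∃ m : ℕ, ∑ k ∈ Finset.range n,
      om ^ (a * k % 3) * I ^ (b * k % 4) * χ (F (rep (lab.getD k 0))) = n * m := by
  have hn : F y ^ n = 1 := by rw [← h.pow, hy, h.one]
  have hz : (om ^ a * I ^ b) ^ n = 1 := by
    obtain ⟨c, hc⟩ := h3
    obtain ⟨d, hd⟩ := h4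
    rw [mul_pow, ← pow_mul, ← pow_mul, hc, hd, pow_mul, pow_mul, om_cube, I_pow_four]
    simp
  obtain ⟨m, hm⟩ := char_param_mult hχ (fun k : ZMod n => F y ^ k.val) (pow_val_add hn)
    (fun k => (om ^ a * I ^ b) ^ k.val) (fun k l => by
      rw [← pow_add, ZMod.val_add, ← pow_eq_pow_mod _ hz])
  refine ⟨m, ?_⟩
  rw [ZMod.card] at hm
  rw [← hm]
  obtain ⟨n, rfl⟩ := Nat.exists_eq_succ_of_ne_zero (NeZero.ne n)
  rw [← Fin.sum_univ_eq_sum_range
    (fun k => om ^ (a * k % 3) * I ^ (b * k % 4) * χ (F (rep (lab.getD k 0))))]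
  refine Finset.sum_congr rfl fun k _ => ?_
  obtain ⟨z, hz⟩ := hl k k.2
  rw [← classFun_of_isConj (char_isClassFunction hχ) (h.isConj z hz), h.pow,
    ← pow_eq_pow_mod _ om_cube, ← pow_eq_pow_mod _ I_pow_four, mul_pow, ← pow_mul, ← pow_mul]
  rfl

/-- Representatives in the translation group. -/
def r3 : ℕ → V27
  | 0 => 0
  | 1 => (0, 0, 1)
  | 2 => (1, 1, 0)
  | _ => (1, 1, 1)

theorem Hyp.values_j (h : Hyp H J F) (hχ : IsCharacter G χ) : ∃ m0 m1 m2 m3 : ℤ,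
    χ (F (rep 0)) = m0 + 3 * m1 - 4 * m3 ∧ χ (F (rep 1)) = m0 - 3 * m2 + 2 * m3 ∧
    χ (F (rep 2)) = m0 - 3 * m1 + 3 * m2 - m3 ∧ χ (F (rep 9)) = m0 + 6 * m1 + 12 * m2 + 8 * m3 := by
  obtain ⟨m0, h0⟩ := char_param_mult hχ (fun v => F (i0, v)) h.par.add (fun _ => 1) (by simp)
  obtain ⟨m1, h1⟩ := char_param_mult hχ (fun v => F (i0, v)) h.par.add (fun v => omz v.1) (fun _ _ => omz_add _ _)
  obtain ⟨m2, h2⟩ := char_param_mult hχ (fun v => F (i0, v)) h.par.add (fun v => omz v.1 * omz v.2.1) (fun _ _ => by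
    simp only [Prod.fst_add, Prod.snd_add, omz_add]; ring)
  obtain ⟨m3, h3⟩ := char_param_mult hχ (fun v => F (i0, v)) h.par.add (fun v => omz v.1 * omz v.2.1 * omz v.2.2)
    (fun _ _ => by simp only [Prod.fst_add, Prod.snd_add, omz_add]; ring)
  have c : ∀ v, χ (F (i0, v)) = χ (F (rep ([9, 0, 1, 2].getD (cls3 v) 0))) := fun v => by
    rw [show rep ([9, 0, 1, 2].getD (cls3 v) 0) = (i0, r3 (cls3 v)) by revert v; decide]
    exact classFun_of_isConj (char_isClassFunction hχ) ((h.isConj_j _ _).mpr (by revert v; decide))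
  have k5 : (Fintype.card V27 : ℂ) = 27 := by simp
  simp only [c] at h0 h1 h2 h3
  simp +decide only [sum_V27, sum_zmod3, cls3, ↓reduceIte, omz_zero, omz_one, omz_two, k5,
    Nat.reduceAdd, List.getD_cons_succ, List.getD_cons_zero] at h0 h1 h2 h3
  generalize χ (F (rep 0)) = X at *
  generalize χ (F (rep 1)) = E at *
  generalize χ (F (rep 2)) = W at *
  generalize χ (F (rep 9)) = d at *
  have e2 : d - 3 * E + 2 * W = 27 * m2 := by
    linear_combination h2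
  have e3 : d - 3 * X + 3 * E - W = 27 * m3 := by
    linear_combination h3
  refine ⟨m0, m1, m2, m3, ?_, ?_, ?_, ?_⟩ <;> push_cast
  · linear_combination (h0 + 3 * h1 - 4 * e3) / 27
  · linear_combination (h0 - 3 * e2 + 2 * e3) / 27
  · linear_combination (h0 - 3 * h1 + 3 * e2 - e3) / 27
  · linear_combination (h0 + 6 * h1 + 12 * e2 + 8 * e3) / 27

/-- A square root of three. -/
noncomputable def rt3 : ℂ := I * (-1 - 2 * om)

theorem rt3_sq : rt3 * rt3 = 3 := by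
  unfold rt3
  linear_combination (-1 - 2 * om) ^ 2 * I_sq - 4 * om_sq

theorem conj_rt3 : conj rt3 = rt3 := by
  have h1 : conj rt3 * conj rt3 = 3 := by rw [← map_mul, rt3_sq]; simp [map_ofNat]
  have h2 : (conj rt3 - rt3) * (conj rt3 + rt3) = 0 := by linear_combination h1 - rt3_sq
  rcases mul_eq_zero.mp h2 with h | h
  · exact sub_eq_zero.mp h
  · have h3 := congrArg re (mul_conj rt3)
    have h4 := normSq_nonneg rt3
    rw [eq_neg_of_add_eq_zero_left h, mul_neg, rt3_sq] at h3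
    simp only [neg_re, re_ofNat, ofReal_re] at h3
    linarith

theorem Hyp.values (h : Hyp H J F) (hχ : IsCharacter G χ) : ∃ V : Fin 9 → ℤ,
    (∀ k : Fin 9, k.val < 7 → χ (F (rep k)) = V k) ∧ χ (F (rep 7)) = V 7 / 2 + rt3 * V 8 ∧
    χ (F (rep 8)) = V 7 / 2 - rt3 * V 8 ∧ ∀ j < 9, 648 ∣ ∑ k, Lat.G27 j k * V k := by
  obtain ⟨m0, m1, m2, m3, hX, hE, hW, hd⟩ := h.values_j hχ
  have c5 := h.cyc hχ (rep 5) 9 [9, 5, 5, 2, 5, 5, 2, 5, 5] (by decide) (by decide +kernel)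
  have c6 := h.cyc hχ (rep 6) 9 [9, 6, 6, 2, 6, 6, 2, 6, 6] (by decide) (by decide +kernel)
  have c4 := h.cyc hχ (rep 4) 6 [9, 4, 1, 12, 1, 4] (by decide) (by decide +kernel)
  have c7 := h.cyc hχ (rep 7) 12 [9, 7, 3, 11, 0, 8, 10, 8, 0, 11, 3, 7] (by decide)
    (by decide +kernel)
  obtain ⟨p, hp⟩ := c5 1 0 (by decide) (by decide)
  obtain ⟨q, hq⟩ := c6 1 0 (by decide) (by decide)
  obtain ⟨b0, hb0⟩ := c4 0 0 (by decide) (by decide)
  obtain ⟨b1, hb1⟩ := c4 1 0 (by decide) (by decide)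
  obtain ⟨y0, hy0⟩ := c7 0 0 (by decide) (by decide)
  obtain ⟨y1, hy1⟩ := c7 0 1 (by decide) (by decide)
  obtain ⟨y2, hy2⟩ := c7 0 2 (by decide) (by decide)
  obtain ⟨y3, hy3⟩ := c7 0 3 (by decide) (by decide)
  obtain ⟨z0, hz0⟩ := c7 1 0 (by decide) (by decide)
  obtain ⟨z1, hz1⟩ := c7 1 1 (by decide) (by decide)
  obtain ⟨z2, hz2⟩ := c7 1 2 (by decide) (by decide)
  obtain ⟨z3, hz3⟩ := c7 1 3 (by decide) (by decide)
  simp only [Finset.sum_range_succ, Finset.sum_range_zero, Nat.reduceMul, Nat.reduceMod,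
    Nat.zero_mod, zero_mul, mul_zero, one_mul, mul_one, pow_zero, pow_one, om_sq, I_sq,
    I_pow_three, List.getD_cons_succ, List.getD_cons_zero, Nat.cast_ofNat, zero_add]
    at hp hq hb0 hb1 hy0 hy1 hy2 hy3 hz0 hz1 hz2 hz3
  have e5 : χ (F (rep 5)) = m0 + 6 * m2 + 2 * m3 - 3 * p := by
    linear_combination (hd + 2 * hW - hp) / 3
  have e6 : χ (F (rep 6)) = m0 + 6 * m2 + 2 * m3 - 3 * q := by
    linear_combination (hd + 2 * hW - hq) / 3
  have e4 : χ (F (rep 4)) = 2 * (b0 - b1) - (m0 - 3 * m2 + 2 * m3) := by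
    linear_combination (hb0 - hb1) / 3 - hE
  have e3 : χ (F (rep 3)) = m0 + 3 * m1 - 4 * m3 - 2 * (y1 - z1 + y3 - z3) := by
    linear_combination hX - (hy1 - hz1 + hy3 - hz3) / 6
  have e3' : χ (F (rep 3)) = 2 * (y0 - z0 + y2 - z2) - (m0 + 3 * m1 - 4 * m3) := by
    linear_combination (hy0 - hz0 + hy2 - hz2) / 6 - hX
  have e7 : χ (F (rep 7)) + χ (F (rep 8)) = 2 * (y0 - z0 - (y2 - z2)) := by
    linear_combination (hy0 - hz0 - hy2 + hz2) / 6
  have e8 : rt3 * (χ (F (rep 7)) - χ (F (rep 8))) = 6 * (y1 - z1 - (y3 - z3)) := by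
    unfold rt3
    linear_combination (hy1 - hz1 - hy3 + hz3) / 2
  have e9 : m0 + 3 * m1 - 4 * m3 - 2 * (y1 - z1 + y3 - z3) =
      2 * (y0 - z0 + y2 - z2) - (m0 + 3 * m1 - 4 * m3) := by
    exact_mod_cast e3.symm.trans e3'
  refine ⟨![m0 + 3 * m1 - 4 * m3, m0 - 3 * m2 + 2 * m3, m0 - 3 * m1 + 3 * m2 - m3,
    m0 + 3 * m1 - 4 * m3 - 2 * (y1 - z1 + y3 - z3), 2 * (b0 - b1) - (m0 - 3 * m2 + 2 * m3),
    m0 + 6 * m2 + 2 * m3 - 3 * p, m0 + 6 * m2 + 2 * m3 - 3 * q, 2 * (y0 - z0 - (y2 - z2)),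
    y1 - z1 - (y3 - z3)], fun k hk => ?_, ?_, ?_, Lat.dvd27 _ ?_ ?_ ?_ ?_ ?_ ?_ ?_ ?_⟩
  · fin_cases k <;> simp [hX, hE, hW, e3, e4, e5, e6] at hk ⊢
  · simp only [Matrix.cons_val]
    push_cast
    linear_combination e7 / 2 + rt3 / 6 * e8 - (χ (F (rep 7)) - χ (F (rep 8))) / 6 * rt3_sq
  · simp only [Matrix.cons_val]
    push_cast
    linear_combination e7 / 2 - rt3 / 6 * e8 + (χ (F (rep 7)) - χ (F (rep 8))) / 6 * rt3_sq
  all_goals
    simp only [Matrix.cons_val]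
    omega

theorem gram_values {ι : Type*} [Fintype ι] (a : ι → ℕ → ℂ) (V : ι → Fin 9 → ℤ)
    (h1 : ∀ i (k : Fin 9), k.val < 7 → a i k = V i k) (h2 : ∀ i, a i 7 = V i 7 / 2 + rt3 * V i 8)
    (h3 : ∀ i, a i 8 = V i 7 / 2 - rt3 * V i 8)
    (h : ∀ k l : Fin 9, ∑ i, a i l * conj (a i k) = if k = l then (cz k : ℂ) else 0) (k l : Fin 9) :
    ∑ i, V i k * V i l = if k = l then Lat.N27 k else 0 := by
  have c : ∀ i (k : Fin 9), conj (a i k) = a i k := fun i k => by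
    by_cases hk : k.val < 7
    · rw [h1 i k hk, map_intCast]
    have : k.val = 7 ∨ k.val = 8 := by omega
    rcases this with e | e <;> simp [e, h2, h3, conj_rt3, map_ofNat]
  simp only [c] at h
  let p : Fin 9 → ℂ := fun k => if k = 8 then rt3 / 6 else 1
  let q : Fin 9 → ℂ := fun k => if k = 8 then -rt3 / 6 else if k = 7 then 1 else 0
  let σ : Fin 9 → Fin 9 := fun k => if k = 8 then 7 else k
  have e : ∀ i k, (V i k : ℂ) = p k * a i (σ k) + q k * a i (8 : Fin 9) := fun i k => by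
    by_cases k8 : k = 8
    · simp only [p, q, σ, k8, if_true]
      change _ = _ * a i 7 + _ * a i 8
      linear_combination -(rt3 / 6) * h2 i + rt3 / 6 * h3 i - V i 8 / 3 * rt3_sq
    by_cases k7 : k = 7
    · simp +decide only [p, q, σ, k7, if_true, if_false]
      change _ = _ * a i 7 + _ * a i 8
      linear_combination -h2 i - h3 i
    simp [p, q, σ, k7, k8, h1 i k (by omega)]
  have e' : ∑ i, (V i k : ℂ) * V i l =
      p k * p l * ∑ i, a i (σ l) * a i (σ k) + p k * q l * ∑ i, a i (8 : Fin 9) * a i (σ k) +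
      q k * p l * ∑ i, a i (σ l) * a i (8 : Fin 9) +
      q k * q l * ∑ i, a i (8 : Fin 9) * a i (8 : Fin 9) := by
    simp only [Finset.mul_sum, ← Finset.sum_add_distrib]
    exact Finset.sum_congr rfl fun i _ => by rw [e i k, e i l]; ring
  simp only [h] at e'
  have e'' : ∑ i, (V i k : ℂ) * V i l = ((if k = l then Lat.N27 k else 0 : ℤ) : ℂ) := by
    rw [e']
    fin_cases k <;> fin_cases l <;> simp +decide [p, q, σ, cz, Lat.N27] <;>
      first | ring1 | linear_combination (2 / 3 : ℂ) * rt3_sq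
  exact_mod_cast e''

theorem Hyp.mem_of_eee [Finite G] (h : Hyp H J F) {u : G} (h1 : IsConj (F (rep 1)) u)
    (h2 : IsConj (F (rep 1)) (u * F (rep 1))) : u ∈ J := by
  classical
  have := Fintype.ofFinite G
  choose V v1 v2 v3 v4 using fun χ : IrrCharacter G => h.values (irr_isCharacter χ.2)
  have hV := gram_values (fun (χ : IrrCharacter G) n => (χ : G → ℂ) (F (rep n))) V v1 v2 v3 h.orth
  let o : IrrCharacter G := ⟨1, irr_one⟩
  have ho : ∀ k, V o k = Lat.T27 k := fun k => by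
    have a2 : (1 : ℂ) = _ := v2 o
    have a3 : (1 : ℂ) = _ := v3 o
    by_cases hk : k.val < 7
    · have a1 : (1 : ℂ) = _ := v1 o k hk
      rw [show V o k = 1 by exact_mod_cast a1.symm]
      clear a1
      revert k
      decide
    have : k = 7 ∨ k = 8 := by omega
    rcases this with rfl | rfl
    · have : (V o 7 : ℂ) = 2 := by linear_combination -a2 - a3
      exact_mod_cast this
    · have : (V o 8 : ℂ) = 0 := by
        linear_combination rt3 / 6 * (a3 - a2) - V o 8 / 3 * rt3_sq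
      exact_mod_cast this
  obtain ⟨n, hn⟩ := Lat.exists_cub o V hV ho v4
  have x0 : ∀ χ : IrrCharacter G, (χ : G → ℂ) (F (i0, 0, 0, 1)) = V χ 0 :=
    fun χ => v1 χ 0 (by decide)
  have x1 : ∀ χ : IrrCharacter G, (χ : G → ℂ) (F (i0, 1, 1, 0)) = V χ 1 :=
    fun χ => v1 χ 1 (by decide)
  have x2 : ∀ χ : IrrCharacter G, (χ : G → ℂ) (F (i0, 1, 1, 1)) = V χ 2 :=
    fun χ => v1 χ 2 (by decide)
  have c0 : Nat.card (centralizer ({F (i0, 0, 0, 1)} : Set G)) = 108 := h.card_rep 0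
  have c1 : Nat.card (centralizer ({F (i0, 1, 1, 0)} : Set G)) = 54 := h.card_rep 1
  have c2 : Nat.card (centralizer ({F (i0, 1, 1, 1)} : Set G)) = 81 := h.card_rep 2
  have M := fun (x y z : V27) hy hxy =>
    h.sc3.classMul h.par V27_three h.isConj_j (x := x) (y := y) z hy hxy
  have m1 := M (0, 0, 1) (1, 1, 0) (0, 0, 1) (by decide) (by decide)
  have m2 := M (0, 0, 1) (1, 1, 1) (0, 0, 1) (by decide) (by decide)
  have m3 := M (0, 0, 1) (1, 1, 0) (1, 1, 0) (by decide) (by decide)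
  have m4 := M (0, 0, 1) (1, 1, 0) (1, 1, 1) (by decide) (by decide)
  have m5 := M (0, 0, 1) (1, 1, 1) (1, 1, 1) (by decide) (by decide)
  have m6 := M (1, 1, 0) (1, 1, 1) (1, 1, 0) (by decide) (by decide)
  have m7 := M (1, 1, 0) (1, 1, 1) (1, 1, 1) (by decide) (by decide)
  have m8 := card_classMul (F (i0, 1, 1, 0)) (F (i0, 1, 1, 0)) (F (i0, 1, 1, 0))
  rw [show (Finset.univ.filter _).card = 2 by decide] at m1 m3 m4
  rw [show (Finset.univ.filter _).card = 0 by decide] at m2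
  rw [show (Finset.univ.filter _).card = 3 by decide] at m5 m7
  rw [show (Finset.univ.filter _).card = 6 by decide] at m6
  simp only [x0, x1, x2, c0, c1, c2, map_intCast, Finset.mul_sum] at m1 m2 m3 m4 m5 m6 m7 m8
  have R : ∀ {f g : IrrCharacter G → ℂ} {a b : ℂ}, a = ∑ χ, f χ → a = b → (∀ χ, g χ = f χ) →
      ∑ χ, g χ = b := fun e1 e2 e3 => by rw [← e2, e1]; exact Finset.sum_congr rfl fun χ _ => e3 χ
  have m9 := Lat.cube27 hn (fun χ => Nat.card G / (χ : G → ℂ) 1)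
    (R m1 (by norm_num) fun _ => by ring) (R m2 (by norm_num) fun _ => by ring)
    (R m3 (by norm_num) fun _ => by ring) (R m4 (by norm_num) fun _ => by ring)
    (R m5 (by norm_num) fun _ => by ring) (R m6 (by norm_num) fun _ => by ring)
    (R m7 (by norm_num) fun _ => by ring)
  rw [R m8 rfl fun _ => by ring] at m9
  have m10 : Nat.card {u : G // IsConj (F (i0, 1, 1, 0)) u ∧
      IsConj (F (i0, 1, 1, 0)) (u * F (i0, 1, 1, 0))} = 5 := by
    have : (Nat.card {u : G // IsConj (F (i0, 1, 1, 0)) u ∧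
      IsConj (F (i0, 1, 1, 0)) (u * F (i0, 1, 1, 0))} : ℂ) = 5 := by
      push_cast at m9
      linear_combination m9 / 2916
    exact_mod_cast this
  have m11 := h.par.card_subtype (fun u => (IsConj (F (i0, 1, 1, 0)) u ∧
      IsConj (F (i0, 1, 1, 0)) (u * F (i0, 1, 1, 0))) ∧ u ∈ J)
    (fun v => cls3 (1, 1, 0) = cls3 v ∧ cls3 (1, 1, 0) = cls3 (v + (1, 1, 0))) (fun _ hg => hg.2)
    (fun v => by rw [← h.par.add, h.isConj_j, h.isConj_j, and_iff_left (h.par.mem' v)])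
  rw [show (Finset.univ.filter _).card = 5 by decide] at m11
  have m12 := Set.eq_of_subset_of_ncard_le (s := {u | (IsConj (F (i0, 1, 1, 0)) u ∧
      IsConj (F (i0, 1, 1, 0)) (u * F (i0, 1, 1, 0))) ∧ u ∈ J}) (t := {u | IsConj (F (i0, 1, 1, 0)) u ∧
      IsConj (F (i0, 1, 1, 0)) (u * F (i0, 1, 1, 0))}) (fun _ hg => hg.1) (m10.trans m11.symm).le
  exact ((Set.ext_iff.mp m12 u).mpr ⟨h1, h2⟩).2

end Cfsg.Agent.Char.A9
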