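import Cfsg.Agent.Char.A9Char
import Cfsg.Agent.Char.CentInv

/-!
# A strongly embedded `3³ : S₄` is the whole group
-/

set_option autoImplicit false
set_option synthInstance.maxSize 4096

namespace Cfsg.Agent.Char.A9

open Subgroup

variable {G : Type*} [Group G] {H J : Subgroup G} {F : X648 → G}

theorem cent_eu : ∀ y, mx y (rep 12) = mx (rep 12) y → mx y (rep 1) = mx (rep 1) y →
    ∃ k : Fin 3, y = pw (rep 1) k ∨ mx y (rep 12) = pw (rep 1) k := by decide +kernel

theorem card_cent_u : (Finset.univ.filter (fun z => mx z (rep 12) = mx (rep 12) z)).card = 12 := by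
  decide +kernel

theorem invol_cj : ∀ y, mx y y = (i0, 0) →
    y = (i0, 0) ∨ Cj y (rep (bif y.1.2.1 then 12 else 10)) := by decide +kernel

theorem mx_fst : ∀ x y : X648, (mx x y).1.2.1 = (x.1.2.1 ^^ y.1.2.1) ∧
    (x.1.2.1 = false → (mx x y).1.1 = x.1.1 + y.1.1) := by
  rintro ⟨i, _⟩ ⟨k, _⟩
  change (mi i k).2.1 = (i.2.1 ^^ k.2.1) ∧ (i.2.1 = false → (mi i k).1 = i.1 + k.1)
  revert i k
  decide

theorem Mod.comm (h : Mod H F) {x y : X648} (e : mx x y = mx y x) : F x * F y = F y * F x := by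
  rw [← h.mul, e, h.mul]

theorem Mod.ne_one (h : Mod H F) {x : X648} (e : x ≠ (i0, 0)) : F x ≠ 1 := by
  rw [← h.one]; exact h.inj.ne e

theorem Hyp.emb_u [Finite G] (h : Hyp H J F) (g : G) (hg : g * F (rep 12) * g⁻¹ ∈ H) : g ∈ H := by
  have uu : F (rep 12) * F (rep 12) = 1 := by rw [← h.mul, ← h.one]; rfl
  have tt : F (rep 10) * F (rep 10) = 1 := by rw [← h.mul, ← h.one]; rfl
  have e3 : F (rep 1) ^ 3 = 1 := h.par.cube V27_three _
  let C := centralizer ({F (rep 12)} : Set G)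
  let e : C := ⟨F (rep 1), mem_centralizer_singleton_iff.mpr (h.comm (by decide))⟩
  let u : C := ⟨F (rep 12), mem_centralizer_singleton_iff.mpr rfl⟩
  let t : C := ⟨F (rep 10), mem_centralizer_singleton_iff.mpr (h.comm (by decide))⟩
  have hCI : CI e u := by
    refine ⟨fun g => Subtype.ext (mem_centralizer_singleton_iff.mp g.2), Subtype.ext uu,
      orderOf_eq_prime (hp := ⟨Nat.prime_three⟩) (Subtype.ext e3)
        (fun e' => h.ne_one (by decide) (congrArg Subtype.val e')), ?_⟩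
    rintro ⟨g, hg⟩ hge
    have hge : g * F (rep 1) = F (rep 1) * g := congrArg Subtype.val hge
    obtain ⟨y, rfl⟩ := (h.mem g).mp (h.emb_rep 1 g (by
      rw [show g * F (rep (1 : Fin 9)) = _ from hge, mul_inv_cancel_right]; exact h.mem' _))
    have hg' := mem_centralizer_singleton_iff.mp hg
    rw [← h.mul, ← h.mul] at hge hg'
    obtain ⟨k, hk | hk⟩ := cent_eu y (h.inj hg') (h.inj hge)
    · exact Or.inl ⟨k, Subtype.ext (by simp [e, hk, h.pow])⟩
    · exact Or.inr ⟨k, Subtype.ext (by simp [e, u, ← h.mul, hk, h.pow])⟩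
  have hte : t * e * t⁻¹ = e⁻¹ := Subtype.ext (by
    change F (rep 10) * F (i0, 1, 1, 0) * (F (rep 10))⁻¹ = (F (i0, 1, 1, 0))⁻¹
    rw [h.conj_j, ← h.par.neg]
    rfl)
  have hc : ∀ y : C, y ^ 3 = 1 → y ≠ 1 → IsConj (F (rep 1)) y :=
    fun y h3 h1 => C.subtype.map_isConj (hCI.isConj hte h3 h1)
  have htu : ¬ IsConj (F (rep 10)) (F (rep 12)) := fun hh => by
    obtain ⟨g, hg⟩ := isConj_iff.mp hh
    have h1 := hc ⟨g * F (rep 0) * g⁻¹, mem_centralizer_singleton_iff.mpr (by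
      rw [← hg, conj_mul, conj_mul, h.comm (by decide)])⟩ (Subtype.ext (by
        change (g * F (rep 0) * g⁻¹) ^ 3 = 1
        rw [conj_pow, show F (rep 0) ^ 3 = 1 from h.par.cube V27_three _]; group)) (fun e' => by
      have : g * F (rep 0) * g⁻¹ = 1 := congrArg Subtype.val e'
      exact h.ne_one (x := rep 0) (by decide) (by simpa [mul_inv_eq_iff_eq_mul] using this))
    exact absurd ((h.isConj_j (1, 1, 0) (0, 0, 1)).mp
      (h1.trans (isConj_iff.mpr ⟨g, rfl⟩ : IsConj (F (rep 0)) _).symm)) (by decide)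
  have h16 := hCI.card_le (t := t) (Subtype.ext tt)
    (fun e' => h.ne_one (by decide) (congrArg Subtype.val e'))
    (fun e' => absurd (h.inj (congrArg Subtype.val e')) (by decide)) hte
    (fun hh => htu ((C.subtype.map_isConj hh).trans (by
      change IsConj (F (rep 10) * F (rep 12)) _
      rw [← h.mul]
      exact h.isConj (rep 11) (by decide)))) (fun a h1 h2 => by
      by_cases a1 : a * e = 1
      · rw [eq_inv_of_mul_eq_one_left a1, inv_pow, hCI.cube, inv_one]
      by_cases a2 : a * e⁻¹ = 1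
      · rw [mul_inv_eq_one.mp a2, hCI.cube]
      have h3 : a * e⁻¹ = a * e * e := by
        rw [mul_assoc, mul_right_inj, inv_eq_iff_mul_eq_one, ← pow_three, hCI.cube]
      have h4 := h.mem_of_eee (hc _ h1 a1) (by have := hc _ h2 a2; rwa [h3] at this)
      obtain ⟨v, hv⟩ := (h.par.mem _).mp ((mul_mem_cancel_right (h.par.mem' (1, 1, 0))).mp h4)
      exact Subtype.ext (by
        change (a : G) ^ 3 = 1
        rw [← hv]; exact h.par.cube V27_three v))
  have h12 : Nat.card (C ⊓ H : Subgroup G) = 12 := by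
    rw [← card_cent_u]
    exact h.card_filter _ _ (fun _ hg => hg.2) fun z => by
      rw [mem_inf, and_iff_left (h.mem' z), mem_centralizer_singleton_iff, ← h.mul, ← h.mul,
        h.inj.eq_iff]
  have hCH : C ≤ H := by
    have h1 := card_dvd_of_le (inf_le_left : C ⊓ H ≤ C)
    have h2 : 0 < Nat.card C := Nat.card_pos
    rw [h12] at h1
    rw [← eq_of_le_of_card_ge (inf_le_left : C ⊓ H ≤ C) (by omega)]
    exact inf_le_right
  obtain ⟨y, hy⟩ := (h.mem _).mp hg
  rcases invol_cj y (h.inj (by rw [h.mul, hy, conj_mul, uu, h.one]; group)) with rfl | ⟨z, hz⟩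
  · rw [h.one] at hy
    exact absurd (by simpa [eq_mul_inv_iff_mul_eq] using hy.symm) (h.ne_one (x := rep 12) (by decide))
  rw [← h.conj_iff, hy] at hz
  cases hb : y.1.2.1 <;> simp only [hb, cond_true, cond_false] at hz
  · exact absurd (isConj_iff.mpr ⟨F z * g, by rw [← hz]; group⟩ : IsConj (F (rep 12)) _).symm htu
  · refine (mul_mem_cancel_left (h.mem' z)).mp (hCH (mem_centralizer_singleton_iff.mpr ?_))
    rw [← mul_inv_eq_iff_eq_mul]
    exact Eq.trans (by group) hz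

theorem Mod.exists_transfer [Finite G] (h : Mod H F) (L : Subgroup G) {p : ℕ} [Fact p.Prime]
    (ψ : X648 → ZMod p) (hψ : ∀ x y, F x ∈ L → F y ∈ L → ψ (mx x y) = ψ x + ψ y) {x : X648}
    (hx : F x ∈ L) (hx1 : ψ x ≠ 0)
    (emb : ∀ (k : ℕ) (g : G), F x ^ k ≠ 1 → g * F x ^ k * g⁻¹ ∈ H → g ∈ H) {k : ℕ}
    (hk1 : F x ^ k ≠ 1) (hk : (F x ^ k) ^ p = 1) :
    ∃ L' ≤ L, Nat.card L ≤ p * Nat.card L' ∧ F x ∉ L' ∧ ∀ a ∈ L, a ^ p ∈ L' := by
  choose inv hinv using fun g : H.subgroupOf L => (h.mem g).mp g.2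
  let φ : H.subgroupOf L →* Multiplicative (ZMod p) := MonoidHom.mk'
    (fun g => Multiplicative.ofAdd (ψ (inv g))) fun a b => by
      rw [← ofAdd_add, ← hψ _ _ (hinv a ▸ a.1.2) (hinv b ▸ b.1.2),
        show inv (a * b) = mx (inv a) (inv b) from h.inj (by rw [h.mul, hinv, hinv, hinv]; rfl)]
  have hA : ∀ a : Multiplicative (ZMod p), a ^ p = 1 := fun a => by
    have := pow_card_eq_one' (x := a)
    rwa [Nat.card_eq_fintype_card, Fintype.card_multiplicative, ZMod.card] at this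
  have h1 := transfer_of_conj_mem φ (x := ⟨F x, hx⟩) (h.mem' x) fun k g h1 h2 =>
    emb k g (fun e => h1 (Subtype.ext e)) h2
  have h2 := index_modEq_of_conj_mem (H := H.subgroupOf L) (x := ⟨F x, hx⟩ ^ k)
    (pow_mem (h.mem' x) k) (Subtype.ext hk) fun g hg => emb k g hk1 hg
  rw [pow_eq_pow_of_modEq h2 (hA _), pow_one] at h1
  refine ⟨(MonoidHom.transfer φ).ker.map L.subtype, map_subtype_le _, ?_, ?_, fun a ha => ?_⟩
  · rw [card_map_of_injective L.subtype_injective, ← (MonoidHom.transfer φ).ker.index_mul_card,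
      index_ker]
    refine Nat.mul_le_mul_right _ ((card_le_card_group _).trans ?_)
    simp
  · rintro ⟨g, hg, e⟩
    obtain rfl : g = ⟨F x, hx⟩ := Subtype.ext e
    rw [SetLike.mem_coe, MonoidHom.mem_ker, h1] at hg
    refine hx1 ?_
    rw [← h.inj (hinv ⟨⟨F x, hx⟩, h.mem' x⟩)]
    exact hg
  · exact ⟨⟨a, ha⟩ ^ p, by rw [SetLike.mem_coe, MonoidHom.mem_ker, map_pow, hA], rfl⟩

theorem cls8_act : ∀ s t v, cls8 (act (0, false, s, t) v) = cls8 v := by decide +kernel

theorem act_of_cls8 : ∀ u v, cls8 u = cls8 v → ∃ s t, act (0, false, s, t) u = v := by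
  decide +kernel

theorem Hyp.card_le_243 [Finite G] (h : Hyp H J F) {L : Subgroup G}
    (hL : ∀ y, F y ∈ L ↔ y.1.1 = 0 ∧ y.1.2.1 = false) : Nat.card L ≤ 243 := by
  let e : V27 → L := fun v => ⟨F (i0, v), (hL _).mpr ⟨rfl, rfl⟩⟩
  have hp : Param (J.subgroupOf L) e := ⟨fun u v => Subtype.ext (h.par.add u v),
    fun u v e' => h.par.inj (congrArg Subtype.val e'), fun g => by
      rw [mem_subgroupOf, h.par.mem]
      exact exists_congr fun v => (Subtype.ext_iff (a1 := e v)).symm⟩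
  have hemb : ∀ j ∈ J.subgroupOf L, j ≠ 1 → ∀ g, g * j * g⁻¹ ∈ H.subgroupOf L →
      g ∈ H.subgroupOf L := fun j hj h1 g hg => h.emb j hj (fun e' => h1 (Subtype.ext e')) g hg
  refine Char.card_le_243 (T := J.subgroupOf L) (H := H.subgroupOf L) (sc3_of_conj_mem (comap_mono h.le) hp.comm
    (fun j hj g hg => h.norm j hj g hg) hemb (hp.mem' (0, 0, 1)) (hp.ne_one (by decide))
    (hp.cube V27_three _)) hp (fun u v => ⟨fun hc => ?_, fun hc => ?_⟩) ?_
  · by_cases hu : u = 0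
    · subst hu
      rw [hp.zero, isConj_one_right, ← hp.zero] at hc
      rw [hp.inj hc]
    obtain ⟨⟨g, hgL⟩, hg⟩ := isConj_iff.mp hc
    obtain ⟨⟨⟨ρ, ε, s, t⟩, w⟩, rfl⟩ := (h.mem g).mp
      (hemb _ (hp.mem' u) (hp.ne_one hu) _ (by rw [hg]; exact h.mem' _))
    obtain ⟨rfl, rfl⟩ : ρ = 0 ∧ ε = false := (hL _).mp hgL
    rw [← h.par.inj ((h.conj_j _ _).symm.trans (congrArg Subtype.val hg)), cls8_act]
  · obtain ⟨s, t, rfl⟩ := act_of_cls8 u v hc
    exact isConj_iff.mpr ⟨⟨F ((0, false, s, t), 0), (hL _).mpr ⟨rfl, rfl⟩⟩,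
      Subtype.ext (h.conj_j _ _)⟩
  · have h1 : normalizer (J.subgroupOf L : Set L) = H.subgroupOf L := by
      refine le_antisymm (fun g hg => hemb _ (hp.mem' (0, 0, 1)) (hp.ne_one (by decide)) g
        (h.le (Local.conj_mem_of_mem_normalizer (N := J.subgroupOf L) hg (hp.mem' _))))
        fun g hg => Local.mem_normalizer_of_conj_mem fun j hj => h.norm j hj g hg
    rw [h1, ← inf_subgroupOf_right, Nat.card_congr (subgroupOfEquivOfLe inf_le_right).toEquiv]
    exact (h.card_filter _ (fun y => y.1.1 = 0 ∧ y.1.2.1 = false) (fun _ hg => hg.1) fun z => by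
      rw [mem_inf, and_iff_right (h.mem' z), hL]).trans (by decide +kernel)

theorem even_sq : ∀ i : I24, i.2.1 = false → ∃ k, mx (k, 0) (k, 0) = (i, 0) := by decide +kernel

theorem prod_invol : ∀ s t (v : V27), ((0, false, s, t), v) = mx (mx (mx (mx
      ((0, false, true, true), v.1, v.2.1, 0) ((0, false, true, true), 0))
      ((0, false, true, false), 0, 0, v.2.2)) ((0, false, true, false), 0)) ((0, false, s, t), 0) ∧
    pw ((0, false, true, true), v.1, v.2.1, 0) 3 = ((0, false, true, true), v.1, v.2.1, 0) ∧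
    pw ((0, false, true, false), 0, 0, v.2.2) 3 = ((0, false, true, false), 0, 0, v.2.2) ∧
    pw ((0, false, s, t), 0) 3 = ((0, false, s, t), 0) := by decide +kernel

theorem Hyp.eq_top [Finite G] (h : Hyp H J F) : H = ⊤ := by
  have uu : F (rep 12) ^ 2 = 1 := by rw [← h.pow, ← h.one]; rfl
  obtain ⟨L, -, c1, hu, hL⟩ := h.exists_transfer ⊤ (p := 2) (fun y => bif y.1.2.1 then 1 else 0)
    (fun x y _ _ => by rw [(mx_fst x y).1]; cases x.1.2.1 <;> cases y.1.2.1 <;> rfl)
    (x := rep 12) (mem_top _) (by decide) (fun k g h1 h2 => h.emb_u g (by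
      rw [pow_eq_pow_mod _ uu] at h1 h2
      rcases Nat.mod_two_eq_zero_or_one k with e | e <;> simp_all)) (k := 1)
    (by rw [pow_one]; exact h.ne_one (by decide)) (by rw [pow_one, uu])
  have a1 : ∀ y, y.1.2.1 = false → F y ∈ L := by
    rintro ⟨i, v⟩ hi
    obtain ⟨k, hk⟩ := even_sq i hi
    rw [← mx_ji, h.mul, ← hk, h.mul, ← pow_two, show v = -v + -v by clear hi; revert v; decide, h.par.add,
      ← pow_two]
    exact mul_mem (hL _ (mem_top _)) (hL _ (mem_top _))
  have a2 : ∀ y, F y ∈ L → y.1.2.1 = false := fun y hy => by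
    by_contra hb
    have := a1 (mx y (rep 12)) (by rw [(mx_fst _ _).1]; simpa [rep] using hb)
    rw [h.mul, mul_mem_cancel_left hy] at this
    exact hu this
  have x3 : F (rep 5) ^ 3 = F (i0, 1, 1, 1) := by rw [← h.pow]; rfl
  have x9 : (F (rep 5) ^ 3) ^ 3 = 1 := by rw [x3]; exact h.par.cube V27_three _
  have x1 : F (rep 5) ^ 3 ≠ 1 := by rw [x3]; exact h.ne_one (by decide)
  obtain ⟨M, hML, c2, hx, hM⟩ := h.exists_transfer L (p := 3)
    (fun y => y.1.1) (fun x y hx _ => (mx_fst x y).2 (a2 x hx))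
    (x := rep 5) (a1 _ rfl) (by decide) (fun k g h1 h2 => by
      rw [← pow_mul] at x9
      rw [pow_eq_pow_mod _ x9, ← h.pow] at h1 h2
      obtain ⟨n, v, hv, e⟩ := (by decide : ∀ m < 9, pw (rep 5) m ≠ (i0, 0) →
        ∃ n : Fin 4, ∃ v, v ≠ 0 ∧ pw (pw (rep 5) m) n = (i0, v)) _ (Nat.mod_lt k (by norm_num))
        (fun e => h1 (by rw [e, h.one]))
      have e' := h.pow (pw (rep 5) (k % 9)) n
      rw [e] at e'
      exact h.emb_pow (n := n) (e' ▸ h.par.mem' v) (e' ▸ h.par.ne_one hv) g h2) x1 x9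
  have b1 : ∀ y, y.1.1 = 0 → y.1.2.1 = false → F y ∈ M := by
    rintro ⟨⟨ρ, ε, s, t⟩, v⟩ (rfl : ρ = 0) (rfl : ε = false)
    have b0 : ∀ z, z.1.2.1 = false → pw z 3 = z → F z ∈ M := fun z h1 h2 => by
      rw [← h2, h.pow]; exact hM _ (a1 z h1)
    obtain ⟨p1, p2, p3, p4⟩ := prod_invol s t v
    rw [p1, h.mul, h.mul, h.mul, h.mul]
    exact mul_mem (mul_mem (mul_mem (mul_mem (b0 _ rfl p2) (b0 _ rfl (by decide))) (b0 _ rfl p3))
      (b0 _ rfl (by decide))) (b0 _ rfl p4)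
  have c3 := h.card_le_243 (L := M) fun y => ⟨fun hy => ?_, fun hy => b1 y hy.1 hy.2⟩
  · have c4 := index_modEq_of_conj_mem (h.mem' _) uu h.emb_u
    have c5 := H.card_mul_index
    rw [h.card] at c5
    rw [card_top] at c1
    unfold Nat.ModEq at c4
    exact index_eq_one.mp (by omega)
  have hy' := a2 y (hML hy)
  refine ⟨?_, hy'⟩
  by_contra h0
  have h1 := b1 (mx y (pw (rep 5) (bif y.1.1 == 1 then 2 else 1))) (by
    rw [(mx_fst _ _).2 hy']
    generalize y.1.1 = ρ at h0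
    revert ρ
    decide) (by
    rw [(mx_fst _ _).1, hy']
    cases (y.1.1 == 1) <;> rfl)
  rw [h.mul, mul_mem_cancel_left hy, h.pow] at h1
  have h2 := hM _ (a1 (rep 5) rfl)
  refine hx ?_
  generalize (y.1.1 == 1) = b at h1
  cases b <;> simp only [cond_true, cond_false] at h1
  · simpa using h1
  · rwa [pow_succ, mul_mem_cancel_left h1] at h2

end Cfsg.Agent.Char.A9
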