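import Cfsg.Agent.Char.A9Fus
import Cfsg.Agent.Char.A9Lat

/-!
# A subgroup `3³ : S₄` containing the centralisers of the elements of its `3`-core
-/

set_option autoImplicit false
set_option synthInstance.maxSize 4096

namespace Cfsg.Agent.Char

open scoped ComplexConjugate
open Subgroup Local Complex

variable {G : Type*} [Group G]

theorem sum_conj_free [Finite G] {J : Subgroup G} (f : G → ℂ)
    (h1 : ∀ j ∈ J, ∀ x, f (j * x * j⁻¹) = f x) (h2 : ∀ x, IsIntegral ℤ (f x)) (s : Finset G)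
    (hs : ∀ j ∈ J, ∀ x ∈ s, j * x * j⁻¹ ∈ s) (hf : ∀ j ∈ J, ∀ x ∈ s, j * x = x * j → j = 1) :
    ∃ β, IsIntegral ℤ β ∧ ∑ x ∈ s, f x = Nat.card J * β := by
  classical
  have := Fintype.ofFinite J
  induction s using Finset.strongInduction with
  | H s ih =>
    rcases s.eq_empty_or_nonempty with rfl | ⟨x, hx⟩
    · exact ⟨0, isIntegral_zero, by simp⟩
    let o : Finset G := Finset.univ.image fun j : J => j * x * (j : G)⁻¹
    have ho : o ⊆ s := fun y hy => by
      obtain ⟨j, -, rfl⟩ := Finset.mem_image.mp hy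
      exact hs j j.2 x hx
    obtain ⟨β, b1, b2⟩ := ih (s \ o) (Finset.sdiff_ssubset ho
      ⟨x, Finset.mem_image.mpr ⟨1, Finset.mem_univ _, by simp⟩⟩) (fun j hj y hy => by
        rw [Finset.mem_sdiff] at hy ⊢
        refine ⟨hs j hj y hy.1, fun e => hy.2 ?_⟩
        obtain ⟨k, -, e⟩ := Finset.mem_image.mp e
        refine Finset.mem_image.mpr ⟨⟨j, hj⟩⁻¹ * k, Finset.mem_univ _, ?_⟩
        calc _ = j⁻¹ * (k * x * (k : G)⁻¹) * j := by simp [mul_assoc]
          _ = _ := by rw [e]; group) fun j hj y hy => hf j hj y (Finset.mem_sdiff.mp hy).1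
    refine ⟨β + f x, b1.add (h2 x), ?_⟩
    rw [← Finset.sum_sdiff ho, b2, Finset.sum_image fun j _ k _ e => by
      have := hf _ (k⁻¹ * j).2 x hx (by
        rw [← mul_inv_eq_iff_eq_mul]
        calc _ = (k : G)⁻¹ * (j * x * (j : G)⁻¹) * k := by simp [mul_assoc]
          _ = _ := by rw [show j * x * (j : G)⁻¹ = _ from e]; group)
      exact (inv_mul_eq_one.mp (Subtype.ext this : k⁻¹ * j = 1)).symm]
    simp [fun j : J => h1 j j.2 x, mul_add]

theorem int_dvd_of_eq_mul {a : ℤ} {b : ℕ} (hb : b ≠ 0) {β : ℂ} (h : IsIntegral ℤ β)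
    (e : (a : ℂ) = b * β) : (b : ℤ) ∣ a := by
  have hb' : (b : ℂ) ≠ 0 := by exact_mod_cast hb
  rw [show β = algebraMap ℚ ℂ ((a : ℚ) / b) by simp [e, hb'],
    isIntegral_algebraMap_iff (algebraMap ℚ ℂ).injective] at h
  obtain ⟨z, hz⟩ := IsIntegrallyClosed.isIntegral_iff.mp h
  have hb'' : (b : ℚ) ≠ 0 := by exact_mod_cast hb
  have h2 : (a : ℚ) = b * z := by
    simp only [algebraMap_int_eq, eq_intCast] at hz
    rw [hz]; field_simp
  exact ⟨z, by exact_mod_cast h2⟩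

namespace A9

variable {H J : Subgroup G} {F : X648 → G} {χ : G → ℂ}

theorem rep_pow' : ∀ k : Fin 9, k = 2 ∨ (∃ v, v ≠ 0 ∧ pw (rep k) 3 = (i0, v) ∧ pw (rep k) 9 = (i0, 0)) ∨
    ∃ n : Fin 5, ∃ v, v ≠ 0 ∧ (cls3 v = 1 ∨ cls3 v = 2) ∧ pw (rep k) n = (i0, v) := by
  decide +kernel

theorem Loc.hyp (h : Loc H J F) : Hyp (⊤ : Subgroup H) (J.subgroupOf H)
    (fun x => ⟨F x, h.mem' x⟩) :=
  ⟨⟨fun x y => Subtype.ext (h.mul x y), fun _ _ e => h.inj (congrArg Subtype.val e), fun g =>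
    iff_of_true (mem_top _) (((h.mem g).mp g.2).imp fun _ => Subtype.ext)⟩,
    ⟨fun u v => Subtype.ext (h.par.add u v), fun _ _ e => h.par.inj (congrArg Subtype.val e),
      fun g => (h.par.mem g).trans (exists_congr fun v =>
        (Subtype.ext_iff (a1 := (⟨_, h.mem' (i0, v)⟩ : H))).symm)⟩,
    fun _ _ _ _ _ => mem_top _⟩

theorem Loc.values (h : Loc H J F) (hχ : IsCharacter G χ) : ∃ V : Fin 9 → ℤ,
    (∀ k : Fin 9, k.val < 7 → χ (F (rep k)) = V k) ∧ χ (F (rep 7)) = V 7 / 2 + rt3 * V 8 ∧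
    χ (F (rep 8)) = V 7 / 2 - rt3 * V 8 ∧ ∀ j < 9, 648 ∣ ∑ k, Lat.G27 j k * V k :=
  h.hyp.values (char_restrict hχ H)

variable [Finite G]

theorem Loc.cls_val (h : Loc H J F) (hχ : IsClassFunction G χ) :
    ∑ v, (if cls3 v = 1 then χ (F (i0, v + (1, 1, 0))) else 0) =
      2 * (χ (F (i0, 0, 0, 1)) + χ (F (i0, 1, 1, 0)) + χ (F (i0, 1, 1, 1))) ∧
    ∑ v, (if cls3 v = 1 then χ (F (i0, v + (1, 1, 1))) else 0) =
      3 * (χ (F (i0, 1, 1, 0)) + χ (F (i0, 1, 1, 1))) := by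
  obtain ⟨f, hf⟩ : ∃ f : ℕ → ℂ, ∀ v, χ (F (i0, v)) = f (cls3 v) :=
    ⟨fun n => χ (F (i0, r3 n)), fun v =>
      classFun_of_isConj hχ ((h.isConj_j _ _).mpr (by revert v; decide))⟩
  simp +decide only [hf, sum_V27, sum_zmod3, cls3, ↓reduceIte, Prod.mk_add_mk, Nat.reduceAdd]
  constructor <;> ring

theorem Loc.wc_rep (h : Loc H J F) (hC : ∀ j ∈ J, j ≠ 1 → centralizer {j} ≤ H) {k : Fin 9}
    (hk : k ≠ 2) : WC H (F (rep k)) := by
  have hv : ∀ {v}, v ≠ 0 → centralizer {F (i0, v)} ≤ H := fun hv =>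
    hC _ (h.par.mem' _) (h.par.ne_one hv)
  intro g hg
  rcases (rep_pow' k).resolve_left hk with ⟨v, v0, e, e'⟩ | ⟨n, v, v0, hv', e⟩
  · refine h.emb_j (h.par.mem' v) (hv v0) ?_
    rw [← e, h.pow, ← conj_pow]
    exact h.cube_mem hg (k := 2) (by rw [conj_pow, show _ ^ 3 ^ 2 = _ from h.pw_eq.mp e']; group)
  · exact h.wc_j (hv (by decide)) hv' (hv v0) g (by
      rw [← e, h.pow, ← conj_pow]; exact pow_mem hg _)

theorem Loc.emb_rep (h : Loc H J F) (hC : ∀ j ∈ J, j ≠ 1 → centralizer {j} ≤ H) (k l : Fin 9)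
    {g : G} (hg : g * F (rep k) * g⁻¹ = F (rep l)) : g ∈ H := by
  by_cases hk : k = 2
  · by_cases hl : l = 2
    · subst hk hl
      exact hC _ (h.par.mem' (1, 1, 1)) (h.par.ne_one (by decide))
        (mem_centralizer_singleton_iff.mpr (mul_inv_eq_iff_eq_mul.mp hg))
    · exact inv_mem_iff.mp (h.wc_rep hC hl g⁻¹ (by rw [← hg]; simpa [mul_assoc] using h.mem' _))
  · exact h.wc_rep hC hk g (hg ▸ h.mem' _)

theorem Loc.orth (h : Loc H J F) (hC : ∀ j ∈ J, j ≠ 1 → centralizer {j} ≤ H) (k l : Fin 9) :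
    ∑ χ : IrrCharacter G, (χ : G → ℂ) (F (rep l)) * conj ((χ : G → ℂ) (F (rep k))) =
      if k = l then (cz k : ℂ) else 0 := by
  classical
  have := Fintype.ofFinite G
  have h1 := card_conj_eq (F (rep k)) (F (rep l))
  rw [← Nat.subtype_card (p := fun g => g * F (rep k) * g⁻¹ = F (rep l)) _ (by simp),
    h.card_filter (fun g => g * F (rep k) * g⁻¹ = F (rep l)) _
      (fun g hg => h.emb_rep hC k l hg) (h.conj_iff _ _),
    gram_rep] at h1
  rw [sum_irr_mul_conj]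
  exact_mod_cast h1.symm

theorem Loc.card_rep (h : Loc H J F) (hC : ∀ j ∈ J, j ≠ 1 → centralizer {j} ≤ H) (k : Fin 9) :
    Nat.card (centralizer ({F (rep k)} : Set G)) = cz k := by
  rw [h.card_cent fun g hg => h.emb_rep hC k k (by
    rw [mem_centralizer_singleton_iff.mp hg, mul_inv_cancel_right]), gram_rep, if_pos rfl]

theorem Loc.closed' (h : Loc H J F) (hw : centralizer {F (rep 2)} ≤ H) {v : V27}
    (hv : cls3 v = 1 ∨ cls3 v = 2) {u : G} (e : IsConj (F (i0, v)) u) (hu : u ∈ H) : u ∈ J := by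
  obtain ⟨g, rfl⟩ := isConj_iff.mp e
  exact h.closed hw hv hu

theorem Loc.omega (h : Loc H J F) (hC : ∀ j ∈ J, j ≠ 1 → centralizer {j} ≤ H)
    (hχ : IsIrrCharacter G χ) (y : V27) (h0 : χ (F (i0, 0, 0, 1)) * χ (F (i0, y)) = 0) (n : ℤ)
    (hn : ∑ v, (if cls3 v = 1 then χ (F (i0, v + y)) else 0) = n) : 27 ∣ n := by
  classical
  have := Fintype.ofFinite G
  have hw := hC _ (h.par.mem' (1, 1, 1)) (h.par.ne_one (by decide))
  have h1 := irr_sum_conj_mul' hχ (F (i0, 0, 0, 1)) (F (i0, y))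
  rw [h0, zero_div, mul_zero, sum_conj_eq _ (fun u => χ (u * F (i0, y))), mul_eq_zero,
    ← Finset.sum_filter_add_sum_filter_not _ (· ∈ J)] at h1
  obtain ⟨β, b1, b2⟩ := sum_conj_free (J := J) (fun u => χ (u * F (i0, y))) (fun j hj x => by
      rw [show j * x * j⁻¹ * F (i0, y) = j * (x * F (i0, y)) * j⁻¹ by
        rw [mul_assoc, h.par.comm _ (inv_mem hj) _ (h.par.mem' y)]; group]
      exact irr_isClassFunction hχ _ _) (fun x => char_isIntegral (irr_isCharacter hχ) _)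
    ((Finset.univ.filter (IsConj (F (i0, 0, 0, 1)))).filter (· ∉ J)) (fun j hj x hx => by
      simp only [Finset.mem_filter, Finset.mem_univ, true_and] at hx ⊢
      exact ⟨hx.1.trans (isConj_iff.mpr ⟨j, rfl⟩), fun e => hx.2 (by
        simpa [mul_assoc] using h.norm _ e _ (h.le (inv_mem hj)))⟩) (fun j hj x hx e => by
      simp only [Finset.mem_filter, Finset.mem_univ, true_and] at hx
      by_contra j1
      exact hx.2 (h.closed' hw (by decide) hx.1
        (hC j hj j1 (mem_centralizer_singleton_iff.mpr e.symm))))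
  have h2 : ∑ u ∈ (Finset.univ.filter (IsConj (F (i0, 0, 0, 1)))).filter (· ∈ J),
      χ (u * F (i0, y)) = n := by
    rw [← hn, ← Finset.sum_filter]
    refine (Finset.sum_bij (fun v _ => F (i0, v)) (fun v hv => ?_) (fun u _ v _ e => h.par.inj e)
      (fun u hu => ?_) fun v _ => by rw [h.par.add]).symm
    · simp only [Finset.mem_filter, Finset.mem_univ, true_and] at hv ⊢
      exact ⟨(h.isConj_j _ _).mpr hv.symm, h.par.mem' v⟩
    · simp only [Finset.mem_filter, Finset.mem_univ, true_and] at hu ⊢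
      obtain ⟨v, rfl⟩ := (h.par.mem _).mp hu.2
      exact ⟨v, ((h.isConj_j _ _).mp hu.1).symm, rfl⟩
  rw [h2, b2, h.par.card] at h1
  exact int_dvd_of_eq_mul (b := 27) (by norm_num) b1.neg (by
    have := h1.resolve_left (card_ne_zero' _)
    rw [show Nat.card V27 = 27 by simp] at this
    linear_combination this)

theorem Loc.mem_of_cube (h : Loc H J F) (hC : ∀ j ∈ J, j ≠ 1 → centralizer {j} ≤ H)
    (hs : IsConj (F (rep 2)) (F sx)) {u : G} (h1 : u ^ 3 = 1) (h2 : (u * F (rep 1)) ^ 3 = 1)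
    (hn : ¬ IsConj (F (rep 1)) u) : u ∈ H := by
  have : Fact (Nat.Prime 3) := ⟨Nat.prime_three⟩
  have e3 : F (rep 1) ^ 3 = 1 := h.par.cube V27_three _
  have h3 : (F (rep 1) * u) ^ 3 = 1 := by
    rw [show F (rep 1) * u = F (rep 1) * (u * F (rep 1)) * (F (rep 1))⁻¹ by group, conj_pow, h2]
    group
  have hP : ∀ P : Subgroup G, IsPGroup 3 P → F (rep 1) ∈ P → P ≤ H := fun P hP e =>
    (h.wc_rep hC (k := 1) (by decide)).le_of_isNilpotent (h.mem' _) hP.isNilpotent e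
  obtain ⟨t, P, p1, p2, p3, p4, p5⟩ := three_three_three e3 h1 h3
  have key : ∀ n, t ^ n ∈ J → t ^ n ≠ 1 → u ∈ H := fun n e1 e2 =>
    (mul_mem_cancel_left (inv_mem (h.mem' (rep 1)))).mp (hC _ e1 e2
      (mem_centralizer_singleton_iff.mpr (p5.symm.pow_right n).eq))
  obtain ⟨k, hk⟩ := p1 ⟨t, p3⟩
  have tH := hP P p1 p2 p3
  by_cases t3 : t ^ 3 = 1
  swap
  · exact key 3 (h.cube_mem tH (congrArg Subtype.val hk)) t3
  obtain ⟨y, rfl⟩ := (h.mem t).mp tH
  by_cases hy : y.1 = i0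
  · exact key 1 (by rwa [pow_one, h.mem_J]) fun e => hn (by
      rwa [(pow_one _).symm.trans e, mul_one] at p4)
  have h4 := card_centralizer_eq_of_isConj (hs.trans (h.hc_sx t3 hy).isConj.symm)
  rw [show rep 2 = rep (2 : Fin 9) from rfl, h.card_rep hC] at h4
  obtain ⟨Q, q1, q2, q3⟩ := three_pgroup e3 h1 h3 (k := 4) (orderOf_dvd_iff_pow_eq_one.mp
    ((orderOf_dvd_card_of_mem (mem_centralizer_singleton_iff.mpr p5.symm.eq)).trans
      (by rw [← h4]; rfl)))
  exact hP Q q1 q2 q3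

theorem Loc.classMul [Fintype G] (h : Loc H J F) (hC : ∀ j ∈ J, j ≠ 1 → centralizer {j} ≤ H)
    (hs : IsConj (F (rep 2)) (F sx)) (x z : V27) (hx : cls3 (1, 1, 0) ≠ cls3 x)
    (hz : cls3 z = 1 ∨ cls3 z = 2) :
    ((Finset.univ.filter (fun v => cls3 x = cls3 v ∧ cls3 z = cls3 (v + (1, 1, 0)))).card : ℂ) *
      (Nat.card (centralizer ({F (i0, x)} : Set G)) *
        Nat.card (centralizer ({F (i0, z)} : Set G))) =
      Nat.card G * ∑ χ : IrrCharacter G, (χ : G → ℂ) (F (i0, x)) * (χ : G → ℂ) (F (i0, 1, 1, 0)) *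
        conj ((χ : G → ℂ) (F (i0, z))) / (χ : G → ℂ) 1 := by
  have hc : ∀ {v u}, IsConj (F (i0, v)) u → u ^ 3 = 1 := fun e => by
    obtain ⟨g, rfl⟩ := isConj_iff.mp e
    rw [conj_pow, h.par.cube V27_three]; group
  rw [← card_classMul, h.par.card_subtype
    (fun u => IsConj (F (i0, x)) u ∧ IsConj (F (i0, z)) (u * F (i0, 1, 1, 0)))
    (fun v => cls3 x = cls3 v ∧ cls3 z = cls3 (v + (1, 1, 0)))]
  · rintro u ⟨h1, h2⟩
    exact (mul_mem_cancel_right (h.par.mem' _)).mp (h.closed' (hC _ (h.par.mem' (1, 1, 1))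
      (h.par.ne_one (by decide))) hz h2 (mul_mem (h.mem_of_cube hC hs (hc h1) (hc h2)
        fun e => hx ((h.isConj_j _ _).mp (e.trans h1.symm))) (h.mem' _)))
  · intro v
    rw [← h.par.add, h.isConj_j, h.isConj_j]

theorem Loc.mem_of_eee (h : Loc H J F) (hC : ∀ j ∈ J, j ≠ 1 → centralizer {j} ≤ H)
    (hs : IsConj (F (rep 2)) (F sx)) {u : G} (h1 : IsConj (F (rep 1)) u)
    (h2 : IsConj (F (rep 1)) (u * F (rep 1))) : u ∈ J := by
  classical
  have := Fintype.ofFinite G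
  choose V v1 v2 v3 v4 using fun χ : IrrCharacter G => h.values (irr_isCharacter χ.2)
  have hV := gram_values (fun (χ : IrrCharacter G) n => (χ : G → ℂ) (F (rep n))) V v1 v2 v3
    (h.orth hC)
  let o : IrrCharacter G := ⟨1, irr_one⟩
  have ho : ∀ k, V o k = Lat.T27 k := fun k => by
    have a2 : (1 : ℂ) = _ := v2 o
    have a3 : (1 : ℂ) = _ := v3 o
    by_cases hk : k.val < 7
    · have a1 : (1 : ℂ) = _ := v1 o k hk
      rw [show V o k = 1 by exact_mod_cast a1.symm]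
      clear a1
      revert k
      decide
    have : k = 7 ∨ k = 8 := by omega
    rcases this with rfl | rfl
    · have : (V o 7 : ℂ) = 2 := by linear_combination -a2 - a3
      exact_mod_cast this
    · have : (V o 8 : ℂ) = 0 := by
        linear_combination rt3 / 6 * (a3 - a2) - V o 8 / 3 * rt3_sq
      exact_mod_cast this
  have x0 : ∀ χ : IrrCharacter G, (χ : G → ℂ) (F (i0, 0, 0, 1)) = V χ 0 :=
    fun χ => v1 χ 0 (by decide)
  have x1 : ∀ χ : IrrCharacter G, (χ : G → ℂ) (F (i0, 1, 1, 0)) = V χ 1 :=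
    fun χ => v1 χ 1 (by decide)
  have x2 : ∀ χ : IrrCharacter G, (χ : G → ℂ) (F (i0, 1, 1, 1)) = V χ 2 :=
    fun χ => v1 χ 2 (by decide)
  have c0 : Nat.card (centralizer ({F (i0, 0, 0, 1)} : Set G)) = 108 := h.card_rep hC 0
  have c1 : Nat.card (centralizer ({F (i0, 1, 1, 0)} : Set G)) = 54 := h.card_rep hC 1
  have c2 : Nat.card (centralizer ({F (i0, 1, 1, 1)} : Set G)) = 81 := h.card_rep hC 2
  have hn := Lat.cub_one o V hV ho v4 (fun χ e => by
    have := h.omega hC χ.2 (1, 1, 0) (by rw [x0, e]; simp) (2 * (V χ 0 + V χ 1 + V χ 2)) (by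
      rw [(h.cls_val (irr_isClassFunction χ.2)).1, x0, x1, x2]; push_cast; ring)
    rwa [e, zero_add] at this) (fun χ e => by
    have := h.omega hC χ.2 (1, 1, 1) (by rw [x2, e]; simp) (3 * (V χ 1 + V χ 2)) (by
      rw [(h.cls_val (irr_isClassFunction χ.2)).2, x1, x2]; push_cast; ring)
    rwa [e, add_zero] at this)
  have m1 := h.classMul hC hs (0, 0, 1) (0, 0, 1) (by decide) (by decide)
  have m3 := h.classMul hC hs (0, 0, 1) (1, 1, 0) (by decide) (by decide)
  have m6 := h.classMul hC hs (1, 1, 1) (1, 1, 0) (by decide) (by decide)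
  have m8 := card_classMul (F (i0, 1, 1, 0)) (F (i0, 1, 1, 0)) (F (i0, 1, 1, 0))
  rw [show (Finset.univ.filter _).card = 2 by decide] at m1 m3
  rw [show (Finset.univ.filter _).card = 4 by decide] at m6
  simp only [x0, x1, x2, c0, c1, c2, map_intCast, Finset.mul_sum] at m1 m3 m6 m8
  have R : ∀ {f g : IrrCharacter G → ℂ} {a b : ℂ}, a = ∑ χ, f χ → a = b → (∀ χ, g χ = f χ) →
      ∑ χ, g χ = b := fun e1 e2 e3 => by rw [← e2, e1]; exact Finset.sum_congr rfl fun χ _ => e3 χ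
  have m9 := Lat.cube27' hn (fun χ => Nat.card G / (χ : G → ℂ) 1)
    (R m1 (by norm_num) fun _ => by ring) (R m3 (by norm_num) fun _ => by ring)
    (R m6 (by norm_num) fun _ => by ring)
  rw [R m8 rfl fun _ => by ring] at m9
  have m10 : Nat.card {u : G // IsConj (F (i0, 1, 1, 0)) u ∧
      IsConj (F (i0, 1, 1, 0)) (u * F (i0, 1, 1, 0))} = 5 := by
    have : (Nat.card {u : G // IsConj (F (i0, 1, 1, 0)) u ∧
      IsConj (F (i0, 1, 1, 0)) (u * F (i0, 1, 1, 0))} : ℂ) = 5 := by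
      push_cast at m9
      linear_combination m9 / 2916
    exact_mod_cast this
  have m11 := h.par.card_subtype (fun u => (IsConj (F (i0, 1, 1, 0)) u ∧
      IsConj (F (i0, 1, 1, 0)) (u * F (i0, 1, 1, 0))) ∧ u ∈ J)
    (fun v => cls3 (1, 1, 0) = cls3 v ∧ cls3 (1, 1, 0) = cls3 (v + (1, 1, 0))) (fun _ hg => hg.2)
    (fun v => by rw [← h.par.add, h.isConj_j, h.isConj_j, and_iff_left (h.par.mem' v)])
  rw [show (Finset.univ.filter _).card = 5 by decide] at m11
  have m12 := Set.eq_of_subset_of_ncard_le (s := {u | (IsConj (F (i0, 1, 1, 0)) u ∧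
      IsConj (F (i0, 1, 1, 0)) (u * F (i0, 1, 1, 0))) ∧ u ∈ J}) (t := {u | IsConj (F (i0, 1, 1, 0)) u ∧
      IsConj (F (i0, 1, 1, 0)) (u * F (i0, 1, 1, 0))}) (fun _ hg => hg.1) (m10.trans m11.symm).le
  exact ((Set.ext_iff.mp m12 u).mpr ⟨h1, h2⟩).2

theorem Loc.wc_u (h : Loc H J F) (he : centralizer {F (rep 1)} ≤ H)
    (heee : ∀ u, IsConj (F (rep 1)) u → IsConj (F (rep 1)) (u * F (rep 1)) → u ∈ J) :
    WC H (F (rep 12)) := by
  intro g hg
  have uu : F (rep 12) * F (rep 12) = 1 := by rw [← h.mul, ← h.one]; rfl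
  have tt : F (rep 10) * F (rep 10) = 1 := by rw [← h.mul, ← h.one]; rfl
  have e3 : F (rep 1) ^ 3 = 1 := h.par.cube V27_three _
  let C := centralizer ({F (rep 12)} : Set G)
  let e : C := ⟨F (rep 1), mem_centralizer_singleton_iff.mpr (h.comm (by decide))⟩
  let u : C := ⟨F (rep 12), mem_centralizer_singleton_iff.mpr rfl⟩
  let t : C := ⟨F (rep 10), mem_centralizer_singleton_iff.mpr (h.comm (by decide))⟩
  have hCI : CI e u := by
    refine ⟨fun g => Subtype.ext (mem_centralizer_singleton_iff.mp g.2), Subtype.ext uu,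
      orderOf_eq_prime (hp := ⟨Nat.prime_three⟩) (Subtype.ext e3)
        (fun e' => h.ne_one (by decide) (congrArg Subtype.val e')), ?_⟩
    rintro ⟨g, hg⟩ hge
    have hge : g * F (rep 1) = F (rep 1) * g := congrArg Subtype.val hge
    obtain ⟨y, rfl⟩ := (h.mem g).mp (he (mem_centralizer_singleton_iff.mpr hge))
    have hg' := mem_centralizer_singleton_iff.mp hg
    rw [← h.mul, ← h.mul] at hge hg'
    obtain ⟨k, hk | hk⟩ := cent_eu y (h.inj hg') (h.inj hge)
    · exact Or.inl ⟨k, Subtype.ext (by simp [e, hk, h.pow])⟩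
    · exact Or.inr ⟨k, Subtype.ext (by simp [e, u, ← h.mul, hk, h.pow])⟩
  have hte : t * e * t⁻¹ = e⁻¹ := Subtype.ext (by
    change F (rep 10) * F (i0, 1, 1, 0) * (F (rep 10))⁻¹ = (F (i0, 1, 1, 0))⁻¹
    rw [h.conj_j, ← h.par.neg]
    rfl)
  have hc : ∀ y : C, y ^ 3 = 1 → y ≠ 1 → IsConj (F (rep 1)) y :=
    fun y h3 h1 => C.subtype.map_isConj (hCI.isConj hte h3 h1)
  have htu : ¬ IsConj (F (rep 10)) (F (rep 12)) := fun hh => by
    obtain ⟨g, hg⟩ := isConj_iff.mp hh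
    have h1 := hc ⟨g * F (rep 0) * g⁻¹, mem_centralizer_singleton_iff.mpr (by
      rw [← hg, conj_mul, conj_mul, h.comm (by decide)])⟩ (Subtype.ext (by
        change (g * F (rep 0) * g⁻¹) ^ 3 = 1
        rw [conj_pow, show F (rep 0) ^ 3 = 1 from h.par.cube V27_three _]; group)) (fun e' => by
      have : g * F (rep 0) * g⁻¹ = 1 := congrArg Subtype.val e'
      exact h.ne_one (x := rep 0) (by decide) (by simpa [mul_inv_eq_iff_eq_mul] using this))
    exact absurd ((h.isConj_j (1, 1, 0) (0, 0, 1)).mp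
      (h1.trans (isConj_iff.mpr ⟨g, rfl⟩ : IsConj (F (rep 0)) _).symm)) (by decide)
  have h16 := hCI.card_le (t := t) (Subtype.ext tt)
    (fun e' => h.ne_one (by decide) (congrArg Subtype.val e'))
    (fun e' => absurd (h.inj (congrArg Subtype.val e')) (by decide)) hte
    (fun hh => htu ((C.subtype.map_isConj hh).trans (by
      change IsConj (F (rep 10) * F (rep 12)) _
      rw [← h.mul]
      exact h.isConj (rep 11) (by decide)))) (fun a h1 h2 => by
      by_cases a1 : a * e = 1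
      · rw [eq_inv_of_mul_eq_one_left a1, inv_pow, hCI.cube, inv_one]
      by_cases a2 : a * e⁻¹ = 1
      · rw [mul_inv_eq_one.mp a2, hCI.cube]
      have h3 : a * e⁻¹ = a * e * e := by
        rw [mul_assoc, mul_right_inj, inv_eq_iff_mul_eq_one, ← pow_three, hCI.cube]
      have h4 := heee _ (hc _ h1 a1) (by have := hc _ h2 a2; rwa [h3] at this)
      obtain ⟨v, hv⟩ := (h.par.mem _).mp ((mul_mem_cancel_right (h.par.mem' (1, 1, 0))).mp h4)
      exact Subtype.ext (by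
        change (a : G) ^ 3 = 1
        rw [← hv]; exact h.par.cube V27_three v))
  have h12 : Nat.card (C ⊓ H : Subgroup G) = 12 := by
    rw [← card_cent_u]
    exact h.card_filter _ _ (fun _ hg => hg.2) fun z => by
      rw [mem_inf, and_iff_left (h.mem' z), mem_centralizer_singleton_iff, ← h.mul, ← h.mul,
        h.inj.eq_iff]
  have hCH : C ≤ H := by
    have h1 := card_dvd_of_le (inf_le_left : C ⊓ H ≤ C)
    have h2 : 0 < Nat.card C := Nat.card_pos
    rw [h12] at h1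
    rw [← eq_of_le_of_card_ge (inf_le_left : C ⊓ H ≤ C) (by omega)]
    exact inf_le_right
  obtain ⟨y, hy⟩ := (h.mem _).mp hg
  rcases invol_cj y (h.inj (by rw [h.mul, hy, conj_mul, uu, h.one]; group)) with rfl | ⟨z, hz⟩
  · rw [h.one] at hy
    exact absurd (by simpa [eq_mul_inv_iff_mul_eq] using hy.symm) (h.ne_one (x := rep 12) (by decide))
  rw [← h.conj_iff, hy] at hz
  cases hb : y.1.2.1 <;> simp only [hb, cond_true, cond_false] at hz
  · exact absurd (isConj_iff.mpr ⟨F z * g, by rw [← hz]; group⟩ : IsConj (F (rep 12)) _).symm htu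
  · refine (mul_mem_cancel_left (h.mem' z)).mp (hCH (mem_centralizer_singleton_iff.mpr ?_))
    rw [← mul_inv_eq_iff_eq_mul]
    exact Eq.trans (by group) hz

theorem Loc.eq_top (h : Loc H J F) (hC : ∀ j ∈ J, j ≠ 1 → centralizer {j} ≤ H) : H = ⊤ := by
  refine Hyp.eq_top ⟨h.toMod, h.par, h.conj_mem h.par hC fun j hj g hg => ?_⟩
  have hw : centralizer {F (rep 2)} ≤ H := hC _ (h.par.mem' (1, 1, 1)) (h.par.ne_one (by decide))
  obtain ⟨v, rfl⟩ := (h.par.mem _).mp hj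
  rcases (by decide : ∀ v, v = 0 ∨ (cls3 v = 1 ∨ cls3 v = 2) ∨ cls3 (1, 1, 1) = cls3 v) v with
    rfl | hv | hv
  · simp [h.one]
  · exact h.closed hw hv hg
  obtain ⟨y, hy⟩ := (h.mem _).mp hg
  rw [← hy, h.mem_J]
  by_contra h1
  have hs : IsConj (F (rep 2)) (F sx) := (((h.isConj_j _ _).mpr hv).trans
    (isConj_iff.mpr ⟨g, hy.symm⟩)).trans (h.hc_sx (by
      rw [hy, conj_pow, h.par.cube V27_three]; group) h1).isConj
  have h2 := (h.wc_u (hC _ (h.par.mem' (1, 1, 0)) (h.par.ne_one (by decide)))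
    fun _ => h.mem_of_eee hC hs).of_hc (y := F ((0, true, true, true), 0))
      ⟨_, h.mem' _, (h.conj_iff _ _ ((0, false, true, false), 0)).mpr (by decide)⟩
  obtain ⟨k, hk⟩ := isConj_iff.mp hs
  have h3 : ∀ {x}, mx (mx ((0, true, true, true), 0) x) (mx ((0, true, true, true), 0) x) = (i0, 0) →
      F ((0, true, true, true), 0) * F x * F ((0, true, true, true), 0) = (F x)⁻¹ := fun e => by
    rw [eq_inv_iff_mul_eq_one, mul_assoc, ← h.mul, ← h.mul, e, h.one]
  have h4 := h3 (x := sx) (by decide)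
  have h5 := h3 (x := rep 2) (by decide)
  have uu : F ((0, true, true, true), 0) * F ((0, true, true, true), 0) = 1 := by
    rw [← h.mul, ← h.one]; rfl
  have uH := h.mem' ((0, true, true, true), 0)
  generalize F ((0, true, true, true), 0) = u at h2 h4 h5 uu uH
  have h6 := h2 k⁻¹ ((mul_mem_cancel_right uH).mp (hw (mem_centralizer_singleton_iff.mpr (by
    rw [← mul_inv_eq_iff_eq_mul, mul_inv_rev, mul_inv_rev, mul_inv_rev,
      inv_eq_of_mul_eq_one_right uu]
    calc _ = k⁻¹ * u * k * (u * F (rep 2) * u) * k⁻¹ * u * k := by group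
      _ = k⁻¹ * (u * (k * F (rep 2) * k⁻¹) * u)⁻¹ * k := by
        rw [h5, mul_inv_rev, mul_inv_rev, inv_eq_of_mul_eq_one_right uu]; group
      _ = _ := by rw [hk, h4, ← hk]; group))))
  have h7 := h.norm _ (h.par.mem' (1, 1, 1)) _ (inv_mem_iff.mp h6)
  rw [show k * F (i0, 1, 1, 1) * k⁻¹ = F sx from hk, h.mem_J] at h7
  exact absurd h7 (by decide)

end A9

end Cfsg.Agent.Char
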