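import Cfsg.Agent.Char.A9Two
import Cfsg.Agent.Char.A9One

/-!
# Recognising `A₉` from its `3`-local structure
-/

set_option autoImplicit false
set_option synthInstance.maxSize 4096

namespace Cfsg.Agent.Char

open Subgroup Local Equiv S6
open Mat (CP)

variable {G : Type*} [Group G]

namespace S9

attribute [local irreducible] c d r y p q η x γ u

theorem rel7 : ((c * x) ^ 3 = 1 ∧ (x * η) ^ 3 = 1 ∧ (x * (d * η)) ^ 2 = 1 ∧ x * r = r * x ∧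
      x ^ 2 = 1) ∧ (sw 3 5 = d⁻¹ * y ∧ sw 1 2 = r * c ∧ sw 2 3 = r * p ∧ r * η = y ∧
      sw 3 4 = y * sw 3 5 * y ∧ r * sw 1 2 = c ∧ y * sw 3 5 = d) ∧
    (∀ σ ∈ [y, sw 3 5, sw 2 3, sw 1 2, r], σ ^ 2 = 1 ∧ ev σ = false) ∧
    ((y * sw 3 5) ^ 3 = 1 ∧ (sw 3 5 * sw 2 3) ^ 3 = 1 ∧ (sw 2 3 * sw 1 2) ^ 3 = 1 ∧
      (sw 1 2 * r) ^ 3 = 1) ∧
    (y * sw 2 3) ^ 2 = 1 ∧ (y * sw 1 2) ^ 2 = 1 ∧ (y * r) ^ 2 = 1 ∧ (sw 3 5 * sw 1 2) ^ 2 = 1 ∧
      (sw 3 5 * r) ^ 2 = 1 ∧ (sw 2 3 * r) ^ 2 = 1 := by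
  decide +kernel

theorem mem_of_sw {ψ : P6 →* G} {M : Subgroup G} (h0 : ψ r ∈ M) (h1 : ψ (sw 1 2) ∈ M)
    (h2 : ψ (sw 2 3) ∈ M) (h3 : ψ (sw 3 5) ∈ M) (h4 : ψ y ∈ M) (σ : P6) : ψ σ ∈ M := by
  obtain ⟨σ, rfl⟩ := CP.of_surjective σ
  have : closure (Set.range (Pres.adj 5)) ≤ M.comap (ψ.comp (MonoidHom.mk' CP.of CP.of_mul)) := by
    rw [closure_le]
    rintro _ ⟨i, rfl⟩
    have h5 : ψ (sw 3 4) ∈ M := by
      rw [rel7.2.1.2.2.2.2.1, map_mul, map_mul]; exact mul_mem (mul_mem h4 h3) h4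
    unfold r at h0
    unfold y at h4
    fin_cases i
    exacts [h0, h1, h2, h5, h4]
  exact this (Pres.adj_closure 5 ▸ mem_top σ)

end S9

namespace A9

open S9

attribute [local irreducible] c d r y p q η x γ u

variable {H J : Subgroup G} {F : X648 → G} [Finite G] {ψ : P6 →* G}

theorem Two.exists_swap (h : Two H J F ψ) : ∃ ψ', Six (ψ c) ψ' ∧ ψ' c = F (i0, 0, 0, 1) ∧
    ψ' d = (ψ d)⁻¹ ∧ ψ' r = ψ r ∧ ψ' y = ψ η ∧ ψ' η = ψ y := by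
  let n : X648 := ((2, true, true, false), 0)
  have h1 := h.six.conj (F n)
  rw [h.conj_j, show act n.1 (0, 0, 1) = (0, 1, 0) by decide, ← h.pc] at h1
  have e : ∀ σ, ((MulAut.conj (F n)).toMonoidHom.comp ψ) σ = F n * ψ σ * (F n)⁻¹ := fun _ => rfl
  generalize (MulAut.conj (F n)).toMonoidHom.comp ψ = ψ' at h1 e
  have h2 : ψ' r = ψ r := by rw [e, h.pr, h.conj_iff]; decide
  have h3 : ψ' y = ψ η := by
    rw [e, h.py, rel1.2.2.2.1.1, map_mul, h.pr, h.py, ← h.mul d1, h.conj_iff]; decide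
  refine ⟨ψ', h1, ?_, ?_, h2, h3, ?_⟩
  · rw [e, h.pc, h.conj_j]; rfl
  · rw [e, h.pd, h.conj_j, ← h.par.neg]; rfl
  · rw [rel1.2.2.2.1.1, map_mul, h2, h3, ← map_mul, rel7.2.1.2.2.2.1]

theorem Two.comm_x (h : Two H J F ψ) {ψ' : P6 →* G} (h1 : Six (ψ c) ψ')
    (h2 : ψ' c = F (i0, 0, 0, 1)) (h3 : ψ' y = ψ η) (h4 : ψ' η = ψ y) :
    ψ' x * ψ p = ψ p * ψ' x := by
  obtain ⟨⟨-, e1, e2, -⟩, ⟨r1, r2, -, r3, -⟩, ⟨r4, r5, -⟩, ⟨-, r6, -, r7, r8, r9⟩, -⟩ := rel1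
  have kl := (⟨r1, r2, r3⟩ : Kl p q).map ψ
  obtain ⟨K, k1, k2, k3, k, k4, k5, k6⟩ := (h.tri kl e1 e2 (fun σ a b => (cent_pq σ a b).2)
    (m := 1) (by simp) (v := (0, 1, 0)) (by decide) (by decide) (by
      rw [one_mul, inv_one, mul_one, ← h.pc]
      exact kl.mem_norm (by rw [← map_inv, ← map_mul, ← map_mul, r4]; simp [Kl.mem_V])
        (by rw [← map_inv, ← map_mul, ← map_mul, r5]; simp [Kl.mem_V]))).resolve_left
    (h.not_cent_V kl)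
  rw [one_mul, inv_one, mul_one, ← h.pc] at k5
  obtain ⟨κ, e, rfl⟩ := h1.dec k5 k1 (orderOf_dvd_iff_pow_eq_one.mp (orderOf_dvd_card_of_mem k4))
  rw [← h2] at k3 k6
  have K1 : ψ' (c * κ * c⁻¹) ∈ K := by
    rw [map_mul, map_mul, map_inv]; exact conj_mem_of_mem_normalizer k3 k4
  have K2 : ψ' (c⁻¹ * κ * c) ∈ K := by
    rw [map_mul, map_mul, map_inv]; exact inv_conj_mem_of_mem_normalizer k3 k4
  rcases sel κ e (mt h1.cm.mpr k6) with ⟨w, w1, w2, w3⟩ | ⟨i, -, hi⟩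
  · have w4 : ψ' w ∈ K := by
      rcases w3 with rfl | rfl | rfl <;> rw [map_mul, map_mul, map_mul]
      exacts [mul_mem (mul_mem (mul_mem k4 K1) k4) K2, mul_mem (mul_mem (mul_mem k4 k4) K1) K2,
        mul_mem (mul_mem (mul_mem k4 k4) K2) K1]
    exact absurd (h1.inj ((eq_one_of_pow_eq_one_of_coprime
      ((Nat.Prime.coprime_iff_not_dvd Nat.prime_three).mpr k1) (by rw [← map_pow, w1, map_one])
      (orderOf_dvd_iff_pow_eq_one.mp (orderOf_dvd_card_of_mem w4))).trans (map_one ψ').symm)) w2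
  have K3 : ψ' (c ^ i * κ * (c ^ i)⁻¹) * ψ p = ψ p * ψ' (c ^ i * κ * (c ^ i)⁻¹) := by
    refine (kl.mem_cent.mp (k2 ?_)).1
    rw [map_mul, map_mul, map_inv, map_pow]
    exact conj_mem_of_mem_normalizer (pow_mem k3 i) k4
  rcases hi with hi | hi | hi <;> rw [hi] at K3
  · have := h.cent_W K3 (by rw [← h3, h1.cm, r6])
    rw [← h2, ← map_inv, ← map_mul, ← map_mul] at this
    rcases mem_zpowers_three (h2 ▸ h.six.ord) this with e | e | e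
    exacts [absurd (h1.inj (e.trans (map_one ψ').symm)) r7, absurd (h1.inj e) r8,
      absurd (h1.inj (e.trans (map_inv ψ' c).symm)) r9]
  · rw [map_mul, map_mul, map_inv, h4] at K3
    have h5 : Commute (ψ y) (ψ p) := h.six.cm.mpr r6.symm
    simpa [mul_assoc] using (Commute.mul_left (Commute.mul_left h5.inv_left K3) h5).eq
  · exact K3

theorem Two.moore (h : Two H J F ψ) :
    ∃ t, Pres.Moore ![F (i0, 0, 0, 1), t, ψ y, ψ (sw 3 5), ψ (sw 2 3), ψ (sw 1 2), ψ r] := by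
  obtain ⟨ψ', h1, h2, h3, h4, h5, h6⟩ := h.exists_swap
  have h7 := h.comm_x h1 h2 h5 h6
  obtain ⟨⟨a1, a2, a3, a4, a5⟩, ⟨b1, b2, b3, -⟩, c1, ⟨d1, d2, d3, d4⟩, e1, e2, e3, e4, e5, e6⟩ := rel7
  have pw : ∀ {φ : P6 →* G} {x y : P6} {n : ℕ}, (x * y) ^ n = 1 → (φ x * φ y) ^ n = 1 := fun e => by
    rw [← map_mul, ← map_pow, e, map_one]
  have sq : ∀ {φ : P6 →* G} {x : P6}, x ^ 2 = 1 → φ x ^ 2 = 1 := fun e => by
    rw [← map_pow, e, map_one]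
  have s1 : ∀ σ ∈ [y, sw 3 5, sw 2 3, sw 1 2, r], ψ σ ^ 2 = 1 := fun σ e => sq (c1 σ e).1
  have s2 : ∀ σ ∈ [y, sw 3 5, sw 2 3, sw 1 2, r], (F (i0, 0, 0, 1) * ψ σ) ^ 2 = 1 := fun σ e => by
    have := h.six.odd σ (c1 σ e).2
    rw [mul_inv_eq_iff_eq_mul] at this
    rw [pow_two, mul_assoc, ← mul_assoc (ψ σ), this, mul_assoc, mul_inv_cancel_left, ← pow_two,
      s1 σ e]
  have s3 : ∀ σ ∈ [y, sw 3 5, sw 2 3, sw 1 2, r], Commute (ψ' x) (ψ σ) →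
      (ψ' x * ψ σ) ^ 2 = 1 := fun σ e e' => by rw [e'.mul_pow, sq a5, s1 σ e, one_mul]
  have h8 : Commute (ψ' x) (ψ r) := h4 ▸ h1.cm.mpr a4
  have h9 : Commute (ψ' x) (ψ c) := h1.even x rel1.1.2.2.2.2.1
  refine ⟨ψ' x, fun i hi => ?_, fun i hi => ?_, fun i j hi => ?_, fun i j hi => ?_⟩
  · fin_cases i <;> simp at hi
    exact h.six.z3
  · fin_cases i <;> simp at hi
    exacts [sq a5, s1 y (by simp), s1 (sw 3 5) (by simp), s1 (sw 2 3) (by simp),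
      s1 (sw 1 2) (by simp), s1 r (by simp)]
  · have t1 : (F (i0, 0, 0, 1) * ψ' x) ^ 3 = 1 := h2 ▸ pw a1
    have t2 : (ψ' x * ψ y) ^ 3 = 1 := h6 ▸ pw a2
    fin_cases i <;> fin_cases j <;> simp at hi
    exacts [t1, t2, pw d1, pw d2, pw d3, pw d4]
  · have t1 : (ψ' x * ψ (sw 3 5)) ^ 2 = 1 := by
      rw [b1, map_mul, map_inv, ← h3, ← h6, ← map_mul]; exact pw a3
    have t2 := s3 (sw 2 3) (by simp) (by rw [b3, map_mul]; exact h8.mul_right h7)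
    have t3 := s3 (sw 1 2) (by simp) (by rw [b2, map_mul]; exact h8.mul_right h9)
    fin_cases i <;> fin_cases j <;> simp at hi
    exacts [s2 y (by simp), s2 (sw 3 5) (by simp), s2 (sw 2 3) (by simp), s2 (sw 1 2) (by simp),
      s2 r (by simp), t1, t2, t3, s3 r (by simp) h8, pw e1, pw e2, pw e3, pw e4, pw e5, pw e6]

/-- Moore's generators. -/
def g9 (i : Fin 7) : alternatingGroup (Fin 9) := ⟨Pres.altGen 7 i, Pres.altGen_mem 7 i⟩

/-- Representatives of the classes of elements of order three. -/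
def c9 : Fin 3 → alternatingGroup (Fin 9) :=
  ![g9 0, g9 0 * (g9 6 * g9 5), g9 0 * (g9 6 * g9 5) * (g9 2 * g9 3)]

theorem c9_spec : ∀ i, c9 i ^ 3 = 1 ∧ (c9 i).1.support.card = 3 * (i.val + 1) ∧
    ∃ τ ∈ [swap 7 8, swap 3 4, swap 0 3 * swap 1 5 * swap 2 4, swap 0 3 * swap 1 4 * swap 2 5],
      Perm.sign τ = -1 ∧ τ * (c9 i).1 = (c9 i).1 * τ := by decide +kernel

theorem c9_cls (X : alternatingGroup (Fin 9)) (h : X ^ 3 = 1) (h1 : X ≠ 1) :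
    ∃ i, IsConj (c9 i) X := by
  obtain ⟨k, -, hk⟩ := cycleType_three (congrArg Subtype.val h)
  have h3 := X.1.support.card_le_univ
  have h4 : X.1.support.card ≠ 0 := by simpa using h1
  rw [Fintype.card_fin] at h3
  obtain ⟨a1, a2, τ, -, a3, a4⟩ := c9_spec ⟨k - 1, by omega⟩
  exact ⟨_, isConj_three_alt a1 h (by rw [a2, hk]; congr 1; simp only; omega) a3 a4⟩

theorem Two.equiv (h : Two H J F ψ) : Nonempty (G ≃* alternatingGroup (Fin 9)) := by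
  obtain ⟨t, ht⟩ := h.moore
  obtain ⟨φ, hφ⟩ := Pres.exists_hom_alt 7 _ ht
  have h0 : φ (g9 0) = F (i0, 0, 0, 1) := hφ 0
  have h1 : φ (g9 6 * g9 5) = F (i0, 0, 1, 0) := by
    rw [map_mul, ← h.pc, ← rel7.2.1.2.2.2.2.2.1, map_mul]
    exact congrArg₂ (· * ·) (hφ 6) (hφ 5)
  have h2 : φ (g9 2 * g9 3) = F (i0, 1, 0, 0) := by
    rw [map_mul, ← h.pd, ← rel7.2.1.2.2.2.2.2.2, map_mul]
    exact congrArg₂ (· * ·) (hφ 2) (hφ 3)
  let w : Fin 3 → V27 := ![(0, 0, 1), (0, 1, 1), (1, 1, 1)]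
  have h3 : ∀ i, φ (c9 i) = F (i0, w i) := fun i => by
    fin_cases i
    · exact h0
    · change φ (_ * _) = _
      rw [map_mul, h0, h1, ← h.par.add]; rfl
    · change φ (_ * _ * _) = _
      rw [map_mul, map_mul, h0, h1, h2, ← h.par.add, ← h.par.add]; rfl
  have hs := alternatingGroup.isSimpleGroup (α := Fin 9) (by simp)
  have inj : Function.Injective φ := (MonoidHom.ker_eq_bot_iff φ).mp
    (φ.normal_ker.eq_bot_or_eq_top.resolve_right fun e => h.par.ne_one (v := (0, 0, 1)) (by decide)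
      (h0 ▸ (e.ge (mem_top (g9 0)) :)))
  have hz : ∀ g, g * F (i0, 0, 0, 1) = F (i0, 0, 0, 1) * g → g ∈ φ.range := fun g hg => by
    obtain ⟨k, σ, -, rfl⟩ := h.six.cent hg
    exact mul_mem (pow_mem (h0 ▸ ⟨_, rfl⟩) k) (mem_of_sw (M := φ.range) ⟨_, hφ 6⟩ ⟨_, hφ 5⟩
      ⟨_, hφ 4⟩ ⟨_, hφ 3⟩ ⟨_, hφ 2⟩ σ)
  have hc : ∀ y ∈ φ.range, orderOf y = 3 → ∃ i, HC φ.range (F (i0, w i)) y := by
    rintro _ ⟨X, rfl⟩ o
    rw [orderOf_injective φ inj] at o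
    obtain ⟨i, hi⟩ := c9_cls X (o ▸ pow_orderOf_eq_one X) (by
      rintro rfl; rw [orderOf_one] at o; omega)
    obtain ⟨g, rfl⟩ := isConj_iff.mp hi
    exact ⟨i, φ g, ⟨g, rfl⟩, by simp [h3]⟩
  have hw : ∀ i j, IsConj (F (i0, w i)) (F (i0, w j)) → i = j := fun i j e =>
    (by decide : ∀ i j, cls3 (w i) = cls3 (w j) → i = j) i j ((h.isConj_j _ _).mp e)
  have hH : H ≤ φ.range := fun g hg => by
    have e : IsConj (F (i0, 0, 0, 1)) (g * F (i0, 0, 0, 1) * g⁻¹) := isConj_iff.mpr ⟨g, rfl⟩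
    obtain ⟨i, hi⟩ := hc _ (hz _ (h.par.comm _ (h.norm _ (h.par.mem' _) g hg) _ (h.par.mem' _)))
      (((MulAut.conj g).orderOf_eq _).trans h.six.ord)
    obtain rfl := hw 0 i (e.trans hi.isConj.symm)
    obtain ⟨m, hm, e⟩ := hi
    refine (mul_mem_cancel_left (inv_mem hm)).mp (hz _ ?_)
    rw [← mul_inv_eq_iff_eq_mul]
    calc _ = m⁻¹ * (g * F (i0, 0, 0, 1) * g⁻¹) * m := by group
      _ = _ := by rw [← e]; simp [w, mul_assoc]
  have top := AltM.eq_top_of_wc (m := 1) le_rfl φ inj fun y hy o =>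
    wc_of_classes _ (hc y hy o) (fun w hw e => hc w hw (by
      obtain ⟨k, rfl⟩ := isConj_iff.mp e
      exact ((MulAut.conj k).orderOf_eq y).trans o)) (fun i j e => by
        obtain rfl := hw i j e
        exact ⟨1, one_mem _, by simp⟩) fun i k e => by
        fin_cases i
        exacts [hz k e, hH (h.cent (by decide) (mem_centralizer_singleton_iff.mpr e)),
          hH (h.cent (by decide) (mem_centralizer_singleton_iff.mpr e))]
  exact ⟨(MulEquiv.ofBijective φ ⟨inj, MonoidHom.range_eq_top.mp top⟩).symm⟩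

theorem Loc.eq_top_or (h : Loc H J F) (hO : ∀ v, v ≠ 0 →
    Cfsg.pPrimeCore 3 (centralizer ({F (i0, v)} : Set G)) = ⊥) :
    H = ⊤ ∨ Nonempty (G ≃* alternatingGroup (Fin 9)) := by
  have he := h.cent_e (hO _ (by decide))
  have hw := h.cent_w he (hO _ (by decide))
  rcases h.cent_c he with hc | ⟨f, hf⟩
  · refine Or.inl (h.eq_top fun j hj h1 => ?_)
    obtain ⟨v, rfl⟩ := (h.par.mem j).mp hj
    rcases (by decide : ∀ v, v = 0 ∨ cls3 (0, 0, 1) = cls3 v ∨ cls3 (1, 1, 0) = cls3 v ∨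
      cls3 (1, 1, 1) = cls3 v) v with rfl | e | e | e
    exacts [absurd h.one h1, h.cent_of_cls e hc, h.cent_of_cls e he, h.cent_of_cls e hw]
  · obtain ⟨ψ, h1, h2, h3, h4, h5⟩ := h.exists_six hf
    exact Or.inr (Two.equiv ⟨h, he, hw, h1, h2, h3, h4, h5⟩)

end A9

end Cfsg.Agent.Char
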