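import Cfsg.Agent.Char.A9End
import Cfsg.Agent.Char.SEmb

/-!
# Fusion in a group in which `3³ : S₄` is the normaliser of its `3`-core
-/

set_option autoImplicit false
set_option synthInstance.maxSize 4096

namespace Cfsg.Agent.Char

open Subgroup Local
open scoped Pointwise

variable {G : Type*} [Group G]

theorem isPGroup_zpowers_of_pow {x : G} {p k : ℕ} (h : x ^ p ^ k = 1) : IsPGroup p (zpowers x) :=
  IsPGroup.of_card_dvd_pow (n := k) (by
    rw [Nat.card_zpowers]; exact orderOf_dvd_of_pow_eq_one h)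

theorem three_pgroup [Finite G] {x y : G} (hx : x ^ 3 = 1) (hy : y ^ 3 = 1) (hxy : (x * y) ^ 3 = 1)
    {k : ℕ} (h : (x⁻¹ * y) ^ 3 ^ k = 1) : ∃ P : Subgroup G, IsPGroup 3 P ∧ x ∈ P ∧ y ∈ P := by
  obtain ⟨hc, h1, -⟩ := commute_of_three hx hy hxy
  set w := x⁻¹ * y with hw
  set w1 := x * w * x⁻¹ with hw1
  have hx' : x * x = x⁻¹ := by rw [eq_inv_iff_mul_eq_one, ← pow_three', hx]
  have e1 : x * w1 * x⁻¹ = (w * w1)⁻¹ := by
    rw [eq_inv_iff_mul_eq_one]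
    calc _ = w1⁻¹ * (w1 * ((x * x) * w * (x * x)⁻¹) * w) * w1 := by rw [hw1]; group
      _ = 1 := by rw [hx', inv_inv, h1]; group
  have : Fact (Nat.Prime 3) := ⟨Nat.prime_three⟩
  have hA : IsPGroup 3 ↥(zpowers w ⊔ zpowers w1) := by
    refine (isPGroup_zpowers_of_pow h).to_sup_of_normal_right' (isPGroup_zpowers_of_pow (k := k)
      (by rw [hw1, conj_pow, h]; group)) (zpowers_le.mpr (centralizer_le_normalizer _ ?_))
    rintro _ ⟨n, rfl⟩
    exact (hc.symm.zpow_left n).eq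
  have hxA : zpowers x ≤ normalizer ((zpowers w ⊔ zpowers w1 : Subgroup G) : Set G) := by
    rw [zpowers_le]
    refine mem_normalizer_fintype (fun n hn => ?_)
    have : (zpowers w ⊔ zpowers w1).map (MulAut.conj x).toMonoidHom ≤ zpowers w ⊔ zpowers w1 := by
      rw [Subgroup.map_sup, sup_le_iff, MonoidHom.map_zpowers, MonoidHom.map_zpowers, zpowers_le,
        zpowers_le]
      simp only [MulEquiv.toMonoidHom_eq_coe, MonoidHom.coe_coe, MulAut.conj_apply, e1, ← hw1]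
      exact ⟨mem_sup_right (mem_zpowers _), inv_mem (mul_mem (mem_sup_left (mem_zpowers _))
        (mem_sup_right (mem_zpowers _)))⟩
    exact this ⟨n, hn, rfl⟩
  refine ⟨zpowers x ⊔ (zpowers w ⊔ zpowers w1),
    (isPGroup_zpowers_of_pow (k := 1) hx).to_sup_of_normal_right' hA hxA,
    mem_sup_left (mem_zpowers _), ?_⟩
  rw [show y = x * w by rw [hw]; group]
  exact mul_mem_sup (mem_zpowers _) (mem_sup_left (mem_zpowers _))

namespace A9

/-- An element of order three outside the translation group. -/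
def sx : X648 := ((1, false, false, false), 0)

theorem cj_sx : ∀ y, pw y 3 = (i0, 0) → y.1 ≠ i0 → Cj y sx := by decide +kernel

theorem card_cent_sx : (Finset.univ.filter (fun z => mx z sx = mx sx z)).card = 9 := by
  decide +kernel

theorem exp36 : ∀ y, pw y 36 = (i0, 0) := by decide +kernel

theorem pw9 : ∀ y, pw y 9 = (i0, 0) → (pw y 3).1 = i0 := by decide +kernel

theorem fix_cls : ∀ y v, pw y 3 = (i0, 0) → act y.1 v = v → cls3 v = 1 ∨ cls3 v = 2 → y.1 = i0 := by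
  decide +kernel

theorem act_faith : ∀ i, act i (0, 0, 1) = (0, 0, 1) → act i (0, 1, 0) = (0, 1, 0) → i = i0 := by
  decide +kernel

/-- `H` is the normaliser of `J`. -/
structure Loc (H J : Subgroup G) (F : X648 → G) : Prop extends Mod H F where
  par : Param J (fun v => F (i0, v))
  wc : ∀ g, (∀ j ∈ J, g * j * g⁻¹ ∈ J) → g ∈ H

variable {H J : Subgroup G} {F : X648 → G}

theorem Loc.mem_J (h : Loc H J F) {y : X648} : F y ∈ J ↔ y.1 = i0 := by
  rw [h.par.mem]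
  exact ⟨fun ⟨v, e⟩ => (congrArg Prod.fst (h.inj e)).symm, fun e => ⟨y.2, by rw [← e]⟩⟩

theorem Loc.le (h : Loc H J F) : J ≤ H := fun j hj => by
  obtain ⟨v, rfl⟩ := (h.par.mem _).mp hj
  exact h.mem' _

theorem Loc.norm (h : Loc H J F) : ∀ j ∈ J, ∀ g ∈ H, g * j * g⁻¹ ∈ J := by
  intro j hj g hg
  obtain ⟨v, rfl⟩ := (h.par.mem _).mp hj
  obtain ⟨x, rfl⟩ := (h.mem _).mp hg
  rw [h.conj_j]
  exact h.par.mem' _

theorem Loc.cube (h : Loc H J F) {j : G} (hj : j ∈ J) : j ^ 3 = 1 := by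
  obtain ⟨v, rfl⟩ := (h.par.mem _).mp hj
  exact h.par.cube V27_three v

theorem Loc.pgrp (h : Loc H J F) : IsPGroup 3 J := fun j => ⟨1, Subtype.ext (h.cube j.2)⟩

theorem Mod.pw_eq (h : Mod H F) {y : X648} {n : ℕ} : pw y n = (i0, 0) ↔ F y ^ n = 1 := by
  rw [← h.pow, ← h.one, h.inj.eq_iff]

theorem Mod.cm (h : Mod H F) {x y : X648} : F x * F y = F y * F x ↔ mx x y = mx y x := by
  rw [← h.mul, ← h.mul, h.inj.eq_iff]

theorem Mod.act_eq (h : Mod H F) {x : X648} {v : V27} (e : F x * F (i0, v) = F (i0, v) * F x) :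
    act x.1 v = v := by
  have := h.conj_j x v
  rw [e, mul_inv_cancel_right] at this
  exact (congrArg Prod.snd (h.inj this)).symm

theorem Mod.hc_sx (h : Mod H F) {y : X648} (h3 : F y ^ 3 = 1) (h1 : y.1 ≠ i0) :
    HC H (F y) (F sx) := by
  obtain ⟨z, hz⟩ := cj_sx y (h.pw_eq.mpr h3) h1
  exact ⟨F z, h.mem' z, (h.conj_iff _ _ _).mpr hz⟩

theorem Loc.cube_mem (h : Loc H J F) {t : G} (ht : t ∈ H) {k : ℕ} (hk : t ^ 3 ^ k = 1) :
    t ^ 3 ∈ J := by
  obtain ⟨y, rfl⟩ := (h.mem t).mp ht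
  rw [← h.pow, h.mem_J]
  refine pw9 y (h.pw_eq.mpr ?_)
  have h1 := h.pw_eq.mp (exp36 y)
  rw [← orderOf_dvd_iff_pow_eq_one] at hk h1 ⊢
  exact (Nat.Coprime.coprime_dvd_left hk (Nat.Coprime.pow_left k (by norm_num : Nat.Coprime 3 4))
    ).dvd_of_dvd_mul_left (n := 9) h1

variable [Finite G]

theorem Loc.wcJ (h : Loc H J F) {g : G} (hg : ∀ j ∈ J, g * j * g⁻¹ ∈ H) : g ∈ H := by
  refine h.wc g fun j hj => ?_
  obtain ⟨y, hy⟩ := (h.mem _).mp (hg j hj)
  rw [← hy, h.mem_J]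
  by_contra h1
  obtain ⟨k, hk, e⟩ := h.hc_sx (by rw [hy, conj_pow, h.cube hj]; group) h1
  have h2 := h.card_filter (fun x => x ∈ H ∧ x * F sx = F sx * x) _ (fun _ hx => hx.1)
    (fun z => by rw [and_iff_right (h.mem' z), h.cm])
  rw [card_cent_sx] at h2
  have h3 := Nat.card_le_card_of_injective (fun a : J => (⟨k * (g * a * g⁻¹) * k⁻¹,
    mul_mem (mul_mem hk (hg _ a.2)) (inv_mem hk), by
      rw [← e, hy, conj_mul, conj_mul, conj_mul, conj_mul, h.par.comm _ a.2 _ hj]⟩ :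
      {x // x ∈ H ∧ x * F sx = F sx * x})) fun a b e => by simpa using e
  rw [h2, h.par.card] at h3
  simp at h3

theorem Loc.le_of_pgroup (h : Loc H J F) {P : Subgroup G} (hP : IsPGroup 3 P) (hJ : J ≤ P) :
    P ≤ H := by
  have : Fact (Nat.Prime 3) := ⟨Nat.prime_three⟩
  by_contra hn
  obtain ⟨g, hg, h1, h2⟩ := exists_mem_normalizer_of_lt_of_isNilpotent (Q := P ⊓ H) hP.isNilpotent
    (lt_of_le_of_ne inf_le_left fun e => hn (e.ge.trans inf_le_right))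
  exact h2 ⟨hg, h.wcJ fun j hj =>
    (conj_mem_of_mem_normalizer h1 (⟨hJ hj, h.le hj⟩ : j ∈ P ⊓ H)).2⟩

theorem Loc.exists_conj (h : Loc H J F) {Y P : Subgroup G} (hY : J ≤ Y) (hP : IsPGroup 3 P)
    (hPY : P ≤ Y) : ∃ k ∈ Y, ∀ p ∈ P, k * p * k⁻¹ ∈ H := by
  have : Fact (Nat.Prime 3) := ⟨Nat.prime_three⟩
  obtain ⟨R, hR, h1⟩ := exists_isSylowIn_ge h.pgrp hY
  obtain ⟨k, hk, h2⟩ := hR.exists_le_conj hP hPY
  exact ⟨k⁻¹, inv_mem hk, fun p hp => by
    simpa using h.le_of_pgroup hR.isPGroup h1 (Local.mem_conj_smul_iff.mp (h2 hp))⟩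

theorem Loc.le_cent (h : Loc H J F) {j : G} (hj : j ∈ J) : J ≤ centralizer {j} :=
  fun a ha => mem_centralizer_singleton_iff.mpr (h.par.comm a ha j hj)

theorem Loc.fus (h : Loc H J F) {j g : G} (hj : j ∈ J) (hg : g * j * g⁻¹ ∈ J) :
    ∃ k, k * (g * j * g⁻¹) = g * j * g⁻¹ * k ∧ k * g ∈ H := by
  obtain ⟨k, hk, h1⟩ := h.exists_conj (P := MulAut.conj g • J) (h.le_cent hg) (h.pgrp.map _) (by
    rintro _ ⟨a, ha, rfl⟩
    exact mem_centralizer_singleton_iff.mpr (by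
      change g * a * g⁻¹ * _ = _ * (g * a * g⁻¹)
      rw [conj_mul, conj_mul, h.par.comm a ha j hj]))
  exact ⟨k, mem_centralizer_singleton_iff.mp hk, h.wcJ fun a ha => by
    simpa [mul_assoc] using h1 _ ⟨a, ha, rfl⟩⟩

theorem Loc.hc_j (h : Loc H J F) {j j' : G} (hj : j ∈ J) (hj' : j' ∈ J) (e : IsConj j j') :
    HC H j j' := by
  obtain ⟨g, rfl⟩ := isConj_iff.mp e
  obtain ⟨k, h1, h2⟩ := h.fus hj hj'
  exact ⟨_, h2, by
    calc _ = k * (g * j * g⁻¹) * k⁻¹ := by group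
      _ = _ := by rw [h1]; group⟩

theorem Loc.isConj_j (h : Loc H J F) (u v : V27) :
    IsConj (F (i0, u)) (F (i0, v)) ↔ cls3 u = cls3 v := by
  constructor
  · intro hc
    obtain ⟨g, hg, e⟩ := h.hc_j (h.par.mem' u) (h.par.mem' v) hc
    obtain ⟨x, rfl⟩ := (h.mem g).mp hg
    rw [h.conj_j] at e
    rw [← h.par.inj e, cls3_act]
  · intro hc
    obtain ⟨i, rfl⟩ := act_of_cls3 u v hc
    exact isConj_iff.mpr ⟨_, h.conj_j (i, 0) u⟩

theorem Loc.emb_j (h : Loc H J F) {j g : G} (hj : j ∈ J) (hC : centralizer {j} ≤ H)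
    (hg : g * j * g⁻¹ ∈ J) : g ∈ H := by
  obtain ⟨k, h1, h2⟩ := h.fus hg (g := g⁻¹) (by simpa [mul_assoc] using hj)
  have h3 : k ∈ H := hC (mem_centralizer_singleton_iff.mpr (by simpa [mul_assoc] using h1))
  exact inv_mem_iff.mp ((mul_mem_cancel_left h3).mp h2)

theorem Loc.cent_of_cls (h : Loc H J F) {u v : V27} (e : cls3 u = cls3 v)
    (hC : centralizer {F (i0, u)} ≤ H) : centralizer {F (i0, v)} ≤ H := by
  obtain ⟨i, rfl⟩ := act_of_cls3 u v e
  intro g hg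
  rw [← h.conj_j (i, 0), mem_centralizer_singleton_iff] at hg
  have := hC (x := (F (i, 0))⁻¹ * g * F (i, 0)) (mem_centralizer_singleton_iff.mpr (by
    calc _ = (F (i, 0))⁻¹ * (g * (F (i, 0) * F (i0, u) * (F (i, 0))⁻¹)) * F (i, 0) := by group
      _ = _ := by rw [hg]; group))
  rwa [mul_mem_cancel_right (h.mem' _), mul_mem_cancel_left (inv_mem (h.mem' _))] at this

theorem Loc.closed (h : Loc H J F) (hw : centralizer {F (rep 2)} ≤ H) {v : V27}
    (hv : cls3 v = 1 ∨ cls3 v = 2) {g : G} (hg : g * F (i0, v) * g⁻¹ ∈ H) :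
    g * F (i0, v) * g⁻¹ ∈ J := by
  obtain ⟨y, hy⟩ := (h.mem _).mp hg
  rw [← hy, h.mem_J]
  by_contra h1
  have w3 : F (rep 2) ^ 3 = 1 := h.par.cube V27_three _
  obtain ⟨k, hk, e⟩ := h.hc_sx (by rw [hy, conj_pow, h.par.cube V27_three]; group) h1
  rw [hy, show k * (g * F (i0, v) * g⁻¹) * k⁻¹ = (k * g) * F (i0, v) * (k * g)⁻¹ by group] at e
  generalize k * g = g at e
  have h2 : g⁻¹ * F (rep 2) * g ∈ centralizer {F (i0, v)} := mem_centralizer_singleton_iff.mpr (by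
    calc _ = g⁻¹ * (F (rep 2) * (g * F (i0, v) * g⁻¹)) * g := by group
      _ = _ := by rw [e, h.comm (x := rep 2) (by decide), ← e]; group)
  have h3 : (g⁻¹ * F (rep 2) * g) ^ 3 = 1 := by
    simpa [w3] using conj_pow (a := g⁻¹) (b := F (rep 2)) (i := 3)
  obtain ⟨m, hm, h4⟩ := h.exists_conj (h.le_cent (h.par.mem' v))
    (isPGroup_zpowers_of_pow (k := 1) h3) (zpowers_le.mpr h2)
  obtain ⟨z, hz⟩ := (h.mem _).mp (h4 _ (mem_zpowers _))
  have h5 := h.emb_j (g := m * g⁻¹) (h.par.mem' (1, 1, 1)) hw (by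
    rw [show m * g⁻¹ * F (i0, 1, 1, 1) * (m * g⁻¹)⁻¹ = F z by rw [hz]; simp [rep, mul_assoc],
      h.mem_J]
    exact fix_cls z v (h.pw_eq.mpr (by rw [hz, conj_pow, h3]; group)) (h.act_eq (by
      rw [hz]
      exact mem_centralizer_singleton_iff.mp (mul_mem (mul_mem hm h2) (inv_mem hm)))) hv)
  have h6 := h.norm _ (h.par.mem' v) _ (inv_mem h5)
  have h7 : (m * g⁻¹)⁻¹ * F (i0, v) * (m * g⁻¹)⁻¹⁻¹ = F sx := by
    rw [← e]
    calc _ = g * (m⁻¹ * (F (i0, v) * m)) * g⁻¹ := by group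
      _ = _ := by rw [← mem_centralizer_singleton_iff.mp hm]; group
  rw [h7, h.mem_J] at h6
  exact absurd h6 (by decide)

theorem Loc.wc_j (h : Loc H J F) (hw : centralizer {F (rep 2)} ≤ H) {v : V27}
    (hv : cls3 v = 1 ∨ cls3 v = 2) (hC : centralizer {F (i0, v)} ≤ H) : WC H (F (i0, v)) :=
  fun _ hg => h.emb_j (h.par.mem' v) hC (h.closed hw hv hg)

theorem Loc.cent_J (h : Loc H J F) {g : G} (hg : ∀ j ∈ J, g * j = j * g) : g ∈ J := by
  obtain ⟨y, rfl⟩ := (h.mem g).mp (h.wc g fun j hj => by rwa [hg j hj, mul_inv_cancel_right])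
  rw [h.mem_J]
  exact act_faith _ (h.act_eq (hg _ (h.par.mem' _))) (h.act_eq (hg _ (h.par.mem' _)))

end A9

end Cfsg.Agent.Char
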