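import Cfsg.Agent.Char.A9Fus
import Cfsg.Agent.Char.SelfCentNine
import Cfsg.Agent.Block.STMain
import Cfsg.Agent.Local.Thompson

/-!
# The centralisers of the elements of order three of `3³ : S₄`
-/

set_option autoImplicit false
set_option synthInstance.maxSize 4096

namespace Cfsg.Agent.Char

open Subgroup Local
open scoped Pointwise

variable {G : Type*} [Group G]

theorem pPrimeCore_eq_bot_of_central [Finite G] {p : ℕ} [Fact p.Prime] {Q : Type*} [Group Q]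
    [Finite Q] {f : G →* Q} (hf : Function.Surjective f) (hz : ∀ z ∈ f.ker, ∀ g, g * z = z * g)
    (hp : IsPGroup p f.ker) (hO : Cfsg.pPrimeCore p G = ⊥) : Cfsg.pPrimeCore p Q = ⊥ := by
  have h1 : (Nat.card (Cfsg.pPrimeCore p Q)).Coprime p := coprime_card_pPrimeCore p
  have hn : (Cfsg.pPrimeCore p Q).Normal := inferInstance
  generalize Cfsg.pPrimeCore p Q = O at h1 hn
  have hS : IsSylowIn p f.ker (O.comap f) := ⟨ker_le_comap _ _, hp, by
    rw [relIndex_ker, map_comap_eq_self_of_surjective hf]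
    exact (Nat.Prime.coprime_iff_not_dvd Fact.out).mp h1.symm⟩
  have h2 := hasNPC_of_fusion hS fun x hx g _ _ => ⟨1, one_mem _, by rw [hz x hx]; group⟩
  have h3 : h2.compl ≤ ⊥ := hO ▸ le_pPrimeCore (normal_of_forall_mem_normalizer fun g =>
    h2.normalizer_le (normalizer_eq_top (O.comap f) ▸ mem_top g)) (h2.coprime_card Fact.out)
  have h4 := h2.sup_compl hS
  rw [le_bot_iff.mp h3, sup_bot_eq] at h4
  rw [← map_comap_eq_self_of_surjective hf O, ← h4, Subgroup.map_eq_bot_iff]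

/-- The quotient of the centraliser of an element of order three. -/
structure CQ (z : G) {Q : Type*} [Group Q] (f : centralizer ({z} : Set G) →* Q) : Prop where
  ord : orderOf z = 3
  surj : Function.Surjective f
  ker : ∀ g, f g = 1 ↔ (g : G) ∈ zpowers z

theorem exists_cq {z : G} (hz : orderOf z = 3) : ∃ (N : Subgroup (centralizer ({z} : Set G)))
    (_ : N.Normal), CQ z (QuotientGroup.mk' N) :=
  have hN : ((zpowers z).subgroupOf (centralizer {z})).Normal := ⟨fun n hn g => by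
    obtain ⟨k, hk⟩ := mem_subgroupOf.mp hn
    refine ⟨k, ?_⟩
    change z ^ k = g * n * (g : G)⁻¹
    rw [← show z ^ k = n from hk, (Commute.zpow_right (mem_centralizer_singleton_iff.mp g.2) k).eq,
      mul_inv_cancel_right]⟩
  ⟨_, hN, hz, QuotientGroup.mk'_surjective _, fun g => QuotientGroup.eq_one_iff g⟩

/-- The image of a subgroup. -/
def im {z : G} {Q : Type*} [Group Q] (f : centralizer ({z} : Set G) →* Q) (A : Subgroup G) :
    Subgroup Q := (A.subgroupOf _).map f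

section

variable {z : G} {Q : Type*} [Group Q] {f : centralizer ({z} : Set G) →* Q} {A : Subgroup G}

theorem CQ.eq_iff (h : CQ z f) {a b : centralizer ({z} : Set G)} :
    f a = f b ↔ (a : G) * (b : G)⁻¹ ∈ zpowers z := by
  rw [← mul_inv_eq_one, ← map_inv, ← map_mul, h.ker]; rfl

theorem CQ.mem_im (h : CQ z f) (hz : z ∈ A) {g : centralizer ({z} : Set G)} :
    f g ∈ im f A ↔ (g : G) ∈ A := by
  refine ⟨fun ⟨a, ha, e⟩ => ?_, fun e => ⟨g, e, rfl⟩⟩
  simpa using mul_mem (inv_mem (zpowers_le.mpr hz (h.eq_iff.mp e))) ha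

theorem CQ.card_im (h : CQ z f) (hz : z ∈ A) (hA : A ≤ centralizer {z}) :
    3 * Nat.card (im f A) = Nat.card A := by
  have h1 : f.ker = (zpowers z).subgroupOf _ := by ext g; exact h.ker g
  rw [im, ← relIndex_ker, h1, relIndex_subgroupOf hA, ← card_mul_relIndex (zpowers_le.mpr hz),
    Nat.card_zpowers, h.ord]

theorem CQ.sylow (h : CQ z f) (hA : IsSylowIn 3 A (centralizer {z})) : IsSylowIn 3 (im f A) ⊤ :=
  have : Fact (Nat.Prime 3) := ⟨Nat.prime_three⟩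
  isSylowIn_map_top (subgroupOf_self (centralizer {z}) ▸ hA.subgroupOf le_rfl) h.surj

theorem CQ.core [Finite G] [Finite Q] (h : CQ z f)
    (hO : Cfsg.pPrimeCore 3 (centralizer ({z} : Set G)) = ⊥) : Cfsg.pPrimeCore 3 Q = ⊥ :=
  have : Fact (Nat.Prime 3) := ⟨Nat.prime_three⟩
  pPrimeCore_eq_bot_of_central h.surj (fun a ha g => Subtype.ext (by
    obtain ⟨k, hk⟩ := (h.ker a).mp ha
    rw [coe_mul, coe_mul, ← hk]
    exact (Commute.zpow_right (mem_centralizer_singleton_iff.mp g.2) k).eq)) (fun a =>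
      ⟨1, Subtype.ext (Subtype.ext (by
        obtain ⟨k, hk⟩ := (h.ker a).mp a.2
        change ((a : centralizer ({z} : Set G)) : G) ^ 3 = 1
        rw [← hk, ← zpow_natCast, ← zpow_mul, mul_comm, zpow_mul, zpow_natCast, ← h.ord,
          pow_orderOf_eq_one, one_zpow]))⟩) hO

end

namespace A9

theorem fix_cls' : ∀ y v, (pw y 3).1 = i0 → act y.1 v = v → cls3 v = 1 ∨ cls3 v = 2 →
    y.1 = i0 := by decide +kernel

/-- Congruence modulo a line. -/
def Cg (z u v : V27) : Prop := u - v = 0 ∨ u - v = z ∨ u - v = -z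

instance (z u v : V27) : Decidable (Cg z u v) :=
  inferInstanceAs (Decidable (_ ∨ _ ∨ _))

theorem cg_e : ∀ i, act i (1, 1, 0) = (1, 1, 0) → ∀ v, act i v = v ∨
    Cg (1, 1, 0) (act i v) (-v) := by decide +kernel

theorem cg_u : ∀ w, Cg (1, 1, 0) (act (rep 12).1 w) (-w) := by decide

theorem cls_eq : cls3 (1, 1, 0) = cls3 (1, 2, 0) ∧ 2 = cls3 (1, 1, 0) := by decide

theorem cg_w : ∀ i, act i (1, 1, 1) = (1, 1, 1) → Cg (1, 1, 1) (act i (1, 2, 0)) (1, 2, 0) ∧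
    (Cg (1, 1, 1) (act i (0, 0, 1)) (0, 0, 1) → i = i0) := by decide +kernel

theorem cg_c : ∀ v, ¬ Cg (0, 0, 1) v 0 → ∃ u, Cg (0, 0, 1) u v ∧ cls3 u = 2 ∧
    ∀ i, act i (0, 0, 1) = (0, 0, 1) → Cg (0, 0, 1) (act i u) u → i = i0 := by decide +kernel

variable {H J : Subgroup G} {F : X648 → G}

theorem Loc.ord (h : Loc H J F) {v : V27} (hv : v ≠ 0) : orderOf (F (i0, v)) = 3 :=
  have : Fact (Nat.Prime 3) := ⟨Nat.prime_three⟩
  orderOf_eq_prime (h.par.cube V27_three v) (h.par.ne_one hv)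

theorem Loc.cg (h : Loc H J F) {z : V27} (hz : z ≠ 0) {u v : V27} :
    F (i0, u) * (F (i0, v))⁻¹ ∈ zpowers (F (i0, z)) ↔ Cg z u v := by
  rw [← h.par.neg, ← h.par.add, ← sub_eq_add_neg]
  constructor
  · intro e
    have := mem_zpowers_three (h.ord hz) e
    rw [← h.par.neg, ← h.par.zero] at this
    exact this.imp h.par.inj.eq_iff.mp (Or.imp h.par.inj.eq_iff.mp h.par.inj.eq_iff.mp)
  · rintro (e | e | e) <;> rw [e]
    · rw [h.par.zero]; exact one_mem _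
    · exact mem_zpowers _
    · rw [h.par.neg]; exact inv_mem (mem_zpowers _)

variable [Finite G]

theorem Loc.sylow_cent (h : Loc H J F) {v : V27} (hv : cls3 v = 1 ∨ cls3 v = 2) :
    IsSylowIn 3 J (centralizer {F (i0, v)}) :=
  have : Fact (Nat.Prime 3) := ⟨Nat.prime_three⟩
  isSylowIn_of_maximal (h.le_cent (h.par.mem' v)) h.pgrp fun R hR h1 h2 =>
    le_antisymm (fun r hr => by
      obtain ⟨k, hk⟩ := hR ⟨r, hr⟩
      have h3 := h.cube_mem (h.le_of_pgroup hR h1 hr) (congrArg Subtype.val hk)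
      obtain ⟨y, rfl⟩ := (h.mem r).mp (h.le_of_pgroup hR h1 hr)
      rw [← h.pow, h.mem_J] at h3
      exact h.mem_J.mpr (fix_cls' y v h3 (h.act_eq (mem_centralizer_singleton_iff.mp (h2 hr))) hv)) h1

theorem Loc.fus' (h : Loc H J F) {z j g : G} (hz : z ∈ J) (hgz : g * z = z * g) (hj : j ∈ J)
    (hg : g * j * g⁻¹ ∈ J) : ∃ y, F y * z = z * F y ∧ F y * j * (F y)⁻¹ = g * j * g⁻¹ := by
  obtain ⟨k, ⟨hk, hk'⟩, h1⟩ := h.exists_conj (P := MulAut.conj g • J)
    (le_inf (h.le_cent hg) (h.le_cent hz)) (h.pgrp.map _) (by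
      rintro _ ⟨a, ha, rfl⟩
      refine ⟨mem_centralizer_singleton_iff.mpr ?_, mul_mem (mul_mem
        (mem_centralizer_singleton_iff.mpr hgz) (h.le_cent hz ha))
        (Subgroup.inv_mem _ (mem_centralizer_singleton_iff.mpr hgz))⟩
      change g * a * g⁻¹ * _ = _ * (g * a * g⁻¹)
      rw [conj_mul, conj_mul, h.par.comm a ha j hj])
  obtain ⟨y, hy⟩ := (h.mem _).mp (h.wcJ (g := k * g) fun a ha => by
    simpa [mul_assoc] using h1 _ ⟨a, ha, rfl⟩)
  refine ⟨y, ?_, ?_⟩ <;> rw [hy]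
  · exact Commute.mul_left (mem_centralizer_singleton_iff.mp hk') hgz
  · calc _ = k * (g * j * g⁻¹) * k⁻¹ := by group
      _ = _ := by rw [mem_centralizer_singleton_iff.mp hk]; group

variable {Q : Type*} [Group Q] {v : V27} {f : centralizer ({F (i0, v)} : Set G) →* Q}

theorem Loc.im_card (h : Loc H J F) (hf : CQ _ f) : Nat.card (im f J) = 9 := by
  have := hf.card_im (h.par.mem' v) (h.le_cent (h.par.mem' v))
  rw [h.par.card, show Nat.card V27 = 27 by simp] at this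
  omega

theorem Loc.im_ea (h : Loc H J F) : IsEA 3 (im f J) :=
  IsEA.map ⟨fun a ha b hb => Subtype.ext (h.par.comm _ ha _ hb),
    fun _ ha => Subtype.ext (h.cube ha)⟩ f

theorem Loc.le_of_normal (h : Loc H J F) (hf : CQ _ f) (hn : (im f J).Normal) :
    centralizer {F (i0, v)} ≤ H := fun g hg => h.wc g fun j hj =>
  (hf.mem_im (h.par.mem' v) (g := ⟨g, hg⟩ * ⟨j, h.le_cent (h.par.mem' v) hj⟩ * ⟨g, hg⟩⁻¹)).mp (by
    rw [map_mul, map_mul, map_inv]
    exact hn.conj_mem _ ((hf.mem_im (h.par.mem' v)).mpr hj) _)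

theorem Loc.cent_e (h : Loc H J F)
    (hO : Cfsg.pPrimeCore 3 (centralizer ({F (i0, 1, 1, 0)} : Set G)) = ⊥) :
    centralizer {F (i0, 1, 1, 0)} ≤ H := by
  have eJ := h.par.mem' (1, 1, 0)
  obtain ⟨N, hN, hf⟩ := exists_cq (h.ord (v := (1, 1, 0)) (by decide))
  generalize QuotientGroup.mk' N = f at hf
  have hc := h.im_card hf
  have hea := h.im_ea (f := f)
  have hu : F (rep 12) ∈ centralizer {F (i0, 1, 1, 0)} :=
    mem_centralizer_singleton_iff.mpr (h.comm (by decide))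
  have key : ∀ (y) (hy : F y ∈ centralizer {F (i0, 1, 1, 0)}) (w) (hw), act y.1 w = w ∨
      f ⟨F y, hy⟩ * f ⟨F (i0, w), hw⟩ * (f ⟨F y, hy⟩)⁻¹ = (f ⟨F (i0, w), hw⟩)⁻¹ := fun y hy w hw =>
    (cg_e _ (h.act_eq (mem_centralizer_singleton_iff.mp hy)) w).imp_right fun e => by
      rw [← map_inv, ← map_inv, ← map_mul, ← map_mul, hf.eq_iff]
      change F y * F (i0, w) * (F y)⁻¹ * (F (i0, w))⁻¹⁻¹ ∈ _
      rwa [h.conj_j, ← h.par.neg w, h.cg (by decide)]
  have : Fact (Nat.Prime 3) := ⟨Nat.prime_three⟩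
  obtain ⟨P, hP⟩ := (hf.sylow (h.sylow_cent (by decide))).exists_sylow_of_top
  refine h.le_of_normal hf (hP ▸ Block.STH.normal (P := P) ⟨by norm_num,
    ⟨⟨fun a b => Subtype.ext (hea.1 _ (hP ▸ a.2) _ (hP ▸ b.2))⟩⟩, by rw [hP, hc]; norm_num,
    fun g x hx hg => ?_, f ⟨_, hu⟩, fun x hx => ?_⟩ (fun hcy => ?_) (hf.core hO))
  · rw [hP] at hx hg
    obtain ⟨⟨j, hj'⟩, hj, rfl⟩ := hx
    obtain ⟨g, rfl⟩ := hf.surj g
    rw [← map_inv, ← map_mul, ← map_mul, hf.mem_im eJ] at hg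
    obtain ⟨w, rfl⟩ := (h.par.mem j).mp hj
    obtain ⟨y, h1, h2⟩ := h.fus' eJ (mem_centralizer_singleton_iff.mp (inv_mem g.2)) hj
      (by simpa using hg)
    have h3 : (f g)⁻¹ * f ⟨_, hj'⟩ * f g = f ⟨F y, mem_centralizer_singleton_iff.mpr h1⟩ *
        f ⟨_, hj'⟩ * (f ⟨F y, mem_centralizer_singleton_iff.mpr h1⟩)⁻¹ := by
      rw [← map_inv, ← map_inv, ← map_mul, ← map_mul, ← map_mul, ← map_mul]
      exact congrArg f (Subtype.ext (by simpa using h2.symm))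
    rw [h3]
    refine (key y (mem_centralizer_singleton_iff.mpr h1) w hj').imp_left fun e => ?_
    rw [← map_inv, ← map_mul, ← map_mul]
    exact congrArg f (Subtype.ext ((h.conj_j y w).trans (by rw [e])))
  · rw [hP] at hx
    obtain ⟨⟨j, hj'⟩, hj, rfl⟩ := hx
    obtain ⟨w, rfl⟩ := (h.par.mem j).mp hj
    rw [← map_inv, ← map_inv, ← map_mul, ← map_mul, hf.eq_iff]
    change F (rep 12) * F (i0, w) * (F (rep 12))⁻¹ * (F (i0, w))⁻¹⁻¹ ∈ _
    rw [h.conj_j, ← h.par.neg w, h.cg (by decide)]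
    exact cg_u w
  · obtain ⟨x, hx⟩ := IsCyclic.exists_ofOrder_eq_natCard (α := P.toSubgroup)
    have := orderOf_dvd_of_pow_eq_one (x := x) (Subtype.ext (hea.2 _ (hP ▸ x.2)))
    rw [hx, hP, hc] at this
    omega

theorem Loc.cent_w (h : Loc H J F) (he : centralizer {F (i0, 1, 1, 0)} ≤ H)
    (hO : Cfsg.pPrimeCore 3 (centralizer ({F (i0, 1, 1, 1)} : Set G)) = ⊥) :
    centralizer {F (i0, 1, 1, 1)} ≤ H := by
  have wJ := h.par.mem' (1, 1, 1)
  obtain ⟨N, hN, hf⟩ := exists_cq (h.ord (v := (1, 1, 1)) (by decide))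
  generalize QuotientGroup.mk' N = f at hf
  have hc := h.im_card hf
  have hJ := h.le_cent wJ
  set S := H ⊓ centralizer {F (i0, 1, 1, 1)} with hS
  have hJS : J ≤ S := le_inf h.le hJ
  have c81 : Nat.card S = 3 ^ 4 := (h.card_filter _ _ (fun _ hg => hg.1) fun z => by
    rw [mem_inf, and_iff_right (h.mem' z), mem_centralizer_singleton_iff, h.cm]; rfl).trans
      (gram_rep 2 2)
  have c27 := hf.card_im (hJS wJ) inf_le_right
  have sw : F sx ∈ centralizer {F (i0, 1, 1, 1)} :=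
    mem_centralizer_singleton_iff.mpr (h.comm (by decide))
  have key : ∀ y hy, f ⟨F y, hy⟩ * f ⟨_, hJ (h.par.mem' (0, 0, 1))⟩ =
      f ⟨_, hJ (h.par.mem' (0, 0, 1))⟩ * f ⟨F y, hy⟩ → y.1 = i0 := fun y hy e => by
    rw [← mul_inv_eq_iff_eq_mul, ← map_inv, ← map_mul, ← map_mul, hf.eq_iff] at e
    exact (cg_w _ (h.act_eq (mem_centralizer_singleton_iff.mp hy))).2
      ((h.cg (by decide)).mp (h.conj_j y _ ▸ e))
  have : Fact (Nat.Prime 3) := ⟨Nat.prime_three⟩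
  have hP := hf.sylow (isSylowIn_of_maximal inf_le_right (IsPGroup.of_card c81) fun R hR h1 h2 =>
    le_antisymm (le_inf (h.le_of_pgroup hR (hJS.trans h1)) h2) h1)
  have hm : im f J ≤ im f S := map_mono (comap_mono hJS)
  have h1 : im f J ≤ thJ 3 (im f S) := MaxEA.le_thJ ⟨hm, h.im_ea, fun B hB hea => by
    have h2 := card_dvd_of_le hB
    have h3 : Nat.card B ≠ Nat.card (im f S) := fun e => by
      rw [eq_of_le_of_card_ge hB e.ge] at hea
      exact absurd (key sx sw (hea.1 _ ((hf.mem_im (hJS wJ)).mpr ⟨h.mem' _, sw⟩) _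
        ((hf.mem_im (hJS wJ)).mpr (hJS (h.par.mem' _))))) (by decide)
    rw [hc]
    rw [show Nat.card (im f S) = 3 ^ 3 by omega] at h2 h3
    obtain ⟨k, hk, e⟩ := (Nat.dvd_prime_pow Nat.prime_three).mp h2
    rw [e] at h3 ⊢
    interval_cases k <;> simp_all⟩
  have h2 := hasNPC_of_thompson (by norm_num) hP ((hasNPC_of_isPGroup hP.isPGroup).mono
    fun g hg => ?_) ((hasNPC_of_isPGroup hP.isPGroup).mono fun g hg => ?_)
  · have h3 : h2.compl ≤ ⊥ := hf.core hO ▸ le_pPrimeCore (normal_of_forall_mem_normalizer fun g =>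
      h2.le_normalizer (mem_top g)) (h2.coprime_card Nat.prime_three)
    have h4 := h2.sup_compl hP
    rw [le_bot_iff.mp h3, sup_bot_eq] at h4
    exact fun g hg => ((hf.mem_im (hJS wJ) (g := ⟨g, hg⟩)).mp (h4 ▸ mem_top _)).1
  · obtain ⟨g, rfl⟩ := hf.surj g
    refine (hf.mem_im (hJS wJ)).mpr ⟨h.wcJ fun j hj => ?_, g.2⟩
    have := thJ_le _ (conj_mem_of_mem_normalizer hg.2 (h1 ((hf.mem_im wJ (g := ⟨j, hJ hj⟩)).mpr hj)))
    rw [← map_inv, ← map_mul, ← map_mul, hf.mem_im (hJS wJ)] at this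
    exact this.1
  · obtain ⟨g, rfl⟩ := hf.surj g
    have h3 : f ⟨_, hJ (h.par.mem' (1, 2, 0))⟩ ∈ omZ 3 (im f S) := by
      refine ⟨hm ((hf.mem_im wJ).mpr (h.par.mem' _)), ?_,
        h.im_ea.2 _ ((hf.mem_im wJ).mpr (h.par.mem' _))⟩
      rintro _ ⟨⟨a, ha'⟩, ha, rfl⟩
      obtain ⟨y, rfl⟩ := (h.mem a).mp ha.1
      rw [← mul_inv_eq_iff_eq_mul, ← map_inv, ← map_mul, ← map_mul, hf.eq_iff]
      change F y * F (i0, 1, 2, 0) * (F y)⁻¹ * (F (i0, 1, 2, 0))⁻¹ ∈ _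
      rw [h.conj_j, h.cg (by decide)]
      exact (cg_w _ (h.act_eq (mem_centralizer_singleton_iff.mp ha'))).1
    obtain ⟨h4, h5, -⟩ := conj_mem_of_mem_normalizer hg.2 h3
    rw [← map_inv, ← map_mul, ← map_mul] at h4 h5
    obtain ⟨y, hy⟩ := (h.mem _).mp ((hf.mem_im (hJS wJ)).mp h4).1
    have h6 := key y (hy ▸ SetLike.coe_mem _) (by
      rw [show (⟨F y, _⟩ : centralizer ({F (i0, 1, 1, 1)} : Set G)) = _ from Subtype.ext hy]
      exact (h5 _ (hm ((hf.mem_im wJ).mpr (h.par.mem' _)))).symm)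
    rw [← h.mem_J, hy] at h6
    exact (hf.mem_im (hJS wJ)).mpr ⟨h.emb_j (h.par.mem' _) (h.cent_of_cls cls_eq.1 he) h6, g.2⟩

theorem Loc.cent_c (h : Loc H J F) (he : centralizer {F (i0, 1, 1, 0)} ≤ H) :
    centralizer {F (i0, 0, 0, 1)} ≤ H ∨
      ∃ f : centralizer ({F (i0, 0, 0, 1)} : Set G) →* alternatingGroup (Fin 6), CQ _ f := by
  have cJ := h.par.mem' (0, 0, 1)
  obtain ⟨N, hN, hf⟩ := exists_cq (h.ord (v := (0, 0, 1)) (by decide))
  generalize QuotientGroup.mk' N = f at hf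
  have hJ := h.le_cent cJ
  have hea := h.im_ea (f := f)
  have n1 : ∀ {w}, f ⟨_, hJ (h.par.mem' w)⟩ = 1 ↔ Cg (0, 0, 1) w 0 := by
    intro w
    rw [← h.cg (by decide), h.par.zero, hf.ker, inv_one, mul_one]
  have hf11 : F (rep 11) ∈ centralizer {F (i0, 0, 0, 1)} :=
    mem_centralizer_singleton_iff.mpr (h.comm (by decide))
  obtain ⟨P, hP⟩ :=
    have : Fact (Nat.Prime 3) := ⟨Nat.prime_three⟩
    (hf.sylow (h.sylow_cent (by decide))).exists_sylow_of_top
  rcases selfcent_nine P (hP ▸ h.im_card hf) (hP ▸ hea.2) (fun s hs s1 => by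
    rw [hP] at hs ⊢
    refine le_antisymm (fun g hg => ?_) fun g hg => mem_centralizer_singleton_iff.mpr
      (hea.1 g hg s hs)
    obtain ⟨⟨j, hj'⟩, hj, rfl⟩ := hs
    obtain ⟨w, rfl⟩ := (h.par.mem j).mp hj
    obtain ⟨u, u1, u2, u3⟩ := cg_c w (n1.not.mp s1)
    obtain ⟨g, rfl⟩ := hf.surj g
    rw [← (hf.eq_iff (a := ⟨_, hJ (h.par.mem' u)⟩)).mpr ((h.cg (by decide)).mpr u1),
      mem_centralizer_singleton_iff, ← mul_inv_eq_iff_eq_mul, ← map_inv, ← map_mul, ← map_mul,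
      hf.eq_iff] at hg
    obtain ⟨y, hy⟩ := (h.mem g).mp (h.emb_j (h.par.mem' u) (h.cent_of_cls (u2.trans cls_eq.2).symm he)
      ((mul_mem_cancel_right (inv_mem (h.par.mem' u))).mp (zpowers_le.mpr cJ hg)))
    rw [hf.mem_im cJ, ← hy, h.mem_J]
    refine u3 _ (h.act_eq (hy ▸ mem_centralizer_singleton_iff.mp g.2)) ((h.cg (by decide)).mp ?_)
    rw [← h.conj_j, hy]
    exact hg) with e | e | ⟨⟨e⟩⟩ | e
  · have : f ⟨_, hf11⟩ ∈ normalizer (SetLike.coe P.toSubgroup) := by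
      rw [hP]
      refine mem_normalizer_of_conj_mem ?_
      rintro _ ⟨j, hj, rfl⟩
      rw [← map_inv, ← map_mul, ← map_mul, hf.mem_im cJ]
      exact h.norm _ hj _ (h.mem' _)
    rw [e, hP, hf.mem_im cJ, h.mem_J] at this
    exact absurd this (by decide)
  · exact Or.inl (h.le_of_normal hf (hP ▸ e))
  · exact Or.inr ⟨e.toMonoidHom.comp f, hf.ord, e.surjective.comp hf.surj, fun g => by
      rw [← hf.ker]; exact map_eq_one_iff e e.injective⟩
  · rw [hP] at e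
    obtain ⟨g, hg⟩ := isConj_iff.mp (e _ ((hf.mem_im cJ).mpr (h.par.mem' (1, 0, 0))) _
      ((hf.mem_im cJ).mpr (h.par.mem' (1, 1, 0))) (n1.not.mpr (by decide)) (n1.not.mpr (by decide)))
    obtain ⟨g, rfl⟩ := hf.surj g
    rw [← map_inv, ← map_mul, ← map_mul, hf.eq_iff] at hg
    obtain ⟨u, hu⟩ := (h.par.mem _).mp
      ((mul_mem_cancel_right (inv_mem (h.par.mem' (1, 1, 0)))).mp (zpowers_le.mpr cJ hg))
    have h1 := (h.isConj_j (1, 0, 0) u).mp (isConj_iff.mpr ⟨g, hu.symm⟩)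
    have h2 := (h.cg (z := (0, 0, 1)) (by decide)).mp (hu ▸ hg)
    exact absurd h1 ((by decide : ∀ u, Cg (0, 0, 1) u (1, 1, 0) → cls3 (1, 0, 0) ≠ cls3 u) u h2)

end A9

end Cfsg.Agent.Char
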