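import Mathlib.GroupTheory.SpecificGroups.Alternating.Simple
import Mathlib.GroupTheory.GroupAction.MultipleTransitivity
import Mathlib.GroupTheory.Sylow

/-!
# Extensions of `Alt(6)` which do not fuse the two classes of elements of order three
-/

set_option autoImplicit false

namespace Cfsg.Agent.Char

open Subgroup

theorem s6_five : ∀ u : Equiv.Perm (Fin 6), u ^ 5 = 1 → u ≠ 1 →
    ∃ j, u j = j ∧ ∀ k, k ≠ j → ∀ l, l ≠ j → ∃ n : Fin 5, (u ^ n.val) k = l := by
  decide +kernel

theorem a6_three : ∀ i : Fin 6, ∃ j k l : Fin 6, j ≠ k ∧ j ≠ l ∧ k ≠ l ∧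
    (Equiv.swap j k * Equiv.swap j l) i = i := by
  decide +kernel

theorem a6_stab_inj_aux : ∀ i i' : Fin 6, i ≠ i' → ∃ j k l : Fin 6, j ≠ k ∧ j ≠ l ∧ k ≠ l ∧
    (Equiv.swap j k * Equiv.swap j l) i = i ∧ (Equiv.swap j k * Equiv.swap j l) i' ≠ i' := by
  decide +kernel

theorem a6_card_stab (i : Fin 6) :
    Nat.card (MulAction.stabilizer (alternatingGroup (Fin 6)) i) = 60 := by
  have := alternatingGroup.isPretransitive_of_three_le_card (Fin 6) (by simp)
  have h1 := MulAction.index_stabilizer_of_transitive (alternatingGroup (Fin 6)) i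
  have h2 := (MulAction.stabilizer (alternatingGroup (Fin 6)) i).card_mul_index
  rw [h1, nat_card_alternatingGroup] at h2
  rw [show Nat.card (Fin 6) = 6 by simp, show Nat.factorial 6 = 720 by rfl] at h2
  omega

theorem a6_stab_inj : Function.Injective
    (fun i : Fin 6 => MulAction.stabilizer (alternatingGroup (Fin 6)) i) := by
  intro i i' h
  by_contra hne
  obtain ⟨j, k, l, h1, h2, h3, h4, h5⟩ := a6_stab_inj_aux i i' hne
  have hc := Equiv.Perm.isThreeCycle_swap_mul_swap_same h1 h2 h3
  have h6 : (⟨_, hc.mem_alternatingGroup⟩ : alternatingGroup (Fin 6)) ∈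
      MulAction.stabilizer (alternatingGroup (Fin 6)) i := h4
  simp only at h
  rw [h] at h6
  exact h5 h6

theorem a6_stab_of_card (L : Subgroup (alternatingGroup (Fin 6))) (hL : Nat.card L = 60)
    {c : alternatingGroup (Fin 6)} (hc : c ∈ L) (h3 : (c : Equiv.Perm (Fin 6)).IsThreeCycle) :
    ∃ i : Fin 6, L = MulAction.stabilizer (alternatingGroup (Fin 6)) i := by
  have : Fact (Nat.Prime 5) := ⟨Nat.prime_five⟩
  obtain ⟨u, hu⟩ := exists_prime_orderOf_dvd_card' (G := L) 5 (by rw [hL]; norm_num)
  have hu' : orderOf ((u : alternatingGroup (Fin 6)) : Equiv.Perm (Fin 6)) = 5 := by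
    rw [orderOf_coe, orderOf_coe, hu]
  obtain ⟨j, hj, hj'⟩ := s6_five ((u : alternatingGroup (Fin 6)) : Equiv.Perm (Fin 6))
    (by rw [← hu', pow_orderOf_eq_one]) (fun h => by rw [h, orderOf_one] at hu'; omega)
  by_cases h : L ≤ MulAction.stabilizer (alternatingGroup (Fin 6)) j
  · exact ⟨j, eq_of_le_of_card_ge h (by rw [a6_card_stab, hL])⟩
  exfalso
  obtain ⟨g, hg, hgj⟩ := SetLike.not_le_iff_exists.mp h
  have htr : MulAction.IsPretransitive L (Fin 6) := by
    rw [MulAction.isPretransitive_iff_base j]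
    intro l
    by_cases hl : l = j
    · exact ⟨1, by rw [hl, one_smul]⟩
    obtain ⟨n, hn⟩ := hj' _ hgj l hl
    exact ⟨u ^ n.val * ⟨g, hg⟩, hn⟩
  obtain ⟨i, hi⟩ : ∃ i, (c : Equiv.Perm (Fin 6)) i = i := by
    by_contra hcon
    push Not at hcon
    have h1 := h3.card_support
    rw [Finset.eq_univ_of_forall (fun i => Equiv.Perm.mem_support.mpr (hcon i))] at h1
    simp at h1
  have h1 := MulAction.index_stabilizer_of_transitive L i
  have h2 := (MulAction.stabilizer L i).card_mul_index
  rw [h1, hL] at h2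
  have h4 : (⟨c, hc⟩ : L) ∈ MulAction.stabilizer L i := hi
  have h5 := orderOf_dvd_natCard (⟨_, h4⟩ : MulAction.stabilizer L i)
  rw [← orderOf_coe, ← orderOf_coe, ← orderOf_coe] at h5
  have h6 := h3.orderOf
  simp only at h5
  rw [h6] at h5
  simp only [Nat.card_eq_fintype_card, Fintype.card_fin] at h2 h5
  omega

variable {G : Type*} [Group G]

/-- A group with a self-centralising normal subgroup `Alt(6)` in which the classes of elements of
order three are not fused embeds in `Sym(6)`. -/
theorem exists_hom_sym6 (K : Subgroup G) [hK : K.Normal] (ι : K ≃* alternatingGroup (Fin 6))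
    (hC : centralizer (K : Set G) ≤ K)
    (h3 : ∀ x : K, x ^ 3 = 1 → ∀ g : G, IsConj x (MulAut.conjNormal g x)) :
    ∃ f : G →* Equiv.Perm (Fin 6), Function.Injective f := by
  let α : G →* MulAut (alternatingGroup (Fin 6)) :=
    (MulAut.congr ι).toMonoidHom.comp MulAut.conjNormal
  have hα : ∀ g x, α g (ι x) = ι (MulAut.conjNormal g x) := fun g x => by
    simp [α]
  have hex : ∀ (g : G) (i : Fin 6), ∃ j : Fin 6,
      (MulAction.stabilizer (alternatingGroup (Fin 6)) i).map (α g).toMonoidHom =
        MulAction.stabilizer (alternatingGroup (Fin 6)) j := by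
    intro g i
    obtain ⟨j, k, l, h1, h2, h4, h5⟩ := a6_three i
    have hc := Equiv.Perm.isThreeCycle_swap_mul_swap_same h1 h2 h4
    obtain ⟨x, hx⟩ := ι.surjective ⟨_, hc.mem_alternatingGroup⟩
    have hx3 : x ^ 3 = 1 := by
      apply ι.injective
      rw [map_pow, hx, map_one]
      ext1
      rw [SubgroupClass.coe_pow, ← hc.orderOf, pow_orderOf_eq_one]
      rfl
    refine a6_stab_of_card _ ?_ (c := α g (ι x)) ⟨ι x, ?_, rfl⟩ ?_
    · rw [card_map_of_injective (α g).injective, a6_card_stab]
    · rw [hx]; exact h5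
    · have h6 := (alternatingGroup (Fin 6)).subtype.map_isConj (ι.toMonoidHom.map_isConj
        (h3 x hx3 g))
      have h7 := Equiv.Perm.isConj_iff_cycleType_eq.mp h6
      rw [hα]
      change Equiv.Perm.cycleType _ = _
      refine h7.symm.trans ?_
      change Equiv.Perm.cycleType (ι x : Equiv.Perm (Fin 6)) = _
      rw [hx]
      exact hc
  choose π hπ using hex
  let act : MulAction G (Fin 6) :=
    { smul := π
      one_smul := fun i => a6_stab_inj (by
        change MulAction.stabilizer _ (π 1 i) = _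
        rw [← hπ, map_one]
        exact map_id _)
      mul_smul := fun g h i => a6_stab_inj (by
        change MulAction.stabilizer _ (π (g * h) i) = MulAction.stabilizer _ (π g (π h i))
        rw [← hπ, ← hπ, ← hπ, map_map, map_mul]
        rfl) }
  refine ⟨MulAction.toPermHom G (Fin 6), ?_⟩
  set f := MulAction.toPermHom G (Fin 6) with hf
  have hs : IsSimpleGroup (alternatingGroup (Fin 6)) := alternatingGroup.isSimpleGroup (by simp)
  have hs' : IsSimpleGroup K := ι.isSimpleGroup
  have h1 : f.ker.subgroupOf K = ⊥ := by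
    rcases (inferInstance : (f.ker.subgroupOf K).Normal).eq_bot_or_eq_top with h | h
    · exact h
    exfalso
    have h2 : (MulAction.stabilizer (alternatingGroup (Fin 6)) (0 : Fin 6)).Normal := by
      refine ⟨fun n hn y => ?_⟩
      obtain ⟨x, rfl⟩ := ι.surjective y
      obtain ⟨m, rfl⟩ := ι.surjective n
      have h4 : x ∈ f.ker.subgroupOf K := h ▸ mem_top x
      have h5 : π x 0 = 0 := congrArg (fun p : Equiv.Perm (Fin 6) => p 0) h4
      have h6 := hπ x 0
      rw [h5] at h6
      rw [← h6]
      refine ⟨ι m, hn, ?_⟩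
      change α x (ι m) = _
      rw [hα, ← map_inv, ← map_mul, ← map_mul]
      rfl
    have h4 := a6_card_stab 0
    rcases h2.eq_bot_or_eq_top with h5 | h5
    · rw [h5] at h4; simp at h4
    · rw [h5, card_top, nat_card_alternatingGroup] at h4
      simp [Nat.factorial] at h4
  have h2 : Disjoint f.ker K := by rwa [← subgroupOf_eq_bot]
  rw [← MonoidHom.ker_eq_bot_iff, eq_bot_iff]
  intro g hg
  have h4 : g ∈ K := hC fun k hk =>
    ((commute_of_normal_of_disjoint _ _ inferInstance hK h2 g k hg hk).eq).symm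
  exact (disjoint_def.mp h2 hg h4 : g = 1)

end Cfsg.Agent.Char
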