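import Cfsg.Agent.Char.A9Loc
import Cfsg.Agent.Char.A9Dec
import Cfsg.Agent.Char.Sym6Rec

/-!
# The normaliser `(3 × A₆) : 2`
-/

set_option autoImplicit false
set_option synthInstance.maxSize 4096

namespace Cfsg.Agent.Char

open Subgroup Local Equiv S6
open Mat (CP)

variable {G : Type*} [Group G]

/-- The extension of a subgroup by an involution normalising it. -/
def ext2 (K : Subgroup G) (r : G) (h1 : r * r = 1) (h2 : ∀ k ∈ K, r * k * r⁻¹ ∈ K) : Subgroup G where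
  carrier := {g | g ∈ K ∨ g * r ∈ K}
  one_mem' := Or.inl (one_mem _)
  mul_mem' := by
    have h3 := inv_eq_of_mul_eq_one_right h1
    rintro a b (ha | ha) (hb | hb)
    · exact Or.inl (mul_mem ha hb)
    · exact Or.inr (mul_assoc a b r ▸ mul_mem ha hb)
    · refine Or.inr ?_
      have := mul_mem ha (h2 b hb)
      rwa [h3, ← mul_assoc, ← mul_assoc, mul_assoc a, h1, mul_one] at this
    · refine Or.inl ?_
      have := mul_mem ha (h2 _ hb)
      rwa [mul_assoc r, mul_inv_cancel_right, ← mul_assoc, mul_assoc a, h1, mul_one] at this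
  inv_mem' := by
    rintro a (ha | ha)
    · exact Or.inl (inv_mem ha)
    · refine Or.inr ?_
      have := h2 _ (inv_mem ha)
      rwa [mul_inv_rev, mul_inv_cancel_left, inv_eq_of_mul_eq_one_right h1] at this

theorem a6_three_cls (X : alternatingGroup (Fin 6)) (h : X ^ 3 = 1) (h1 : X ≠ 1) :
    IsConj ⟨S9.c0, S9.rel0.2.2.2.1⟩ X ∨
      IsConj (⟨S9.c0, S9.rel0.2.2.2.1⟩ * ⟨S9.d0, S9.rel0.2.2.2.2.1⟩) X := by
  obtain ⟨r1, -, r2, -, -, r3, r4, -, -, r5, r6, r7⟩ := S9.rel0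
  obtain ⟨k, -, hk⟩ := cycleType_three (congrArg Subtype.val h)
  have h3 := X.1.support.card_le_univ
  have h4 : X.1.support.card ≠ 0 := by simpa using h1
  rw [Fintype.card_fin] at h3
  obtain e | e : X.1.support.card = 3 ∨ X.1.support.card = 6 := by omega
  · exact Or.inl (isConj_three_alt (Subtype.ext r1) h (r3.trans e.symm) (by simp) r5)
  · exact Or.inr (isConj_three_alt (Subtype.ext r2) h (r4.trans e.symm) r6 r7)

theorem exists_sym6 [Finite G] {K : Subgroup G} (ι : K ≃* alternatingGroup (Fin 6)) {r : G}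
    (h1 : r * r = 1) (h2 : ∀ k ∈ K, r * k * r⁻¹ ∈ K)
    (hC : ∀ g, g * r ∈ K → ∃ k ∈ K, k * g ≠ g * k) (hr : r ∉ K) {a b : G} (ha : a ∈ K) (hb : b ∈ K)
    (a3 : a ^ 3 = 1) (b3 : b ^ 3 = 1) (a1 : a ≠ 1) (b1 : b ≠ 1) (hab : ¬ IsConj a b) :
    ∃ ψ : Perm (Fin 6) →* G, Function.Injective ψ ∧ (∀ σ, ψ σ ∈ K ↔ Perm.sign σ = 1) ∧
      ∀ g, (g ∈ K ∨ g * r ∈ K) ↔ g ∈ ψ.range := by
  have hK : K ≤ ext2 K r h1 h2 := fun _ => Or.inl
  have hr' : r ∈ ext2 K r h1 h2 := Or.inr (h1 ▸ one_mem _)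
  have hm : ∀ g, g ∈ ext2 K r h1 h2 ↔ g ∈ K ∨ g * r ∈ K := fun _ => Iff.rfl
  generalize ext2 K r h1 h2 = Γ at hK hr' hm
  have hn : (K.subgroupOf Γ).Normal := ⟨fun k hk g => by
    rcases (hm g).mp g.2 with e | e
    · exact mul_mem (mul_mem e hk) (inv_mem e)
    · have := mul_mem (mul_mem e (h2 _ hk)) (inv_mem e)
      rw [mul_inv_rev, ← mul_assoc, ← mul_assoc, ← mul_assoc, mul_assoc _ r r, h1, mul_one,
        mul_assoc _ r⁻¹ r⁻¹, ← mul_inv_rev, h1, inv_one, mul_one] at this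
      exact this⟩
  let s := K.subtype.comp ι.symm.toMonoidHom
  have hs : ∀ (x : K), x ^ 3 = 1 → x ≠ 1 → _ := fun x e1 e2 =>
    a6_three_cls (ι x) (by rw [← map_pow, e1, map_one]) ((map_ne_one_iff ι ι.injective).mpr e2)
  have hs' : ∀ {X} {x : K}, IsConj X (ι x) → IsConj (s X) x := fun e => by
    simpa [s] using s.map_isConj e
  have h3 := fun e : IsConj (s _) (s _) => hab (by
    rcases hs ⟨a, ha⟩ (Subtype.ext a3) (by simpa using a1) with e1 | e1 <;>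
      rcases hs ⟨b, hb⟩ (Subtype.ext b3) (by simpa using b1) with e2 | e2
    exacts [(hs' e1).symm.trans (hs' e2), (hs' e1).symm.trans (e.trans (hs' e2)),
      (hs' e1).symm.trans (e.symm.trans (hs' e2)), (hs' e1).symm.trans (hs' e2)])
  obtain ⟨f, hf⟩ := exists_hom_sym6 (K.subgroupOf Γ) ((subgroupOfEquivOfLe hK).trans ι)
    (fun g hg => ((hm g).mp g.2).resolve_right fun e => by
      obtain ⟨k, hk, e⟩ := hC g e
      exact e (congrArg Subtype.val (hg ⟨k, hK hk⟩ hk))) fun x hx g => by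
      by_cases x1 : x = 1
      · simp [x1]
      set j := subgroupOfEquivOfLe hK
      have e0 : ∀ {x x'}, IsConj (ι (j x)) (ι (j x')) → IsConj x x' := fun e => by
        simpa using (j.trans ι).symm.toMonoidHom.map_isConj e
      have e1 : IsConj (j x : G) (j (MulAut.conjNormal g x)) := isConj_iff.mpr ⟨g, rfl⟩
      rcases hs (j x) (by rw [← map_pow, hx, map_one]) (by simpa using x1) with e2 | e2 <;>
        rcases hs (j (MulAut.conjNormal g x)) (by rw [← map_pow, ← map_pow, hx, map_one, map_one])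
          (by simpa using x1) with e3 | e3
      exacts [e0 (e2.symm.trans e3), (h3 ((hs' e2).trans (e1.trans (hs' e3).symm))).elim,
        (h3 ((hs' e3).trans (e1.symm.trans (hs' e2).symm))).elim, e0 (e2.symm.trans e3)]
  have c1 : Nat.card K = 360 := by
    rw [Nat.card_congr ι.toEquiv, nat_card_alternatingGroup]; simp [Nat.factorial]
  have c2 : Nat.card (Perm (Fin 6)) = 720 := by simp [Fintype.card_perm, Nat.factorial]
  have c3 : Nat.card Γ = 720 := by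
    have e1 := card_dvd_of_le hK
    have e2 := Nat.card_le_card_of_injective f hf
    have e3 : Nat.card Γ ≠ Nat.card K := fun e => hr (eq_of_le_of_card_ge hK e.le ▸ hr')
    have e4 : 0 < Nat.card Γ := Nat.card_pos
    rw [c1] at e1 e3
    omega
  let e := MulEquiv.ofBijective f ((Nat.bijective_iff_injective_and_card f).mpr ⟨hf, c3.trans c2.symm⟩)
  refine ⟨Γ.subtype.comp e.symm.toMonoidHom, Γ.subtype_injective.comp e.symm.injective,
    fun σ => ?_, fun g => ⟨fun hg => ⟨e ⟨g, (hm g).mpr hg⟩, by simp⟩, ?_⟩⟩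
  · rw [← Perm.mem_alternatingGroup, ← Perm.eq_alternatingGroup_of_index_eq_two
      (G := (K.subgroupOf Γ).comap e.symm.toMonoidHom)]
    · rfl
    · rw [index_comap_of_surjective _ e.symm.surjective]
      have := card_mul_relIndex hK
      rw [c1, c3] at this
      exact Nat.eq_of_mul_eq_mul_left (by norm_num) this
  · rintro ⟨σ, rfl⟩
    exact (hm _).mp (e.symm σ).2

namespace S9

/-- The normaliser of `⟨z⟩` is `⟨z⟩ : S₆`. -/
structure Six (z : G) (ψ : P6 →* G) : Prop where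
  ord : orderOf z = 3
  even : ∀ σ, ev σ = true → ψ σ * z = z * ψ σ
  odd : ∀ σ, ev σ = false → ψ σ * z * (ψ σ)⁻¹ = z⁻¹
  mem : ∀ g, g * z * g⁻¹ ∈ zpowers z → ∃ k : ℕ, ∃ σ, g = z ^ k * ψ σ
  dis : ∀ σ, ψ σ ∈ zpowers z → σ = 1

theorem Six.conj {z : G} {ψ : P6 →* G} (h : Six z ψ) (n : G) :
    Six (n * z * n⁻¹) ((MulAut.conj n).toMonoidHom.comp ψ) := by
  have e : ∀ σ, ((MulAut.conj n).toMonoidHom.comp ψ) σ = n * ψ σ * n⁻¹ := fun _ => rfl
  have e' : ∀ {g}, g ∈ zpowers (n * z * n⁻¹) → n⁻¹ * g * n ∈ zpowers z := by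
    rintro _ ⟨k, rfl⟩
    exact ⟨k, by simp only [conj_zpow]; group⟩
  refine ⟨((MulAut.conj n).orderOf_eq z).trans h.ord, fun σ hσ => ?_, fun σ hσ => ?_,
    fun g hg => ?_, fun σ hσ => h.dis σ (by simpa [e, mul_assoc] using e' hσ)⟩
  · rw [e, conj_mul, conj_mul, h.even σ hσ]
  · rw [e, conj_mul, conj_inv, conj_mul, h.odd σ hσ, conj_inv]
  · obtain ⟨k, σ, h1⟩ := h.mem (n⁻¹ * g * n) (by simpa [mul_assoc] using e' hg)
    exact ⟨k, σ, by rw [e, conj_pow, conj_mul, ← h1]; group⟩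

end S9

namespace A9

open S9

def d1 : X648 := ((0, false, false, true), 0)
def d2 : X648 := ((0, false, true, false), 0)

theorem eq_d12 : ∀ i, act i (0, 0, 1) = -(0, 0, 1) →
    (act i (0, 1, 0) = -(0, 1, 0) → i = d1.1) ∧ (act i (1, 0, 0) = -(1, 0, 0) → i = d2.1) := by
  decide

theorem norm_d12 : ∀ v w, mx (d1.1, v) (d1.1, v) = (i0, 0) → mx (d2.1, w) (d2.1, w) = (i0, 0) →
    mx (d1.1, v) (d2.1, w) = mx (d2.1, w) (d1.1, v) →
    ∃ j, mx (i0, j) (d1.1, v) = mx d1 (i0, j) ∧ mx (i0, j) (d2.1, w) = mx d2 (i0, j) := by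
  decide +kernel

theorem act_faith' : ∀ i, act i (1, 0, 0) = (1, 0, 0) → act i (0, 1, 0) = (0, 1, 0) → i = i0 := by
  decide

theorem span3 : ∀ v : V27, ∃ i j k : Fin 3, (i0, v) =
    mx (mx (pw (i0, 1, 0, 0) i) (pw (i0, 0, 1, 0) j)) (pw (i0, 0, 0, 1) k) := by decide +kernel

theorem rel6 : (r * c * r⁻¹ = c⁻¹ ∧ r * d * r⁻¹ = d ∧ y * c * y⁻¹ = c ∧ y * d * y⁻¹ = d⁻¹) ∧
    (r * r = 1 ∧ y * y = 1 ∧ r * y = y * r ∧ ev r = false ∧ ev y = false) := by decide +kernel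

variable {H J : Subgroup G} {F : X648 → G} [Finite G]

theorem Loc.mem_of_gens (h : Loc H J F) {g : G} (h1 : g * F (i0, 1, 0, 0) * g⁻¹ ∈ J)
    (h2 : g * F (i0, 0, 1, 0) * g⁻¹ ∈ J) (h3 : g * F (i0, 0, 0, 1) * g⁻¹ ∈ J) : g ∈ H :=
  h.wc g fun j hj => by
    obtain ⟨v, rfl⟩ := (h.par.mem j).mp hj
    obtain ⟨i, j, k, e⟩ := span3 v
    rw [e, h.mul, h.mul, h.pow, h.pow, h.pow, ← conj_mul, ← conj_mul, ← conj_pow, ← conj_pow,
      ← conj_pow]
    exact mul_mem (mul_mem (pow_mem h1 _) (pow_mem h2 _)) (pow_mem h3 _)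

theorem Loc.act_neg (h : Loc H J F) {x : X648} {v : V27}
    (e : F x * F (i0, v) * (F x)⁻¹ = (F (i0, v))⁻¹) : act x.1 v = -v := by
  rw [h.conj_j, ← h.par.neg] at e
  exact h.par.inj e

theorem Loc.exists_lam (h : Loc H J F) :
    ∃ l : centralizer ({F (i0, 0, 0, 1)} : Set G) →* Multiplicative (ZMod 3),
      l ⟨_, mem_centralizer_singleton_iff.mpr rfl⟩ ≠ 1 := by
  choose inv hinv using fun g : J.subgroupOf (centralizer {F (i0, 0, 0, 1)}) =>
    (h.par.mem g).mp g.2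
  let φ : J.subgroupOf (centralizer {F (i0, 0, 0, 1)}) →* Multiplicative (ZMod 3) :=
    MonoidHom.mk' (fun g => Multiplicative.ofAdd (inv g).2.2) fun a b => by
      rw [show inv (a * b) = inv a + inv b from h.par.inj (by
        simp only [h.par.add, hinv]; rfl)]
      rfl
  refine ⟨MonoidHom.transfer φ, fun e => (h.sylow_cent (v := (0, 0, 1)) (by decide)).not_dvd ?_⟩
  rw [MonoidHom.transfer_eq_pow φ _ fun k g _ => by
    rw [mul_assoc, ← (Commute.pow_right (Subtype.ext (mem_centralizer_singleton_iff.mp g.2)) k).eq,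
      inv_mul_cancel_left]] at e
  have h1 : φ ⟨⟨_, mem_centralizer_singleton_iff.mpr rfl⟩, h.par.mem' (0, 0, 1)⟩ =
      Multiplicative.ofAdd 1 := congrArg (fun v : V27 => Multiplicative.ofAdd v.2.2)
        (h.par.inj (hinv _) : inv _ = (0, 0, 1))
  have h2 := (map_pow φ ⟨⟨_, mem_centralizer_singleton_iff.mpr rfl⟩, h.par.mem' (0, 0, 1)⟩ _).symm.trans e
  rwa [h1, ← ofAdd_nsmul, ofAdd_eq_one, nsmul_one, ZMod.natCast_eq_zero_iff] at h2

theorem Loc.exists_K (h : Loc H J F)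
    {f : centralizer ({F (i0, 0, 0, 1)} : Set G) →* alternatingGroup (Fin 6)} (hf : CQ _ f) :
    ∃ K : Subgroup G, Nonempty (K ≃* alternatingGroup (Fin 6)) ∧
      K ≤ centralizer {F (i0, 0, 0, 1)} ∧ (∀ k ∈ K, k ∈ zpowers (F (i0, 0, 0, 1)) → k = 1) ∧
      (∀ g ∈ centralizer ({F (i0, 0, 0, 1)} : Set G), ∃ k : ℕ, (F (i0, 0, 0, 1) ^ k)⁻¹ * g ∈ K) ∧
      (∀ k ∈ K, F d1 * k * (F d1)⁻¹ ∈ K) ∧ F (i0, 1, 0, 0) ∈ K ∧ F (i0, 0, 1, 0) ∈ K := by
  obtain ⟨l, hl⟩ := h.exists_lam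
  have hJ := h.le_cent (h.par.mem' (0, 0, 1))
  have e1 : F d1 * F (i0, 0, 0, 1) * (F d1)⁻¹ = (F (i0, 0, 0, 1))⁻¹ := by
    rw [h.conj_j, ← h.par.neg]; rfl
  have ht : F (rep 10) ∈ centralizer {F (i0, 0, 0, 1)} :=
    mem_centralizer_singleton_iff.mpr (h.comm (by decide))
  have h1 : ∀ v, act (rep 10).1 v = -v → l ⟨_, hJ (h.par.mem' v)⟩ = 1 := fun v hv => by
    have e : (⟨_, ht⟩ * ⟨_, hJ (h.par.mem' v)⟩ * ⟨_, ht⟩⁻¹ : centralizer _) =
        ⟨_, hJ (h.par.mem' v)⟩⁻¹ := Subtype.ext ((h.conj_j _ _).trans (hv ▸ h.par.neg v))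
    have e' := congrArg l e
    rw [map_mul, map_mul, map_inv, map_inv, mul_inv_cancel_comm] at e'
    exact (by decide : ∀ a : Multiplicative (ZMod 3), a = a⁻¹ → a = 1) _ e'
  generalize F (i0, 0, 0, 1) = z at *
  set Z : centralizer ({z} : Set G) := ⟨z, mem_centralizer_singleton_iff.mpr rfl⟩
  have h2 : ∀ k, l k = 1 → (k : G) ∈ zpowers z → k = 1 := fun k e hk => by
    rcases mem_zpowers_three hf.ord hk with e' | e' | e'
    · exact Subtype.ext e'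
    · exact absurd ((show k = Z from Subtype.ext e') ▸ e) hl
    · rw [show k = Z⁻¹ from Subtype.ext e', map_inv, inv_eq_one] at e
      exact absurd e hl
  have h3 : ∀ g, ∃ k : ℕ, l ((Z ^ k)⁻¹ * g) = 1 := fun g => by
    obtain ⟨k, hk⟩ := (by decide : ∀ a b : Multiplicative (ZMod 3), a ≠ 1 → ∃ k : Fin 3,
      (a ^ k.val)⁻¹ * b = 1) _ (l g) hl
    exact ⟨k, by rwa [map_mul, map_inv, map_pow]⟩
  have ι : l.ker ≃* alternatingGroup (Fin 6) := MulEquiv.ofBijective (f.comp l.ker.subtype)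
    ⟨(injective_iff_map_eq_one _).mpr fun k hk => Subtype.ext (h2 k k.2 ((hf.ker _).mp hk)),
      fun X => by
        obtain ⟨g, rfl⟩ := hf.surj X
        obtain ⟨k, hk⟩ := h3 g
        exact ⟨⟨_, hk⟩, by
          change f ((Z ^ k)⁻¹ * g) = _
          rw [map_mul, map_inv, map_pow, (hf.ker Z).mpr (mem_zpowers z)]; simp⟩⟩
  have h4 : ∀ g : centralizer ({z} : Set G), F d1 * g * (F d1)⁻¹ ∈ centralizer {z} := fun g =>
    mem_centralizer_singleton_iff.mpr (Commute.inv_right_iff.mp (by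
      rw [← e1]
      exact (Commute.map (mem_centralizer_singleton_iff.mp g.2) (MulAut.conj (F d1)) :)))
  let μ : l.ker →* Multiplicative (ZMod 3) := l.comp ((((MulAut.conj (F d1)).toMonoidHom.comp
    (centralizer {z}).subtype).codRestrict _ h4).comp l.ker.subtype)
  have hs := alternatingGroup.isSimpleGroup (α := Fin 6) (by simp)
  have h5 : μ.ker = ⊤ := ι.isSimpleGroup.eq_bot_or_eq_top_of_normal μ.ker inferInstance
    |>.resolve_left fun e => by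
      have := Nat.card_le_card_of_injective μ ((MonoidHom.ker_eq_bot_iff μ).mp e)
      rw [Nat.card_congr ι.toEquiv, nat_card_alternatingGroup] at this
      simp [Nat.factorial] at this
  refine ⟨l.ker.map (centralizer {z}).subtype,
    ⟨(l.ker.equivMapOfInjective _ (subtype_injective _)).symm.trans ι⟩, map_subtype_le _, ?_,
    fun g hg => (h3 ⟨g, hg⟩).imp fun k hk => ⟨_, hk, rfl⟩, ?_,
    ⟨_, h1 (1, 0, 0) (by decide), rfl⟩, ⟨_, h1 (0, 1, 0) (by decide), rfl⟩⟩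
  · rintro _ ⟨k, hk, rfl⟩ e
    exact congrArg Subtype.val (h2 k hk e)
  · rintro _ ⟨k, hk, rfl⟩
    exact ⟨⟨_, h4 k⟩, h5.ge (mem_top (⟨k, hk⟩ : l.ker)), rfl⟩

theorem Loc.exists_six (h : Loc H J F)
    {f : centralizer ({F (i0, 0, 0, 1)} : Set G) →* alternatingGroup (Fin 6)} (hf : CQ _ f) :
    ∃ ψ, Six (F (i0, 0, 0, 1)) ψ ∧ ψ c = F (i0, 0, 1, 0) ∧ ψ d = F (i0, 1, 0, 0) ∧ ψ r = F d1 ∧
      ψ y = F d2 := by
  obtain ⟨K, ⟨ι⟩, k1, k2, k3, k4, k5, k6⟩ := h.exists_K hf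
  have e1 : F d1 * F (i0, 0, 0, 1) * (F d1)⁻¹ = (F (i0, 0, 0, 1))⁻¹ := by
    rw [h.conj_j, ← h.par.neg]; rfl
  have e2 : F d1 * F d1 = 1 := by rw [← h.mul, ← h.one]; rfl
  have e3 : ∀ g, g * F d1 ∈ K → g * F (i0, 0, 0, 1) * g⁻¹ = (F (i0, 0, 0, 1))⁻¹ := fun g hg => by
    have := Commute.inv_right (mem_centralizer_singleton_iff.mp (k1 hg))
    calc _ = g * ((F d1 * F d1) * F (i0, 0, 0, 1) * (F d1 * F d1)⁻¹) * g⁻¹ := by rw [e2]; group
      _ = g * F d1 * (F d1 * F (i0, 0, 0, 1) * (F d1)⁻¹) * (g * F d1)⁻¹ := by group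
      _ = _ := by rw [e1, this.eq]; group
  have e4 : F (i0, 0, 0, 1) ≠ (F (i0, 0, 0, 1))⁻¹ := by
    rw [← h.par.neg]; exact h.par.inj.ne (by decide)
  have nc : ∀ {u v}, cls3 u ≠ cls3 v → ¬ IsConj (F (i0, u)) (F (i0, v)) := fun e =>
    (h.isConj_j _ _).not.mpr e
  obtain ⟨ψ, p1, p2, p3⟩ := exists_sym6 ι e2 k4 (fun g hg => by
    by_contra! hn
    have a1 := (hn _ k5).symm
    have a2 := (hn _ k6).symm
    obtain ⟨y, rfl⟩ := (h.mem g).mp (h.mem_of_gens (by simp [a1, h.par.mem']) (by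
      simp [a2, h.par.mem']) (by rw [e3 g hg]; exact inv_mem (h.par.mem' _)))
    have a3 := h.act_neg (e3 _ hg)
    rw [act_faith' _ (h.act_eq a1) (h.act_eq a2)] at a3
    exact absurd a3 (by decide)) (fun e => e4 (by
      rw [← e1, mem_centralizer_singleton_iff.mp (k1 e), mul_inv_cancel_right])) k6
    (mul_mem k6 k5) (h.cube (h.par.mem' _)) (h.cube (mul_mem (h.par.mem' _) (h.par.mem' _)))
    (h.par.ne_one (by decide)) (by rw [← h.par.add]; exact h.par.ne_one (by decide))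
    (by rw [← h.par.add]; exact nc (by decide))
  obtain ⟨α, ha⟩ := (p3 _).mp (Or.inl k6)
  obtain ⟨β, hb⟩ := (p3 _).mp (Or.inl k5)
  obtain ⟨θ, t1, t2, rfl, rfl⟩ := exists_relabel (α := α) (β := β)
    (p1 (by rw [map_pow, ha, map_one, h.cube (h.par.mem' _)]))
    (fun e => h.par.ne_one (v := (0, 1, 0)) (by decide) (by rw [← ha, e, map_one]))
    (p1 (by rw [map_pow, hb, map_one, h.cube (h.par.mem' _)]))
    (p1 (by rw [map_mul, map_mul, ha, hb, h.par.comm _ (h.par.mem' _) _ (h.par.mem' _)]))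
    (fun g e => nc (u := (0, 1, 0)) (v := (0, 1, 0) + (1, 0, 0)) (by decide) (by
      rw [h.par.add, ← ha, ← hb, ← map_mul]; exact ψ.map_isConj (isConj_iff.mpr ⟨g, e⟩)))
    (fun g e => nc (u := (0, 1, 0)) (v := (0, 1, 0) + -(1, 0, 0)) (by decide) (by
      rw [h.par.add, h.par.neg, ← ha, ← hb, ← map_inv, ← map_mul]
      exact ψ.map_isConj (isConj_iff.mpr ⟨g, e⟩)))
  obtain ⟨φ, q1⟩ : ∃ φ : P6 →* G, ∀ σ, φ (CP.of σ) = ψ (θ σ) :=
    ⟨(ψ.comp θ).comp CP.equiv.symm.toMonoidHom, fun σ =>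
      congrArg (fun x => ψ (θ x)) (CP.equiv.symm_apply_apply σ)⟩
  have q2 : ∀ σ, φ σ ∈ K ↔ ev σ = true := fun σ => by
    obtain ⟨σ, rfl⟩ := CP.of_surjective σ
    rw [q1, p2, t1, ev_of]
  have q3 : ∀ g, (g ∈ K ∨ g * F d1 ∈ K) ↔ ∃ σ, φ σ = g := fun g => by
    rw [p3]
    refine ⟨fun ⟨σ, e⟩ => ?_, fun ⟨σ, e⟩ => ?_⟩
    · obtain ⟨σ, rfl⟩ := t2 σ
      exact ⟨_, (q1 σ).trans e⟩
    · obtain ⟨σ, rfl⟩ := CP.of_surjective σ
      exact ⟨_, (q1 σ).symm.trans e⟩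
  have q4 : ∀ σ, ev σ = false → φ σ * F (i0, 0, 0, 1) * (φ σ)⁻¹ = (F (i0, 0, 0, 1))⁻¹ :=
    fun σ e => e3 _ (((q3 _).mpr ⟨σ, rfl⟩).resolve_left (by rw [q2, e]; simp))
  have six : Six (F (i0, 0, 0, 1)) φ := ⟨hf.ord,
    fun σ e => mem_centralizer_singleton_iff.mp (k1 ((q2 σ).mpr e)), q4, fun g hg => by
      rcases mem_zpowers_three hf.ord hg with e | e | e
      · exact absurd (conj_eq_one_iff.mp e) (h.par.ne_one (by decide))
      · obtain ⟨k, hk⟩ := k3 g (mem_centralizer_singleton_iff.mpr (mul_inv_eq_iff_eq_mul.mp e))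
        obtain ⟨σ, e'⟩ := (q3 _).mp (Or.inl hk)
        exact ⟨k, σ, by rw [e']; group⟩
      · obtain ⟨k, hk⟩ := k3 (g * F d1) (mem_centralizer_singleton_iff.mpr (by
          rw [← mul_inv_eq_iff_eq_mul]
          calc _ = g * (F d1 * F (i0, 0, 0, 1) * (F d1)⁻¹) * g⁻¹ := by group
            _ = _ := by rw [e1, ← conj_inv, e, inv_inv]))
        obtain ⟨σ, e'⟩ := (q3 _).mp (Or.inr (by rwa [← mul_assoc] at hk))
        exact ⟨k, σ, by rw [e']; group⟩, fun σ hσ => by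
      have e : φ σ = 1 := k2 _ (((q3 _).mpr ⟨σ, rfl⟩).resolve_right fun e => e4 (by
        obtain ⟨k, hk⟩ := hσ
        rw [← e3 _ e, ← hk]
        group)) hσ
      obtain ⟨σ, rfl⟩ := CP.of_surjective σ
      rw [q1, map_eq_one_iff ψ p1,
        map_eq_one_iff θ (Finite.injective_iff_surjective.mpr t2)] at e
      rw [e, CP.of_one]⟩
  replace ha : φ c = _ := (q1 _).trans ha
  replace hb : φ d = _ := (q1 _).trans hb
  obtain ⟨⟨r1, r2, r3, r4⟩, r5, r6, r7, r8, r9⟩ := rel6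
  have cj : ∀ {x y w : P6}, x * y * x⁻¹ = w → φ x * φ y * (φ x)⁻¹ = φ w := fun e => by
    rw [← e]; simp
  have s1 := cj r1
  have s4 := cj r4
  rw [map_inv, ha] at s1
  rw [map_inv, hb] at s4
  obtain ⟨⟨i, v⟩, hv⟩ := (h.mem _).mp (h.mem_of_gens (g := φ r)
    (by rw [← hb, cj r2, hb]; exact h.par.mem' _) (by rw [s1]; exact inv_mem (h.par.mem' _))
    (by rw [q4 _ r8]; exact inv_mem (h.par.mem' _)))
  obtain ⟨⟨k, w⟩, hw⟩ := (h.mem _).mp (h.mem_of_gens (g := φ y)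
    (by rw [s4]; exact inv_mem (h.par.mem' _)) (by rw [← ha, cj r3, ha]; exact h.par.mem' _)
    (by rw [q4 _ r9]; exact inv_mem (h.par.mem' _)))
  obtain rfl := (eq_d12 i (h.act_neg (hv ▸ q4 _ r8))).1 (h.act_neg (hv ▸ s1))
  obtain rfl := (eq_d12 k (h.act_neg (hw ▸ q4 _ r9))).2 (h.act_neg (hw ▸ s4))
  obtain ⟨j, j1, j2⟩ := norm_d12 v w (h.inj (by rw [h.mul, hv, ← map_mul, r5, map_one, h.one]))
    (h.inj (by rw [h.mul, hw, ← map_mul, r6, map_one, h.one]))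
    (h.cm.mp (by rw [hv, hw, ← map_mul, r7, map_mul]))
  have j3 : ∀ v, F (i0, j) * F (i0, v) * (F (i0, j))⁻¹ = F (i0, v) := fun v => by
    rw [h.par.comm _ (h.par.mem' _) _ (h.par.mem' _), mul_inv_cancel_right]
  refine ⟨_, j3 _ ▸ six.conj (F (i0, j)), ?_, ?_, ?_, ?_⟩ <;>
    change F (i0, j) * φ _ * (F (i0, j))⁻¹ = _
  · rw [ha, j3]
  · rw [hb, j3]
  · rw [← hv, h.conj_iff, j1]
  · rw [← hw, h.conj_iff, j2]

end A9

end Cfsg.Agent.Char
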