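import Cfsg.Agent.Char.A9Six
import Cfsg.Agent.Char.A8Loc
import Cfsg.Agent.CIT.Galois

/-!
# The centraliser of a four-group in a group with the `3`-local structure of `A₉`
-/

set_option autoImplicit false
set_option synthInstance.maxSize 4096

namespace Cfsg.Agent.Char

open Subgroup Local Equiv S6
open Mat (CP)
open scoped Pointwise

variable {G : Type*} [Group G]

namespace S9

attribute [local irreducible] c d r y p q η x γ u

variable {z : G} {ψ : P6 →* G}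

theorem Six.z3 (h : Six z ψ) : z ^ 3 = 1 := h.ord ▸ pow_orderOf_eq_one z

theorem Six.inj (h : Six z ψ) : Function.Injective ψ :=
  (injective_iff_map_eq_one ψ).mpr fun σ e => h.dis σ (e ▸ one_mem _)

theorem Six.cm (h : Six z ψ) {σ τ : P6} : ψ σ * ψ τ = ψ τ * ψ σ ↔ σ * τ = τ * σ := by
  rw [← map_mul, ← map_mul, h.inj.eq_iff]

theorem Six.ne_inv (h : Six z ψ) : z ≠ z⁻¹ := fun e => by
  have := orderOf_dvd_of_pow_eq_one (x := z) (n := 2) (by rw [pow_two, ← eq_inv_iff_mul_eq_one, ← e])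
  rw [h.ord] at this
  omega

theorem Six.norm (h : Six z ψ) (σ : P6) : ψ σ * z * (ψ σ)⁻¹ ∈ zpowers z := by
  cases e : ev σ
  · rw [h.odd σ e]; exact inv_mem (mem_zpowers z)
  · rw [h.even σ e, mul_inv_cancel_right]; exact mem_zpowers z

theorem mem_norm_zpowers [Finite G] {g : G} :
    g ∈ normalizer (zpowers z : Set G) ↔ g * z * g⁻¹ ∈ zpowers z :=
  ⟨fun h => conj_mem_of_mem_normalizer h (mem_zpowers z), fun h => mem_normalizer_of_conj_mem (by
    rintro _ ⟨k, rfl⟩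
    simpa only [conj_zpow] using zpow_mem h k)⟩

theorem Six.cent (h : Six z ψ) {g : G} (hg : g * z = z * g) :
    ∃ k : ℕ, ∃ σ, ev σ = true ∧ g = z ^ k * ψ σ := by
  obtain ⟨k, σ, rfl⟩ := h.mem g (by rw [hg, mul_inv_cancel_right]; exact mem_zpowers z)
  refine ⟨k, σ, ?_, rfl⟩
  by_contra e
  refine h.ne_inv ?_
  rw [← h.odd σ (by simpa using e), eq_comm, mul_inv_eq_iff_eq_mul]
  rwa [mul_assoc, ← mul_assoc z, ← pow_succ', pow_succ, mul_assoc, mul_right_inj] at hg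

theorem Six.pow_eq [Finite G] (h : Six z ψ) {k n : ℕ} {σ : P6} (e : (z ^ k * ψ σ) ^ n = 1) :
    σ ^ n = 1 := by
  have : ∀ n, (z ^ k * ψ σ) ^ n * (ψ σ ^ n)⁻¹ ∈ zpowers z := fun n => by
    induction n with
    | zero => simp
    | succ n ih =>
      have := mul_mem (npow_mem_zpowers z k) (conj_mem_of_mem_normalizer
        (mem_norm_zpowers.mpr (h.norm σ)) ih)
      rwa [pow_succ', pow_succ', mul_inv_rev, ← mul_assoc, mul_assoc (z ^ k * ψ σ), mul_assoc (z ^ k),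
        mul_assoc (z ^ k)]
  exact h.dis _ (by simpa [e] using this n)

theorem Six.dec [Finite G] (h : Six z ψ) {g : G} (hg : g * z = z * g) {n : ℕ} (hn : ¬ 3 ∣ n)
    (e : g ^ n = 1) : ∃ σ, ev σ = true ∧ g = ψ σ := by
  obtain ⟨k, σ, h1, rfl⟩ := h.cent hg
  have h2 := h.pow_eq e
  rw [(Commute.pow_left (h.even σ h1).symm k).mul_pow, ← map_pow, h2, map_one, mul_one] at e
  refine ⟨σ, h1, ?_⟩
  rw [eq_one_of_pow_eq_one_of_coprime ((Nat.Prime.coprime_iff_not_dvd Nat.prime_three).mpr hn)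
    (by rw [pow_right_comm, h.z3, one_pow]) e, one_mul]

theorem pow_four {l : P6} {k : ℕ} (e : l ^ 2 ^ k = 1) : (l ^ 2) ^ 2 = 1 := by
  have h1 := exp60 l
  simp only [← pow_mul] at h1 ⊢
  rw [← orderOf_dvd_iff_pow_eq_one] at e h1 ⊢
  exact (Nat.Coprime.coprime_dvd_left e (Nat.Coprime.pow_left k (by norm_num : Nat.Coprime 2 15))
    ).dvd_of_dvd_mul_right h1

theorem rel1 : (ev c = true ∧ ev p = true ∧ ev q = true ∧ ev η = true ∧ ev x = true ∧
      ev γ = true) ∧ (p * p = 1 ∧ q * q = 1 ∧ η * η = 1 ∧ p * q = q * p ∧ p * η = η * p) ∧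
    (c * p * c⁻¹ = p * q ∧ c * q * c⁻¹ = p ∧ γ * (c * d) * γ⁻¹ * p * (γ * (c * d) * γ⁻¹)⁻¹ = p * η ∧
      γ * (c * d) * γ⁻¹ * η * (γ * (c * d) * γ⁻¹)⁻¹ = p) ∧
    (η = r * y ∧ p * y = y * p ∧ q * y = y * q ∧ p * c * p⁻¹ ≠ 1 ∧ p * c * p⁻¹ ≠ c ∧
      p * c * p⁻¹ ≠ c⁻¹) ∧ u * u = 1 ∧ u ≠ 1 ∧ u * (c * d) = c * d * u := by
  decide +kernel

theorem rel2 : (∃ g k, u = r * (g * g) * (k * k)) ∧ (∀ σ, σ = p * y ∨ σ = q * y ∨ σ = p * q * y →
    (∃ g, g * u * g⁻¹ = σ) ∧ σ * σ = 1 ∧ ∀ τ, τ = p * y ∨ τ = q * y ∨ τ = p * q * y →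
      σ * τ = 1 ∨ σ * τ = p ∨ σ * τ = q ∨ σ * τ = p * q) ∧
    q * y * (p * q * y) = p ∧ p * y * (p * q * y) = q := by
  decide +kernel

end S9

namespace A9

open S9

attribute [local irreducible] c d r y p q η x γ u

theorem cj_u : ∀ y, mx y y = (i0, 0) → y ≠ (i0, 0) → act y.1 (1, 1, 0) = (1, 1, 0) →
    y.1.2.1 = true ∧ Cj (rep 12) y := by decide +kernel

variable {H J : Subgroup G} {F : X648 → G} [Finite G]

theorem Loc.isConj_of_comm_u (h : Loc H J F) (he : centralizer {F (i0, 1, 1, 0)} ≤ H) {w : G}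
    (hw : w * F (rep 12) = F (rep 12) * w) (h3 : w ^ 3 = 1) (h1 : w ≠ 1) :
    IsConj (F (i0, 1, 1, 0)) w := by
  have uu : F (rep 12) * F (rep 12) = 1 := by rw [← h.mul, ← h.one]; rfl
  let C := centralizer ({F (rep 12)} : Set G)
  let e : C := ⟨F (rep 1), mem_centralizer_singleton_iff.mpr (h.comm (by decide))⟩
  let u : C := ⟨F (rep 12), mem_centralizer_singleton_iff.mpr rfl⟩
  let t : C := ⟨F (rep 10), mem_centralizer_singleton_iff.mpr (h.comm (by decide))⟩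
  have hCI : CI e u := by
    refine ⟨fun g => Subtype.ext (mem_centralizer_singleton_iff.mp g.2), Subtype.ext uu,
      by rw [← orderOf_coe]; exact h.ord (by decide), ?_⟩
    rintro ⟨g, hg⟩ hge
    have hge : g * F (rep 1) = F (rep 1) * g := congrArg Subtype.val hge
    obtain ⟨y, rfl⟩ := (h.mem g).mp (he (mem_centralizer_singleton_iff.mpr hge))
    obtain ⟨k, hk | hk⟩ := cent_eu y (h.cm.mp (mem_centralizer_singleton_iff.mp hg)) (h.cm.mp hge)
    · exact Or.inl ⟨k, Subtype.ext (by simp [e, hk, h.pow])⟩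
    · exact Or.inr ⟨k, Subtype.ext (by simp [e, u, ← h.mul, hk, h.pow])⟩
  exact C.subtype.map_isConj (hCI.isConj (t := t) (y := ⟨w, mem_centralizer_singleton_iff.mpr hw⟩)
    (Subtype.ext ((h.conj_j (rep 10) (1, 1, 0)).trans (h.par.neg (1, 1, 0)))) (Subtype.ext h3)
    fun e => h1 (congrArg Subtype.val e))

theorem Loc.mem_of_index_two (h : Loc H J F) {L : Subgroup G} (hL : L.index = 2) {y : X648}
    (hy : y.1.2.1 = false) : F y ∈ L := by
  obtain ⟨i, v⟩ := y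
  obtain ⟨k, hk⟩ := even_sq i hy
  rw [← mx_ji, h.mul, ← hk, h.mul, show v = -v + -v by clear hy; revert v; decide, h.par.add]
  exact mul_mem (mul_self_mem_of_index_two hL _) (mul_self_mem_of_index_two hL _)

theorem Loc.eq_top_of_normal (h : Loc H J F) {L : Subgroup G} [hn : L.Normal] (hL : H ≤ L) :
    L = ⊤ := by
  refine eq_top_iff.mpr fun g _ => ?_
  obtain ⟨k, hk, h1⟩ := h.exists_conj (P := MulAut.conj g • J) (h.le.trans hL) (h.pgrp.map _) (by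
    rintro _ ⟨a, ha, rfl⟩
    exact hn.conj_mem _ (hL (h.le ha)) g)
  exact (mul_mem_cancel_left hk).mp (hL (h.wcJ (g := k * g) fun a ha => by
    simpa [mul_assoc] using h1 _ ⟨a, ha, rfl⟩))

/-- The case of a large centraliser. -/
structure Two (H J : Subgroup G) (F : X648 → G) (ψ : P6 →* G) : Prop extends Loc H J F where
  he : centralizer {F (i0, 1, 1, 0)} ≤ H
  hw : centralizer {F (i0, 1, 1, 1)} ≤ H
  six : Six (F (i0, 0, 0, 1)) ψ
  pc : ψ c = F (i0, 0, 1, 0)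
  pd : ψ d = F (i0, 1, 0, 0)
  pr : ψ r = F d1
  py : ψ y = F d2

variable {ψ : P6 →* G}

theorem Two.cent (h : Two H J F ψ) {v : V27} (hv : 2 ≤ cls3 v) : centralizer {F (i0, v)} ≤ H := by
  rcases (by decide : ∀ v, 2 ≤ cls3 v → cls3 (1, 1, 0) = cls3 v ∨ cls3 (1, 1, 1) = cls3 v) v hv
    with e | e
  exacts [h.cent_of_cls e h.he, h.cent_of_cls e h.hw]

theorem Two.pe (h : Two H J F ψ) : ψ (c * d) = F (i0, 1, 1, 0) := by
  rw [map_mul, h.pc, h.pd, ← h.par.add]; rfl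

theorem Two.exists_u (h : Two H J F ψ) :
    ∃ y, F y = ψ u ∧ y.1.2.1 = true ∧ IsConj (F (rep 12)) (ψ u) := by
  obtain ⟨-, -, -, -, r1, r2, r3⟩ := rel1
  have h1 := h.six.cm.mpr r3
  rw [h.pe] at h1
  obtain ⟨y, hy⟩ := (h.mem _).mp (h.he (mem_centralizer_singleton_iff.mpr h1))
  obtain ⟨h2, z, hz⟩ := cj_u y (h.inj (by rw [h.mul, hy, ← map_mul, r1, map_one, h.one]))
    (fun e => r2 (h.six.inj (by rw [← hy, e, h.one, map_one]))) (h.act_eq (hy ▸ h1))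
  exact ⟨y, hy, h2, hy ▸ h.isConj z hz⟩

theorem Two.not_sc (h : Two H J F ψ) {t w : G} (ht : IsConj (ψ u) t)
    (hw : IsConj (F (i0, 0, 0, 1)) w) : t * w ≠ w * t := fun e => by
  obtain ⟨-, -, -, h1⟩ := h.exists_u
  obtain ⟨g, rfl⟩ := isConj_iff.mp (h1.trans ht)
  obtain ⟨k, rfl⟩ := isConj_iff.mp hw
  have := h.isConj_of_comm_u h.he (w := (g⁻¹ * k) * F (i0, 0, 0, 1) * (g⁻¹ * k)⁻¹) (by
    calc _ = g⁻¹ * (k * F (i0, 0, 0, 1) * k⁻¹ * (g * F (rep 12) * g⁻¹)) * g := by group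
      _ = _ := by rw [← e]; group) (by rw [conj_pow, h.six.z3]; group)
    fun e => h.par.ne_one (by decide) (conj_eq_one_iff.mp e)
  exact absurd ((h.isConj_j _ _).mp (this.trans (isConj_iff.mpr ⟨_, rfl⟩).symm)) (by decide)

theorem Two.index_ne (h : Two H J F ψ) (L : Subgroup G) : L.index ≠ 2 := fun hL => by
  obtain ⟨y, h1, h2, -⟩ := h.exists_u
  obtain ⟨g, k, e⟩ := rel2.1
  have h3 : F y ∈ L := by
    rw [h1, e, map_mul, map_mul, map_mul, map_mul, h.pr]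
    exact mul_mem (mul_mem (h.mem_of_index_two hL rfl) (mul_self_mem_of_index_two hL _))
      (mul_self_mem_of_index_two hL _)
  have := normal_of_index_eq_two hL
  rw [h.eq_top_of_normal (L := L) fun g hg => ?_, index_top] at hL
  · omega
  obtain ⟨w, rfl⟩ := (h.mem g).mp hg
  cases e : w.1.2.1
  · exact h.mem_of_index_two hL e
  · exact (mul_mem_cancel_right h3).mp (h.mul _ _ ▸ h.mem_of_index_two hL (by
      rw [(mx_fst _ _).1, e, h2]; rfl))

theorem Two.comm_z (h : Two H J F ψ) {K : Subgroup G} (hK : ¬ 3 ∣ Nat.card K)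
    (hz : F (i0, 0, 0, 1) ∈ normalizer (K : Set G)) {k m : G} (hk : k ∈ K)
    (hm : m * F (i0, 0, 0, 1) = F (i0, 0, 0, 1) * m) {v : V27} (hv : 2 ≤ cls3 v)
    (e : k * (m * F (i0, v) * m⁻¹) = m * F (i0, v) * m⁻¹ * k) :
    k * F (i0, 0, 0, 1) = F (i0, 0, 0, 1) * k := by
  have zJ := h.par.mem' (0, 0, 1)
  have h1 : m⁻¹ * k * m ∈ H := h.cent hv (mem_centralizer_singleton_iff.mpr (by
    calc _ = m⁻¹ * (k * (m * F (i0, v) * m⁻¹)) * m := by group
      _ = _ := by rw [e]; group))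
  have h2 := h.cube (mul_mem (h.norm _ zJ _ h1) (inv_mem zJ))
  have h3 := mul_mem hk (conj_mem_of_mem_normalizer hz (inv_mem hk))
  generalize F (i0, 0, 0, 1) = z at *
  have h4 : m⁻¹ * k * m * z * (m⁻¹ * k * m)⁻¹ * z⁻¹ = m⁻¹ * (k * (z * k⁻¹ * z⁻¹)) * m⁻¹⁻¹ := by
    calc _ = m⁻¹ * k * (m * z) * m⁻¹ * k⁻¹ * (m * z⁻¹) := by group
      _ = _ := by rw [hm, (Commute.inv_right hm).eq]; group
  rw [h4, conj_pow, conj_eq_one_iff] at h2
  rw [← mul_inv_eq_iff_eq_mul, ← mul_inv_eq_one, ← eq_one_of_pow_eq_one_of_coprime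
    ((Nat.Prime.coprime_iff_not_dvd Nat.prime_three).mpr hK) h2
    (orderOf_dvd_iff_pow_eq_one.mp (orderOf_dvd_card_of_mem h3))]
  group

theorem Two.tri (h : Two H J F ψ) {p0 q0 : P6} (kl : Kl (ψ p0) (ψ q0)) (hp : ev p0 = true)
    (hq : ev q0 = true) (hC : ∀ σ, σ * p0 = p0 * σ → σ * q0 = q0 * σ → ev σ = true →
      σ = 1 ∨ σ = p0 ∨ σ = q0 ∨ σ = p0 * q0) {m : G}
    (hm : m * F (i0, 0, 0, 1) = F (i0, 0, 0, 1) * m) {v : V27} (hv0 : ¬ Cg (0, 0, 1) v 0)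
    (hv : ∀ i < 3, ∀ j < 3, i ≠ 0 → j ≠ 0 → 2 ≤ cls3 (i • v + j • (0, 0, 1)))
    (hn : m * F (i0, v) * m⁻¹ ∈ normalizer (kl.V : Set G)) :
    (∀ g ∈ centralizer (kl.V : Set G), g * F (i0, 0, 0, 1) * g⁻¹ ∈ zpowers (F (i0, 0, 0, 1))) ∨
    ∃ K : Subgroup G, ¬ 3 ∣ Nat.card K ∧ K ≤ centralizer (kl.V : Set G) ∧
      F (i0, 0, 0, 1) ∈ normalizer (K : Set G) ∧ ∃ k ∈ K,
        k * (m * F (i0, v) * m⁻¹) = m * F (i0, v) * m⁻¹ * k ∧
        k * F (i0, 0, 0, 1) ≠ F (i0, 0, 0, 1) * k := by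
  have zV : F (i0, 0, 0, 1) ∈ centralizer (kl.V : Set G) :=
    kl.mem_cent.mpr ⟨(h.six.even _ hp).symm, (h.six.even _ hq).symm⟩
  have a3 : (m * F (i0, v) * m⁻¹) ^ 3 = 1 := by rw [conj_pow, h.par.cube V27_three]; group
  have az : m * F (i0, v) * m⁻¹ * F (i0, 0, 0, 1) = F (i0, 0, 0, 1) * (m * F (i0, v) * m⁻¹) :=
    Commute.mul_left (Commute.mul_left hm (h.par.comm _ (h.par.mem' _) _ (h.par.mem' _)))
      (Commute.inv_left hm)
  have hV : ∀ σ, ev σ = true → ψ σ ∈ centralizer (kl.V : Set G) → ψ σ ∈ kl.V := fun σ e hσ => by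
    rw [kl.mem_cent, h.six.cm, h.six.cm] at hσ
    rcases hC σ hσ.1 hσ.2 e with rfl | rfl | rfl | rfl <;> simp [Kl.mem_V]
  obtain ⟨K, k1, k2, k3, k4, k5, -⟩ := Char.tri (D := closure {m * F (i0, v) * m⁻¹, F (i0, 0, 0, 1)})
    kl.not_dvd kl.le_cent h.six.ord zV (fun g hg e => by
      obtain ⟨k, σ, e', rfl⟩ := h.six.cent e
      exact mul_mem_sup (npow_mem_zpowers _ k)
        (hV σ e' ((mul_mem_cancel_left (pow_mem zV k)).mp hg)))
    (fun e => ⟨1, Subtype.ext (by simpa using cube_of_mem_closure a3 h.six.z3 az e.2)⟩) (by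
      rw [closure_le]; rintro x (rfl | rfl)
      exacts [hn, centralizer_le_normalizer _ zV])
  have zK := k3 (subset_closure (Or.inr rfl))
  refine or_iff_not_imp_right.mpr fun hn => k5 (le_antisymm (le_of_centralizer_le_of_rank_two
    Nat.prime_three (k3 (subset_closure (Or.inl rfl))) zK az a3 h.six.ord (fun e => hv0 ?_) k4
    fun e he e1 k hk => ?_) k1)
  · rw [← h.cg (by decide), h.par.zero, inv_one, mul_one]
    simpa [mul_assoc] using conj_mem_of_mem_normalizer (mem_norm_zpowers.mpr (show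
      m⁻¹ * _ * m⁻¹⁻¹ ∈ _ by rw [(Commute.inv_left hm).eq, mul_inv_cancel_right]; exact mem_zpowers _)) e
  obtain ⟨i, hi, j, hj, rfl⟩ := exists_pow_of_mem_closure a3 h.six.z3 az he
  have h1 := mem_centralizer_singleton_iff.mp hk.2
  have h2 : ∀ {w : G} {i : ℕ}, w ^ 3 = 1 → i < 3 → w ^ i ≠ 1 → k * w ^ i = w ^ i * k →
      k * w = w * k := fun {w i} e hi e1 e2 => by
    interval_cases i
    · simp at e1
    · simpa using e2
    · have := Commute.pow_right e2 2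
      rwa [← pow_mul, show 2 * 2 = 3 + 1 from rfl, pow_succ, e, one_mul] at this
  have h3 : k * F (i0, 0, 0, 1) = F (i0, 0, 0, 1) * k := by
    by_cases i0' : i = 0
    · exact h2 h.six.z3 hj (by simpa [i0'] using e1) (by simpa [i0'] using h1)
    by_cases j0 : j = 0
    · by_contra e
      exact hn ⟨K, k4, k2, zK, k, hk.1, h2 a3 hi (by simpa [j0] using e1) (by simpa [j0] using h1), e⟩
    have h4 : ∀ (n : ℕ) w, F (i0, n • w) = F (i0, w) ^ n := fun n w => by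
      induction n with
      | zero => simpa using h.one
      | succ n ih => rw [succ_nsmul, h.par.add, ih, pow_succ]
    refine h.comm_z k4 zK hk.1 hm (hv i hi j hj i0' j0) ?_
    rwa [h.par.add, h4, h4, ← conj_mul, ← conj_pow, (Commute.pow_right hm j).eq,
      mul_inv_cancel_right]
  obtain ⟨σ, e, rfl⟩ := h.six.dec h3 k4
    (orderOf_dvd_iff_pow_eq_one.mp (orderOf_dvd_card_of_mem hk.1))
  exact hV σ e (k2 hk.1)

theorem Two.cent_W (h : Two H J F ψ) {g : G} (h1 : g * ψ p = ψ p * g) (h2 : g * ψ η = ψ η * g) :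
    g * F (i0, 0, 0, 1) * g⁻¹ ∈ zpowers (F (i0, 0, 0, 1)) := by
  obtain ⟨⟨-, e1, -, e2, -, e3⟩, ⟨r1, -, r2, -, r3⟩, ⟨-, -, r4, r5⟩, -⟩ := rel1
  have kl := (⟨r1, r2, r3⟩ : Kl p η).map ψ
  rcases h.tri kl e1 e2 cent_pη (h.six.even γ e3) (v := (1, 1, 0)) (by decide) (by decide) (by
    rw [← h.pe, ← map_inv, ← map_mul, ← map_mul]
    exact kl.mem_norm (by rw [← map_inv, ← map_mul, ← map_mul, r4]; simp [Kl.mem_V])
      (by rw [← map_inv, ← map_mul, ← map_mul, r5]; simp [Kl.mem_V])) with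
    e | ⟨K, k1, -, k2, k, k3, k4, k5⟩
  · exact e g (kl.mem_cent.mpr ⟨h1, h2⟩)
  · exact absurd (h.comm_z k1 k2 k3 (h.six.even γ e3) (by decide) k4) k5

theorem Two.isConj_za (h : Two H J F ψ) (g : P6) : IsConj (F (i0, 0, 0, 1)) (ψ (g * c * g⁻¹)) := by
  have h1 := (h.isConj_j (0, 0, 1) (0, 1, 0)).mpr (by decide)
  rw [← h.pc] at h1
  exact h1.trans (ψ.map_isConj (isConj_iff.mpr ⟨g, rfl⟩))

theorem Two.not_cent_V (h : Two H J F ψ) (kl : Kl (ψ p) (ψ q)) : ¬ ∀ g ∈ centralizer (kl.V : Set G),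
    g * F (i0, 0, 0, 1) * g⁻¹ ∈ zpowers (F (i0, 0, 0, 1)) := fun hC => by
  obtain ⟨⟨-, e1, e2, -⟩, -, -, ⟨-, r1, r2, -⟩, r3, -⟩ := rel1
  obtain ⟨-, r4, r5, r6⟩ := rel2
  have za := h.isConj_za
  have sc := fun {t w} => h.not_sc (t := t) (w := w)
  have H2 := h.index_ne
  have six := h.six
  generalize F (i0, 0, 0, 1) = z at *
  have zV : z ∈ centralizer (kl.V : Set G) :=
    kl.mem_cent.mpr ⟨(six.even _ e1).symm, (six.even _ e2).symm⟩
  have hN : ∀ g ∈ normalizer (kl.V : Set G), g ∈ normalizer (zpowers z : Set G) := fun g hg => by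
    have h1 := conj_mem_of_mem_normalizer (normalizer_le_normalizer_centralizer _ hg) zV
    obtain ⟨k, σ, e⟩ := six.mem _ (hC _ h1)
    rw [e, mul_mem_cancel_left (pow_mem zV k), kl.mem_cent, six.cm, six.cm] at h1
    rw [mem_norm_zpowers, e, (cent_pq σ h1.1 h1.2).1 (six.pow_eq (k := k) (by
      rw [← e, conj_pow, six.z3]; group)), map_one, mul_one]
    exact npow_mem_zpowers z k
  have yy : ψ y ^ 2 ^ 1 = 1 := by rw [pow_one, pow_two, ← map_mul, rel6.2.2.1, map_one]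
  obtain ⟨T, hT, hle⟩ := exists_isSylowIn_ge (p := 2) (Q := kl.V ⊔ zpowers (ψ y)) (N := ⊤)
    (kl.isPGroup.to_sup_of_normal_left' (isPGroup_zpowers_of_pow yy) (zpowers_le.mpr
      (centralizer_le_normalizer _ (kl.mem_cent.mpr ⟨six.cm.mpr r1.symm, six.cm.mpr r2.symm⟩))))
    le_top
  have pT : ψ p ∈ T := hle (mem_sup_left (Or.inr (Or.inl rfl)))
  have qT : ψ q ∈ T := hle (mem_sup_left (Or.inr (Or.inr (Or.inl rfl))))
  have yT : ψ y ∈ T := hle (mem_sup_right (mem_zpowers _))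
  have UT : ∀ σ, σ = p * y ∨ σ = q * y ∨ σ = p * q * y → ψ σ ∈ T := by
    rintro _ (rfl | rfl | rfl) <;> simp only [map_mul]
    exacts [mul_mem pT yT, mul_mem qT yT, mul_mem (mul_mem pT qT) yT]
  by_cases hTM : T ≤ normalizer (zpowers z : Set G)
  · obtain ⟨g, hg⟩ := CIT.thompson_transfer H2 (S := normalizer (zpowers z : Set G))
      (D := centralizer {z}) (Nat.not_even_iff_odd.mp fun e => hT.not_dvd (by
        rw [relIndex_top_right]; exact e.two_dvd.trans (index_dvd_of_le hTM)))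
      (fun g hg => mem_norm_zpowers.mpr (by
        rw [mem_centralizer_singleton_iff.mp hg, mul_inv_cancel_right]; exact mem_zpowers z))
      (index_eq_two_iff'.mpr ⟨⟨ψ r, mem_norm_zpowers.mpr (six.norm r)⟩, fun b => by
        have h1 := six.odd r rel6.2.2.2.2.1
        simp only [mem_subgroupOf, mem_centralizer_singleton_iff, ← mul_inv_eq_iff_eq_mul, coe_mul]
        rw [show ψ r * b * z * (ψ r * b)⁻¹ = ψ r * (b * z * (b : G)⁻¹) * (ψ r)⁻¹ by group]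
        rcases mem_zpowers_three six.ord (mem_norm_zpowers.mp b.2) with e | e | e <;> rw [e]
        · have := six.ord
          rw [conj_eq_one_iff.mp e, orderOf_one] at this
          omega
        · exact Or.inr ⟨rfl, h1 ▸ six.ne_inv.symm⟩
        · exact Or.inl ⟨by rw [← conj_inv, h1, inv_inv], six.ne_inv.symm⟩⟩)
      (t := ψ u) (by rw [← map_mul, r3, map_one])
    exact sc (isConj_iff.mpr ⟨g⁻¹, by simp⟩) (IsConj.refl z) (mem_centralizer_singleton_iff.mp hg)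
  obtain ⟨g, hg, h1, h2⟩ := exists_mem_normalizer_of_lt_of_isNilpotent
    (Q := T ⊓ normalizer (zpowers z : Set G)) hT.isPGroup.isNilpotent
    (lt_of_le_of_ne inf_le_left fun e => hTM (e.ge.trans inf_le_right))
  have key : ∀ σ, σ = p * y ∨ σ = q * y ∨ σ = p * q * y →
      ∃ τ, (τ = p * y ∨ τ = q * y ∨ τ = p * q * y) ∧ g * ψ σ * g⁻¹ = ψ τ := fun σ hσ => by
    obtain ⟨⟨m, hm⟩, s2, -⟩ := r4 σ hσ
    obtain ⟨h3, h4⟩ := conj_mem_of_mem_normalizer h1
      (⟨UT σ hσ, mem_norm_zpowers.mpr (six.norm σ)⟩ : ψ σ ∈ T ⊓ normalizer (zpowers z : Set G))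
    have h5 : IsConj (ψ u) (g * ψ σ * g⁻¹) :=
      (ψ.map_isConj (isConj_iff.mpr ⟨m, hm⟩)).trans (isConj_iff.mpr ⟨g, rfl⟩)
    obtain ⟨k, τ, e⟩ := six.mem _ (mem_norm_zpowers.mp h4)
    have h6 : τ ^ 2 = 1 := six.pow_eq (k := k) (by
      rw [← e, conj_pow, pow_two, ← map_mul, s2, map_one]; group)
    rw [e] at h3 h5 ⊢
    have h7 : ∀ ρ, ψ ρ ∈ T → ((τ * ρ) ^ 2) ^ 2 = 1 := fun ρ hρ => by
      obtain ⟨n, hn⟩ := hT.isPGroup ⟨_, mul_mem h3 hρ⟩
      exact pow_four (six.pow_eq (k := k) (n := 2 ^ n) (by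
        rw [map_mul, ← mul_assoc]; exact congrArg Subtype.val hn))
    cases ht : ev τ
    · rcases inv_odd τ (pow_two τ ▸ h6) ht with ⟨ρ, ρ1, ρ2⟩ | e'
      · exact absurd (Commute.mul_left (Commute.pow_left (six.even _ ρ1).symm k) (six.cm.mpr ρ2))
          (sc h5 (za ρ))
      · have e'' := e' (h7 p pT) (h7 q qT)
        obtain ⟨n, hn⟩ := hT.isPGroup ⟨_, (mul_mem_cancel_right (UT τ e'')).mp h3⟩
        exact ⟨τ, e'', by rw [eq_one_of_pow_eq_one_of_coprime (x := z ^ k)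
          (Nat.Coprime.pow_left n (by norm_num : Nat.Coprime 2 3)) (congrArg Subtype.val hn)
          (by rw [pow_right_comm, six.z3, one_pow]), one_mul]⟩
    · exact absurd (Commute.mul_left (Commute.pow_left rfl k) (six.even _ ht))
        (sc h5 (IsConj.refl z))
  have key2 : ∀ σ τ, σ = p * y ∨ σ = q * y ∨ σ = p * q * y → τ = p * y ∨ τ = q * y ∨ τ = p * q * y →
      g * ψ (σ * τ) * g⁻¹ ∈ kl.V := fun σ τ hσ hτ => by
    obtain ⟨σ', s1, s2⟩ := key σ hσ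
    obtain ⟨τ', t1, t2⟩ := key τ hτ
    rw [map_mul, ← conj_mul, s2, t2, ← map_mul]
    rcases (r4 σ' s1).2.2 τ' t1 with e | e | e | e <;> simp [e, Kl.mem_V]
  have a1 := key2 (q * y) (p * q * y) (Or.inr (Or.inl rfl)) (Or.inr (Or.inr rfl))
  have a2 := key2 (p * y) (p * q * y) (Or.inl rfl) (Or.inr (Or.inr rfl))
  rw [r5] at a1
  rw [r6] at a2
  exact h2 ⟨hg, hN g (kl.mem_norm a1 a2)⟩

end A9

end Cfsg.Agent.Char
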