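import Cfsg.Agent.Char.AltEnd

/-!
# Computations in `A₈` and `A₉`
-/

set_option autoImplicit false
set_option synthInstance.maxSize 4096

namespace Cfsg.Agent.Char.AltM

open Subgroup Local Equiv

section General

variable {α : Type*} [Fintype α] [DecidableEq α]

/-- A product of two transpositions. -/
def ss (a b c d : α) : alternatingGroup α :=
  if h : a ≠ b ∧ c ≠ d then ⟨swap a b * swap c d, by simp [h.1, h.2]⟩ else 1

theorem conj_ss (g : alternatingGroup α) (a b c d : α) :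
    g * ss a b c d * g⁻¹ = ss (g.1 a) (g.1 b) (g.1 c) (g.1 d) := by
  unfold ss
  by_cases h : a ≠ b ∧ c ≠ d
  · rw [dif_pos h, dif_pos (by simpa using h)]
    apply Subtype.ext
    simp only [coe_mul, coe_inv, swap_apply_apply]
    group
  · rw [dif_neg h, dif_neg (by simpa using h)]
    simp

/-- The number of moved points. -/
def sc (x : alternatingGroup α) : ℕ := x.1.support.card

theorem sc_eq {x y : alternatingGroup α} (h : IsConj x y) : sc x = sc y := by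
  obtain ⟨g, rfl⟩ := isConj_iff.mp h
  exact Perm.card_support_conj.symm

theorem cycleType_inv {x : alternatingGroup α} (h : x * x = 1) (h1 : x ≠ 1) :
    ∃ k, x.1.cycleType = Multiset.replicate k 2 ∧ sc x = 2 * k := by
  have h2 : orderOf x.1 = 2 := by rw [orderOf_coe]; exact Block.orderOf_eq_two h h1
  obtain ⟨k, hk⟩ := Perm.cycleType_prime_order (σ := x.1) (h2 ▸ Nat.prime_two)
  refine ⟨k + 1, h2 ▸ hk, ?_⟩
  rw [sc, ← Perm.sum_cycleType, hk, h2, Multiset.sum_replicate, smul_eq_mul, mul_comm]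

theorem four_dvd_sc {x : alternatingGroup α} (h : x * x = 1) (h1 : x ≠ 1) :
    4 ∣ sc x ∧ sc x ≠ 0 := by
  obtain ⟨k, h2, h3⟩ := cycleType_inv h h1
  have h4 := Perm.sign_of_cycleType x.1
  rw [Perm.mem_alternatingGroup.mp x.2, h2, eq_comm, neg_one_pow_eq_one_iff_even (by decide)] at h4
  simp only [Multiset.sum_replicate, smul_eq_mul, Multiset.card_replicate] at h4
  obtain ⟨l, hl⟩ := h4
  refine ⟨by omega, fun e => h1 (Subtype.ext ?_)⟩
  exact Perm.support_eq_empty_iff.mp (Finset.card_eq_zero.mp e)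

theorem isConj_of_sc {x y : alternatingGroup α} (hx : x * x = 1) (hy : y * y = 1) (h0 : sc x ≠ 0)
    (h : sc x = sc y) {a b : α} (hab : a ≠ b) (hc : swap a b * x.1 = x.1 * swap a b) :
    IsConj x y := by
  have h1 : ∀ z : alternatingGroup α, sc z ≠ 0 → z ≠ 1 := by
    rintro _ hz rfl; simp [sc] at hz
  obtain ⟨k, h2, h3⟩ := cycleType_inv hx (h1 x h0)
  obtain ⟨l, h4, h5⟩ := cycleType_inv hy (h1 y (h ▸ h0))
  obtain rfl : k = l := by omega
  obtain ⟨g, hg⟩ := isConj_iff.mp (Perm.isConj_iff_cycleType_eq.mpr (h2.trans h4.symm))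
  rcases Int.units_eq_one_or (Perm.sign g) with e | e
  · exact isConj_iff.mpr ⟨⟨g, e⟩, Subtype.ext hg⟩
  · refine isConj_iff.mpr ⟨⟨g * swap a b, by simp [e, hab]⟩, Subtype.ext ?_⟩
    simp only [coe_mul, coe_inv]
    rw [mul_assoc g, hc, ← hg]; group

theorem app_comm {g c : alternatingGroup α} (h : g * c = c * g) (x : α) :
    g.1 (c.1 x) = c.1 (g.1 x) := congrArg (fun k : alternatingGroup α => k.1 x) h

theorem app_ne {g c : alternatingGroup α} (h : g * c = c * g) {x : α} (hx : c.1 x ≠ x) :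
    c.1 (g.1 x) ≠ g.1 x := by
  rw [← app_comm h]; simpa using hx

theorem app_eq {g c : alternatingGroup α} (h : g * c = c * g) {x : α} (hx : c.1 x = x) :
    c.1 (g.1 x) = g.1 x := by
  rw [← app_comm h, hx]

end General

/-- The alternating group of degree `m + 8`. -/
abbrev Al (m : ℕ) := alternatingGroup (Fin (m + 8))

variable {m : ℕ}

def t : Al m := ss 0 1 2 3
def v : Al m := ss 0 2 1 3
def z : Al m := ss 0 2 2 1
def a : Al m := ss 4 6 6 5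
def n : Al m := ss 0 4 1 5 * ss 2 6 3 7
def s : Al m := ss 0 1 4 5
def u : Al m := ss 0 1 2 3 * ss 4 5 6 7
def y : Al m := ss 0 2 2 4 * ss 1 3 3 5
def r : Al m := ss 2 4 3 5
def bp (b : Bool) (x : Al m) : Al m := bif b then x else 1
def el (b : Bool × Bool × Bool × Bool × Bool × Bool) : Al m :=
  bp b.1 t * bp b.2.1 s * bp b.2.2.1 u * bp b.2.2.2.1 v * bp b.2.2.2.2.1 (ss 4 6 5 7) *
    bp b.2.2.2.2.2 n
def wa (i : Fin (m + 8)) : Al m := t ^ (i.val % 2) * a ^ (2 * (i.val + 2) % 3)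
def wy (i : Fin (m + 8)) : Al m := y ^ (i.val / 2 % 3) * u ^ (i.val % 2)
def ba {β : Type*} (x0 x2 x4 x7 x8 : β) (i : ℕ) : β :=
  if i < 2 then x0 else if i < 4 then x2 else if i < 7 then x4 else if i < 8 then x7 else x8
def by' {β : Type*} (x0 x6 x8 : β) (i : ℕ) : β := if i < 6 then x0 else if i < 8 then x6 else x8

/-- Relations between the chosen elements. -/
def F1 (m : ℕ) : Prop := (t * t = (1 : Al m) ∧ v * v = (1 : Al m) ∧ t * v = (v * t : Al m)) ∧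
  (z * t * z⁻¹ = (v : Al m) ∧ z * v * z⁻¹ = (t * v : Al m) ∧ z ^ 3 = (1 : Al m)) ∧
  (a ^ 3 = (1 : Al m) ∧ a * t = (t * a : Al m) ∧ a * v = (v * a : Al m) ∧
    z * a = (a * z : Al m) ∧ n * z * n⁻¹ = (a : Al m)) ∧
  (z ≠ (1 : Al m) ∧ z ≠ (a : Al m) ∧ z ≠ (a⁻¹ : Al m)) ∧
  (s * t = (t * s : Al m) ∧ s * v * s⁻¹ = (t * v : Al m)) ∧
  (n * t * n⁻¹ * t = (t * (n * t * n⁻¹) : Al m) ∧ n * t * n⁻¹ ≠ (t : Al m)) ∧
  (u * u = (1 : Al m) ∧ y ^ 3 = (1 : Al m) ∧ y * u = (u * y : Al m) ∧ r * u = (u * r : Al m) ∧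
    r * y * r⁻¹ = (y⁻¹ : Al m) ∧ t * u = (u * t : Al m) ∧ (t * y) ^ 3 = (1 : Al m)) ∧
  (sc (t : Al m) = 4 ∧ sc (u : Al m) = 8 ∧ sc (a : Al m) = 3 ∧ sc (y : Al m) = 6) ∧
  ((0 : Fin (m + 8)) ≠ 1 ∧ swap 0 1 * (t : Al m).1 = t.1 * swap 0 1 ∧
    swap 0 1 * (u : Al m).1 = u.1 * swap 0 1)

theorem f1 (hm : m ≤ 1) : F1 m := by
  unfold F1
  interval_cases m <;> decide +kernel

theorem f2 (hm : m ≤ 1) : (∀ b, el b * u = (u * el b : Al m)) ∧
    ∀ b c, el b = (el c : Al m) → b = c := by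
  interval_cases m <;> decide +kernel

theorem f3 (hm : m ≤ 1) : ∀ i j k l : Fin (m + 8), ss i j k l * t = t * ss i j k l →
    sc (ss i j k l) = 4 → sc (t * ss i j k l) = 4 → ss i j k l = v ∨ ss i j k l = t * v ∨
      (ss i j k l * v ≠ v * ss i j k l ∧ ∃ e f, ss 0 1 e f * ss 0 1 e f = 1 ∧ sc (ss 0 1 e f) = 4 ∧
        sc (t * ss 0 1 e f) = 4 ∧ ss 0 1 e f * t = t * ss 0 1 e f ∧
        ss 0 1 e f * ss i j k l = ss i j k l * ss 0 1 e f ∧ ss 0 1 e f ≠ ss i j k l ∧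
        ss 0 1 e f ≠ t * ss i j k l) := by
  interval_cases m <;> decide +kernel

theorem f4 (hm : m ≤ 1) : (∀ i : Fin (m + 8), (wa i).1 (ba 0 2 4 7 8 i) = i) ∧
    ((t : Al m).1 0 ≠ 0 ∧ (t : Al m).1 2 ≠ 2 ∧ (a : Al m).1 4 ≠ 4 ∧ (t : Al m).1 7 = 7 ∧
      (a : Al m).1 7 = 7 ∧ (7 : Fin (m + 8)) ≠ 8) ∧
    ∀ x0 : Fin (m + 8), t.1 x0 ≠ x0 → ∀ x2, t.1 x2 ≠ x2 → ∀ x4, a.1 x4 ≠ x4 → ∀ x7, t.1 x7 = x7 →
      a.1 x7 = x7 → ∀ x8, let f := fun i => (wa i).1 (ba x0 x2 x4 x7 x8 i)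
      (∀ i j, f i = f j → i = j) →
      (∃ k : Fin 3, ∀ i, f (f (f (f i))) = (a ^ k.val).1 i) ∧ ((∀ i, f (v.1 i) = v.1 (f i)) →
        ∃ k : Fin 3, ∃ b c d : Bool, ∀ i, f i =
          ((a ^ k.val * (bp b t * bp c v)).1 * bif d then swap 7 8 else 1) i) := by
  interval_cases m <;> decide +kernel

theorem f5 (hm : m ≤ 1) : (∀ i : Fin (m + 8), (wy i).1 (by' 0 6 8 i) = i) ∧
    ((y : Al m).1 0 ≠ 0 ∧ (y : Al m).1 6 = 6 ∧ (6 : Fin (m + 8)) ≠ 7) ∧
    ∀ x0 : Fin (m + 8), y.1 x0 ≠ x0 → ∀ x6, y.1 x6 = x6 → ∀ x8,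
      let f := fun i => (wy i).1 (by' x0 x6 x8 i)
      (∀ i j, f i = f j → i = j) → ∃ k : Fin 3, ∃ b d : Bool, ∀ i, f i =
          ((y ^ k.val * bp b u).1 * bif d then swap 6 7 else 1) i := by
  interval_cases m <;> decide +kernel

end Cfsg.Agent.Char.AltM
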