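import Cfsg.Agent.Char.SEmb

/-!
# A subgroup with the involution fusion pattern of `A₈` or `A₉`
-/

set_option autoImplicit false

namespace Cfsg.Agent.Char

open Subgroup Local
open scoped Pointwise

variable {G : Type*} [Group G] [Finite G] {H : Subgroup G}

/-- Fusion data for a four-group `⟨t, v⟩` in `H`. -/
structure FourFus (H : Subgroup G) (t v u : G) : Prop where
  kl : Kl t v
  tH : t ∈ H
  ntu : ¬ IsConj t u
  t1 : t ≠ 1
  cv : HC H t v
  ctv : HC H t (t * v)
  cent : ∀ g, g * t = t * g → g * v = v * g → g ∈ H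
  swap : ∃ s ∈ H, s * t = t * s ∧ s * v * s⁻¹ = t * v
  inv : ∀ w ∈ H, w * w = 1 → w = 1 ∨ HC H t w ∨ HC H u w
  four : ∀ q, HC H t q → HC H t (t * q) → q * t = t * q → q = v ∨ q = t * v ∨
    ∃ w, HC H t w ∧ HC H t (t * w) ∧ w * t = t * w ∧ w * q = q * w ∧ w ≠ q ∧ w ≠ t * q
  eight : ∀ w, HC H t w → HC H t (t * w) → w * t = t * w → w * v = v * w → w = v ∨ w = t * v

variable {t v u : G}

theorem FourFus.hc (h : FourFus H t v u) {w : G} (hw : w ∈ H) (e : IsConj t w) : HC H t w := by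
  obtain ⟨g, rfl⟩ := isConj_iff.mp e
  rcases h.inv _ hw (by rw [conj_mul, h.kl.pp]; group) with e1 | e1 | e1
  · exact absurd (conj_eq_one_iff.mp e1) h.t1
  · exact e1
  · exact absurd (e.trans e1.isConj.symm) h.ntu

theorem FourFus.conj_eq (h : FourFus H t v u) {g : G} (hg : g * t = t * g) (hv : g * v * g⁻¹ ∈ H) :
    g * v * g⁻¹ = v ∨ g * v * g⁻¹ = t * v := by
  have e1 : g * t * g⁻¹ = t := by rw [hg]; group
  have e2 := (h.kl.conj g).comm
  rw [e1] at e2
  rcases h.four _ (h.hc hv (h.cv.isConj.trans (isConj_iff.mpr ⟨g, rfl⟩))) (h.hc (mul_mem h.tH hv)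
    (h.ctv.isConj.trans (isConj_iff.mpr ⟨g, by rw [← conj_mul, e1]⟩))) e2.symm with
    e | e | ⟨w, h1, h2, h3, h4, h5, h6⟩
  · exact Or.inl e
  · exact Or.inr e
  have e3 : g⁻¹ * t = t * g⁻¹ := Commute.inv_left hg
  have e4 : g⁻¹ * w * g * t = t * (g⁻¹ * w * g) := by
    rw [mul_assoc, hg, ← mul_assoc, mul_assoc _ w, h3, ← mul_assoc, e3]; group
  have e5 : g⁻¹ * w * g * v = v * (g⁻¹ * w * g) := by
    calc _ = g⁻¹ * (w * (g * v * g⁻¹)) * g := by group
      _ = _ := by rw [h4]; group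
  have e6 := h.cent _ e4 e5
  rcases h.eight _ (h.hc e6 (h1.isConj.trans (isConj_iff.mpr ⟨g⁻¹, by group⟩)))
    (h.hc (mul_mem h.tH e6) (h2.isConj.trans (isConj_iff.mpr ⟨g⁻¹, by
      rw [← mul_assoc, e3]; group⟩))) e4 e5 with e | e
  · exact absurd (by rw [← e]; group) h5
  · refine absurd ?_ h6
    rw [← mul_assoc, ← mul_assoc, ← hg, mul_assoc g, ← e]; group

theorem FourFus.mem_of_norm (h : FourFus H t v u) {g : G} (hg : g * t = t * g)
    (hv : g * v * g⁻¹ = v ∨ g * v * g⁻¹ = t * v) : g ∈ H := by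
  rcases hv with e | e
  · exact h.cent g hg (mul_inv_eq_iff_eq_mul.mp e)
  · obtain ⟨s, hs, h1, h2⟩ := h.swap
    have := h.cent (s⁻¹ * g) (Commute.mul_left (Commute.inv_left h1) hg) (by
      rw [← mul_inv_eq_iff_eq_mul]
      calc _ = s⁻¹ * (g * v * g⁻¹) * s := by group
        _ = _ := by rw [e, ← h2]; group)
    simpa using mul_mem hs this

theorem FourFus.cent_le (h : FourFus H t v u) {n a : G} (hn : n ∈ H) (ha : orderOf a = 3)
    (hat : a * t = t * a) (h1 : a * (n * t * n⁻¹) * a⁻¹ = n * v * n⁻¹)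
    (h2 : a * (n * v * n⁻¹) * a⁻¹ = n * t * n⁻¹ * (n * v * n⁻¹))
    (hp : n * t * n⁻¹ * t = t * (n * t * n⁻¹)) (hpt : n * t * n⁻¹ ≠ t)
    (hC : ∀ g, g * a = a * g → g * t = t * g → g ^ 4 ∈ zpowers a) {g : G} (hg : g * t = t * g) :
    g ∈ H := by
  set Y := centralizer ({t} : Set G) with hY
  have hm : ∀ {g}, g * t = t * g → g ∈ Y := fun hg => mem_centralizer_singleton_iff.mpr hg
  have hm' : ∀ g : Y, (g : G) * t = t * g := fun g => mem_centralizer_singleton_iff.mp g.2
  have ha3 : a ^ 3 = 1 := ha ▸ pow_orderOf_eq_one a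
  have hN : (zpowers (⟨t, hm rfl⟩ : Y)).Normal := ⟨fun n hn g => by
    obtain ⟨k, rfl⟩ := hn
    change g * _ ^ k * g⁻¹ ∈ _
    rw [(Commute.zpow_right (show Commute g ⟨t, hm rfl⟩ from Subtype.ext (hm' g)) k).eq,
      mul_inv_cancel_right]
    exact zpow_mem (mem_zpowers _) k⟩
  set f := QuotientGroup.mk' (zpowers (⟨t, hm rfl⟩ : Y))
  have hf : Function.Surjective f := QuotientGroup.mk'_surjective _
  have ft : f ⟨t, hm rfl⟩ = 1 := (QuotientGroup.eq_one_iff _).mpr (mem_zpowers _)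
  have hk : ∀ g k : Y, f g = f k → (g : G) = k ∨ (g : G) = t * k := fun g k e => by
    obtain ⟨i, hi⟩ := QuotientGroup.eq.mp e.symm
    have h3 : t ^ (2 : ℤ) = 1 := by rw [zpow_two, h.kl.pp]
    have h4 : t ^ i = (k : G)⁻¹ * g := by simpa using congrArg Subtype.val hi
    rw [zpow_eq_zpow_emod i h3, eq_inv_mul_iff_mul_eq] at h4
    rcases Int.emod_two_eq_zero_or_one i with e | e <;> rw [e] at h4
    · exact Or.inl (by simpa using h4.symm)
    · exact Or.inr (by rw [← hm' k]; simpa using h4.symm)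
  let v' : Y := ⟨v, hm h.kl.comm.symm⟩
  have hz := Block.zstar (t := f v') (by
    rw [← map_mul, ← map_one f]; exact congrArg f (Subtype.ext h.kl.qq)) (fun x hx => by
      obtain ⟨x, rfl⟩ := hf x
      have e1 := hk (x * v' * x⁻¹ * v' * (x * v' * x⁻¹)⁻¹) v' (by
        simp only [map_mul, map_inv]
        rw [← hx.eq]; group)
      have e2 := h.mem_of_norm (hm' (x * v' * x⁻¹)) e1
      rw [← map_inv, ← map_mul, ← map_mul]
      rcases h.conj_eq (hm' x) e2 with e | e
      · exact congrArg f (Subtype.ext e)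
      · rw [← one_mul (f v'), ← ft, ← map_mul]
        exact congrArg f (Subtype.ext e))
  set O := Cfsg.pPrimeCore 2 (Y ⧸ zpowers (⟨t, hm rfl⟩ : Y))
  have hO : ∀ {x}, x ∈ O → ∀ {k : ℕ}, x ^ 2 ^ k = 1 → x = 1 := fun hx k e =>
    eq_one_of_pow_eq_one_of_coprime ((coprime_card_pPrimeCore 2).pow_right k)
      (orderOf_dvd_iff_pow_eq_one.mp (orderOf_dvd_card_of_mem hx)) e
  have hq : n * v * n⁻¹ * t = t * (n * v * n⁻¹) := by
    rw [← h1]
    exact Commute.mul_left (Commute.mul_left hat hp) (Commute.inv_left hat)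
  let p' : Y := ⟨_, hm hp⟩
  let q' : Y := ⟨_, hm hq⟩
  let a' : Y := ⟨a, hm hat⟩
  have kl : Kl p' q' := ⟨Subtype.ext (h.kl.conj n).pp, Subtype.ext (h.kl.conj n).qq,
    Subtype.ext (h.kl.conj n).comm⟩
  have hcube : ∀ x y : Y, f x = f y → x ^ 3 = 1 → y ^ 3 = 1 → x = y := fun x y e hx hy => by
    rcases hk x y e with e | e
    · exact Subtype.ext e
    · have e1 := congrArg Subtype.val hx
      have e2 := congrArg Subtype.val hy
      simp only [SubmonoidClass.coe_pow, OneMemClass.coe_one] at e1 e2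
      rw [e, Commute.mul_pow (hm' y).symm, e2, mul_one, pow_three, h.kl.pp, mul_one] at e1
      exact absurd e1 h.t1
  have a3 : a' ^ 3 = 1 := Subtype.ext ha3
  have oa : orderOf (f a') = 3 := by
    have : Fact (Nat.Prime 3) := ⟨Nat.prime_three⟩
    refine orderOf_eq_prime (by rw [← map_pow, a3, map_one]) fun e => ?_
    have := congrArg Subtype.val (hcube a' 1 (by rw [e, map_one]) a3 (one_pow 3))
    exact ne_one_of_orderOf_eq_prime Nat.prime_three ha this
  have e1 : f a' * f p' * (f a')⁻¹ = f q' := by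
    rw [← map_inv, ← map_mul, ← map_mul]; exact congrArg f (Subtype.ext h1)
  have e2 : f a' * f q' * (f a')⁻¹ = f p' * f q' := by
    rw [← map_inv, ← map_mul, ← map_mul, ← map_mul]; exact congrArg f (Subtype.ext h2)
  have haO : f a' ∉ O := fun e => by
    have e3 : f q' * f a' * (f q')⁻¹ * (f a')⁻¹ = f p' := by
      calc _ = f q' * (f a' * f q' * (f a')⁻¹) := by rw [(kl.map f).iq]; group
        _ = _ := by rw [e2, (kl.map f).comm', (kl.map f).qq, mul_one]
    have e4 := hO (x := f p') (e3 ▸ mul_mem (Normal.conj_mem inferInstance _ e _) (inv_mem e))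
      (k := 1) (by rw [pow_one, pow_two, (kl.map f).pp])
    rcases hk p' 1 (by rw [e4, map_one]) with e | e
    · exact h.t1 (conj_eq_one_iff.mp e)
    · exact hpt (by simpa using e)
  have hOH : ∀ x : Y, f x ∈ O → (x : G) ∈ H := fun x hx => by
    obtain ⟨e3, e4⟩ := a4_centralizes (K := O) (coprime_card_pPrimeCore 2) (kl.map f) oa e1 e2
      (fun k hk e => by
        obtain ⟨k, rfl⟩ := hf k
        have e3 := hcube (k * a' * k⁻¹) a' (by simp only [map_mul, map_inv]; rw [← e]; group)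
          (by rw [conj_pow, a3]; group) a3
        obtain ⟨i, hi⟩ := hC k (mul_inv_eq_iff_eq_mul.mp (congrArg Subtype.val e3)) (hm' k)
        have e4 : f k ^ 4 ∈ zpowers (f a') := ⟨i, by
          change f a' ^ i = _
          rw [← map_zpow, ← map_pow]; exact congrArg f (Subtype.ext (by simpa using hi))⟩
        rcases mem_zpowers_three oa e4 with e5 | e5 | e5
        · exact hO hk (k := 2) e5
        · exact absurd (e5 ▸ pow_mem hk 4) haO
        · exact absurd (inv_mem_iff.mp (e5 ▸ pow_mem hk 4)) haO) hx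
    have e5 : ∀ y : Y, f x * f y = f y * f x → (x : G) ^ 2 * y = y * (x : G) ^ 2 := fun y e => by
      rcases hk (x * y) (y * x) (by simpa using e) with e | e <;>
        simp only [coe_mul] at e
      · exact Commute.pow_left e 2
      · rw [pow_two, mul_assoc, e, ← mul_assoc, hm' x, mul_assoc t, ← mul_assoc (x : G), e,
          mul_assoc t, h.kl.pp', mul_assoc]
    have e6 : (x : G) ^ 2 ∈ H := by
      have := h.cent (n⁻¹ * x ^ 2 * n) (by
        calc _ = n⁻¹ * (x ^ 2 * (n * t * n⁻¹)) * n := by group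
          _ = _ := by rw [e5 p' e3]; simp only [p']; group) (by
        calc _ = n⁻¹ * (x ^ 2 * (n * v * n⁻¹)) * n := by group
          _ = _ := by rw [e5 q' e4]; simp only [q']; group)
      simpa [mul_assoc] using mul_mem (mul_mem hn this) (inv_mem hn)
    obtain ⟨m, hm2⟩ : Odd (Nat.card O) := Nat.coprime_two_right.mp (coprime_card_pPrimeCore 2)
    have e7 := orderOf_dvd_iff_pow_eq_one.mp (orderOf_dvd_card_of_mem hx)
    rw [hm2, ← map_pow, ← map_one f] at e7
    have e8 : (x : G) ^ (2 * m + 1) ∈ H := by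
      rcases hk _ _ e7 with e | e <;> simp only [SubmonoidClass.coe_pow] at e <;> rw [e]
      · exact one_mem H
      · simpa using h.tH
    rwa [pow_succ, pow_mul, mul_mem_cancel_left (pow_mem e6 m)] at e8
  have e3 := hOH (⟨g, hm hg⟩ * v' * (⟨g, hm hg⟩)⁻¹ * v'⁻¹) (by simpa using hz (f ⟨g, hm hg⟩))
  refine h.mem_of_norm hg (h.conj_eq hg ?_)
  simpa [v'] using mul_mem e3 (h.cv.mem h.tH)

theorem FourFus.wc (h : FourFus H t v u) (hC : ∀ g, g * t = t * g → g ∈ H) : WC H t := by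
  intro g hg
  obtain ⟨k, hk, e⟩ := h.hc hg (isConj_iff.mpr ⟨g, rfl⟩)
  have := hC (k⁻¹ * g) (by
    rw [← mul_inv_eq_iff_eq_mul]
    calc _ = k⁻¹ * (g * t * g⁻¹) * k := by group
      _ = _ := by rw [← e]; group)
  simpa using mul_mem hk this

theorem FourFus.eq_top (h : FourFus H t v u) (hC : ∀ g, g * t = t * g → g ∈ H) (hu : u * u = 1)
    (hu1 : u ≠ 1) (hCu : ∀ g, g * u = u * g → g ∈ H) : H = ⊤ := by
  have hc : ∀ {x w g}, (∀ g, g * x = x * g → g ∈ H) → HC H x w → g * w = w * g → g ∈ H := by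
    rintro x _ g h1 ⟨k, hk, rfl⟩ e
    have := h1 (k⁻¹ * g * k) (by
      calc _ = k⁻¹ * (g * (k * x * k⁻¹)) * k := by group
        _ = _ := by rw [e]; group)
    simpa [mul_assoc] using mul_mem (mul_mem hk this) (inv_mem hk)
  rw [eq_top_iff]
  rintro g -
  have h1 : g * u * g⁻¹ * (g * u * g⁻¹) = 1 := by rw [conj_mul, hu]; group
  have h2 : 2 ∣ orderOf (t * (g * u * g⁻¹)) := by
    by_contra hn
    obtain ⟨i, hi⟩ := Block.exists_conj_of_odd h.kl.pp h1
      ((Nat.prime_two.coprime_iff_not_dvd.mpr hn).symm)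
    exact h.ntu (isConj_iff.mpr ⟨((t * (g * u * g⁻¹)) ^ i)⁻¹ * g, 
      Eq.trans (by generalize (t * (g * u * g⁻¹)) ^ i = c; group) hi⟩).symm
  obtain ⟨m, e1, e2, e3⟩ := Block.exists_central_involution h.kl.pp h1 h2
  have h3 : g * u * g⁻¹ ∈ H := by
    rcases h.inv _ (hC _ e2.symm) (Block.mul_self_of_orderOf e1) with e | e | e
    · rw [e, orderOf_one] at e1; omega
    · exact hc hC e e3
    · exact hc hCu e e3
  rcases h.inv _ h3 h1 with e | e | ⟨k, hk, e⟩
  · exact absurd (conj_eq_one_iff.mp e) hu1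
  · exact absurd (e.isConj.trans (isConj_iff.mpr ⟨g, rfl⟩).symm) h.ntu
  · have := hCu (k⁻¹ * g) (by
      rw [← mul_inv_eq_iff_eq_mul]
      calc _ = k⁻¹ * (g * u * g⁻¹) * k := by group
        _ = _ := by rw [← e]; group)
    simpa using mul_mem hk this

end Cfsg.Agent.Char
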