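import Cfsg.Agent.Char.B3End

/-!
# The case in which the normaliser of `3³` is `3³ : (2² : S₃)`
-/

set_option autoImplicit false
set_option synthInstance.maxSize 4096

namespace Cfsg.Agent.Char.B3

open Subgroup Local
open A9 (cls3)
open scoped Pointwise

/-- An element of order nine. -/
def wX : X := (yI, 1, 0, 0)

/-- A diagonal matrix. -/
def eI : I48 := (0, false, false, true, true)

theorem prodC : ∀ y : X, ok true false y.1 → y.1.2.1 = false → ∃ s t : Bool, ∃ v : V27,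
    y = mx (pw wX y.1.1.val) (mx (mx (mx (dI, v.1, v.2.1, 0) (dI, 0))
      (mx (eI, 0, 0, v.2.2) (eI, 0))) ((0, false, s, t, s ^^ t), 0)) := by
  decide +kernel

theorem w_pow : ∀ k < 9, pw wX k = (i0, 0) ∨ ∃ n : Fin 4, ∃ v, v ≠ 0 ∧ pw (pw wX k) n = (i0, v) := by
  decide +kernel

theorem repsC : ∀ v, v ≠ 0 → ¬ xt true v ∨ ∃ i, ok true false i ∧
    (act i (1, 1, 1) = v ∨ -act i (1, 1, 1) = v) := by decide +kernel

theorem cls8C : ∀ u v, cls8 u = cls8 v ↔ ∃ s t, act (0, false, s, t, s ^^ t) u = v := by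
  decide +kernel

variable {G : Type*} [Group G] [Finite G] {δ m : Bool} {J : Subgroup G} {F : X → G}

local notation "𝓗" => normalizer (J : Set G)
local notation "𝓣" => F (tI, 0)

theorem M.card_le_243 (h : M true false J F) (wc : ∀ j ∈ J, j ≠ 1 → WC 𝓗 j) {L : Subgroup G}
    (hL : ∀ y, ok true false y.1 → (F y ∈ L ↔ y.1.1 = 0 ∧ y.1.2.1 = false)) :
    Nat.card L ≤ 243 := by
  let e : V27 → L := fun v => ⟨F (i0, v), (hL _ ok0).mpr ⟨rfl, rfl⟩⟩
  have hp : Param (J.subgroupOf L) e := ⟨fun u v => Subtype.ext (h.par.add u v),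
    fun u v e' => h.par.inj (congrArg Subtype.val e'), fun g => by
      rw [mem_subgroupOf, h.par.mem]
      exact exists_congr fun v => (Subtype.ext_iff (a1 := e v)).symm⟩
  have hemb : ∀ j ∈ J.subgroupOf L, j ≠ 1 → ∀ g, g * j * g⁻¹ ∈ (𝓗).subgroupOf L →
      g ∈ (𝓗).subgroupOf L := fun j hj h1 g hg => wc j hj (fun e' => h1 (Subtype.ext e')) g hg
  have nm : ∀ j ∈ J.subgroupOf L, ∀ g ∈ (𝓗).subgroupOf L, g * j * g⁻¹ ∈ J.subgroupOf L :=
    fun j hj g hg => conj_mem_of_mem_normalizer (G := G) hg hj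
  refine Char.card_le_243 (T := J.subgroupOf L) (H := (𝓗).subgroupOf L) (sc3_of_conj_mem
    (comap_mono le_normalizer) hp.comm nm hemb (hp.mem' (0, 0, 1)) (hp.ne_one (by decide))
    (hp.cube V27_three _)) hp (fun u v => ⟨fun hc => ?_, fun hc => ?_⟩) ?_
  · by_cases hu : u = 0
    · subst hu
      rw [hp.zero, isConj_one_right, ← hp.zero] at hc
      rw [hp.inj hc]
    obtain ⟨⟨g, hgL⟩, hg⟩ := isConj_iff.mp hc
    obtain ⟨⟨⟨ρ, ε, s, t, r⟩, w⟩, hy, rfl⟩ := (h.mem g).mp
      (hemb _ (hp.mem' u) (hp.ne_one hu) _ (by rw [hg]; exact h.mem' ok0))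
    obtain ⟨rfl, rfl⟩ : ρ = 0 ∧ ε = false := (hL _ hy).mp hgL
    obtain rfl : r = (s ^^ t) := by revert hy; cases s <;> cases t <;> cases r <;> simp [ok]
    exact (cls8C u v).mpr ⟨s, t, h.par.inj ((h.conj_j hy _).symm.trans (congrArg Subtype.val hg))⟩
  · obtain ⟨s, t, rfl⟩ := (cls8C u v).mp hc
    have hy : ok true false (0, false, s, t, s ^^ t) := by cases s <;> cases t <;> rfl
    exact isConj_iff.mpr ⟨⟨F ((0, false, s, t, s ^^ t), 0), (hL _ hy).mpr ⟨rfl, rfl⟩⟩,
      Subtype.ext (h.conj_j (x := (_, 0)) hy _)⟩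
  · have h1 : normalizer (J.subgroupOf L : Set L) = (𝓗).subgroupOf L :=
      le_antisymm (fun g hg => hemb _ (hp.mem' (0, 0, 1)) (hp.ne_one (by decide)) g
        (le_normalizer (G := G) (conj_mem_of_mem_normalizer (N := J.subgroupOf L) hg (hp.mem' _))))
        fun g hg => mem_normalizer_of_conj_mem fun j hj => nm j hj g hg
    rw [h1, ← inf_subgroupOf_right, Nat.card_congr (subgroupOfEquivOfLe inf_le_right).toEquiv]
    exact (h.card_filter _ (fun y => y.1.1 = 0 ∧ y.1.2.1 = false) (fun _ hg => hg.1) fun z hz => by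
      rw [mem_inf, and_iff_right (h.mem' hz), hL _ hz]).trans (by decide +kernel)

theorem M.normal_C (h : M δ m J F)
    (hall : ∀ v, v ≠ 0 → centralizer {F (i0, v)} ≤ normalizer (J : Set G)) (hδ : δ = true)
    (hm : m = false) : J.Normal := by
  subst hδ hm
  obtain ⟨V, hV⟩ := h.exists_V hall
  have h1 := h.index_odd hall (h.wc_t hall hV (by simp))
  have h2 := two_mul_card_ker hV
  have h3 := (𝓗).card_mul_index
  rw [show Nat.card 𝓗 = 648 from (h.card_filter _ (fun _ => True) (fun _ => id)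
    (fun x hx => by simp [h.mem' hx])).trans (by decide +kernel)] at h3
  have hV' : ∀ {y : X}, ok true false y.1 → (F y ∈ V.ker ↔ y.1.2.1 = false) := by
    intro y hy
    rw [MonoidHom.mem_ker, h.V_eq V hy, (by decide : ∀ i, ok true false i → pty i = false) _ hy]
    cases y.1.2.1 <;> simp [hV]
  have wc : ∀ v, v ≠ 0 → WC 𝓗 (F (i0, v)) := fun v hv => by
    rcases repsC v hv with e | ⟨i, hi, e⟩
    exacts [h.wc_j hv e (hall v hv), h.wc_of hi e h.wc_x]
  obtain ⟨φ, hφ⟩ := h.exists_hom (V.ker.subtype.comp ((𝓗).subgroupOf V.ker).subtype)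
    (fun i => i.2.1 = false) (fun g => by
      obtain ⟨y, hy, e⟩ := (h.mem _).mp g.2
      exact ⟨y, hy, (hV' hy).mp (e ▸ g.1.2), e⟩) (fun i => Multiplicative.ofAdd i.1) (by decide)
  have kw : ok true false wX.1 := rfl
  have w9 : F wX ^ 9 = 1 := (h.pw_eq kw).mp rfl
  have wV : F wX ∈ V.ker := (hV' kw).mpr rfl
  have h4 := transfer_of_conj_mem φ (x := ⟨_, wV⟩) (h.mem' kw) fun k g h1 h2 => by
    have h5 : F wX ^ k ≠ 1 := fun e => h1 (Subtype.ext e)
    have h6 : (g : G) * F wX ^ k * (g : G)⁻¹ ∈ 𝓗 := h2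
    rw [pow_eq_pow_mod _ w9, ← h.pow kw] at h5 h6
    obtain ⟨n, v, hv, e⟩ := (w_pow _ (Nat.mod_lt k (by norm_num))).resolve_left
      fun e => h5 (by rw [e, h.one])
    refine wc v hv g ?_
    rw [← e, h.pow (ok_pw kw _), ← conj_pow]
    exact pow_mem h6 _
  have hA : ∀ a : Multiplicative (ZMod 3), a ^ 3 = 1 := by decide
  rw [pow_eq_pow_of_modEq (show ((𝓗).subgroupOf V.ker).index ≡ 1 [MOD 3] from
    (wc (1, 1, 1) (by decide)).relIndex_modEq (h.mem' ok0)
    (h.par.cube V27_three _) ((hV' ok0).mpr rfl)) (hA _), pow_one, hφ _ wX kw rfl] at h4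
  generalize MonoidHom.transfer φ = τ at h4
  have b0 : ∀ z : X, ok true false z.1 → z.1.2.1 = false → mx z z = (i0, 0) →
      F z ∈ τ.ker.map V.ker.subtype := fun z hz e1 e2 => ⟨⟨_, (hV' hz).mpr e1⟩,
    (by decide : ∀ a : Multiplicative (ZMod 3), a * a = 1 → a = 1) _ (by
      rw [← map_mul, ← map_one τ]; exact congrArg τ (Subtype.ext ((h.sq hz).mpr e2))), rfl⟩
  have h5 := h.card_le_243 (L := τ.ker.map V.ker.subtype) (fun j hj j1 => by
    obtain ⟨v, rfl⟩ := (h.par.mem j).mp hj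
    exact wc v fun e => j1 (by rw [e, h.one])) fun y hy => by
    by_cases e : y.1.2.1 = false
    · obtain ⟨s, t, v, e'⟩ := prodC y hy e
      have hs : ok true false (0, false, s, t, s ^^ t) := by cases s <;> cases t <;> rfl
      rw [e', h.mul (ok_pw kw _) (ok_mx (ok_mx (ok_mx rfl rfl) (ok_mx rfl rfl)) hs),
        h.mul (ok_mx (ok_mx rfl rfl) (ok_mx rfl rfl)) hs, h.mul (ok_mx rfl rfl) (ok_mx rfl rfl),
        h.mul rfl rfl, h.mul rfl rfl, mul_mem_cancel_right (mul_mem (mul_mem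
          (mul_mem (b0 _ rfl rfl (by clear e'; revert v; decide)) (b0 _ rfl rfl rfl))
          (mul_mem (b0 _ rfl rfl (by clear e'; revert v; decide)) (b0 _ rfl rfl rfl)))
          (b0 _ hs rfl (by cases s <;> cases t <;> rfl))), ← e', and_iff_left e, h.pow kw]
      refine (mem_map_iff_mem (x := (⟨_, wV⟩ : V.ker) ^ y.1.1.val) V.ker.subtype_injective).trans ?_
      rw [MonoidHom.mem_ker, map_pow, h4]
      generalize y.1.1 = ρ
      revert ρ
      decide
    · exact iff_of_false (fun e' => e ((hV' hy).mp (map_subtype_le _ e'))) fun e' => e e'.2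
  rw [card_map_of_injective V.ker.subtype_injective] at h5
  have h6 := τ.ker.index_mul_card
  have h7 : τ.ker.index ≤ 3 := by
    rw [index_ker]
    exact (card_le_card_group _).trans (by simp)
  have h8 : Nat.card V.ker ≤ 729 := h6 ▸ Nat.mul_le_mul h7 h5
  exact normalizer_eq_top_iff.mp (index_eq_one.mp (by omega))

end Cfsg.Agent.Char.B3
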