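import Cfsg.Agent.Char.B3D0

/-!
# The case in which the normaliser of `3³` is `S₃ ≀ S₃`
-/

set_option autoImplicit false
set_option synthInstance.maxSize 4096

namespace Cfsg.Agent.Char.B3

open Subgroup Local Equiv
open scoped Pointwise
open A9 (cls3)
open S9 (P6 c d sw η u)

attribute [local irreducible] S9.c S9.d S9.r S9.η S9.u S9.sw

theorem gen_W : ∀ σ : P6, σ * sw 0 3 = sw 0 3 * σ → σ * sw 1 4 = sw 1 4 * σ →
    σ * sw 2 5 = sw 2 5 * σ → ∃ i j k : Fin 2,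
      σ = sw 0 3 ^ i.val * sw 1 4 ^ j.val * sw 2 5 ^ k.val := by decide +kernel

theorem exists_W : ∃ W : Subgroup P6, (∀ σ, σ ∈ W ↔ σ * sw 0 3 = sw 0 3 * σ ∧
    σ * sw 1 4 = sw 1 4 * σ ∧ σ * sw 2 5 = sw 2 5 * σ) ∧ (∀ σ ∈ W, σ * σ = 1) ∧ IsPGroup 2 W ∧
    ∀ σ ∈ [sw 0 3, sw 1 4, sw 2 5], σ ∈ W := by
  obtain ⟨W, mW⟩ : ∃ W : Subgroup P6, ∀ σ, σ ∈ W ↔ σ * sw 0 3 = sw 0 3 * σ ∧
      σ * sw 1 4 = sw 1 4 * σ ∧ σ * sw 2 5 = sw 2 5 * σ :=
    ⟨centralizer {sw 0 3, sw 1 4, sw 2 5}, fun σ => by simp [mem_centralizer_iff, eq_comm]⟩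
  have w2 : ∀ σ ∈ W, σ * σ = 1 := fun σ hσ =>
    (cent_W σ ((mW σ).mp hσ).1 ((mW σ).mp hσ).2.1 ((mW σ).mp hσ).2.2).1
  exact ⟨W, mW, w2, fun σ => ⟨1, Subtype.ext (by simpa [pow_two] using w2 σ σ.2)⟩,
    fun σ hσ => (mW σ).mpr (sw_comm σ hσ)⟩

variable {G : Type*} [Group G] [Finite G] {J : Subgroup G} {F : X → G} {ψ : P6 →* G}

local notation "𝓗" => normalizer (J : Set G)
local notation "𝓣" => F (tI, 0)
local notation "𝓡" => F (rI, 0)
local notation "𝓩" => F (i0, 0, 0, 1)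
local notation "𝓔" => F (i0, 1, 1, 0)

theorem M.sylow_A (h : M true true J F) :
    IsSylowIn 3 (J ⊓ centralizer {𝓡}) (centralizer {𝓡}) :=
  isSylowIn_of_isSylowIn_normalizer inf_le_right (isSylowIn_of_maximal
    (le_inf inf_le_right le_normalizer) h.pgrp.to_inf_left fun R hR h1 h2 =>
      le_antisymm (fun r hr => by
        obtain ⟨y, hy, rfl⟩ := (h.mem r).mp (h.emb_e (conj_mem_of_mem_normalizer (h2 hr).2
          ((h.mem_Cj (okD _)).mpr rfl)).1)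
        obtain ⟨h3, h4⟩ := cent_r y ((h.cm hy (okD _)).mp
          (mem_centralizer_singleton_iff.mp (h2 hr).1))
        refine ⟨mem_of_pow_mem_of_coprime (P43.coprime_four_of_isPGroup hR hr) ?_, (h2 hr).1⟩
        rw [← h.pow hy, h.mem_J (okD _)]
        refine h4 ((h.pw_eq (okD _)).mpr ?_)
        rw [h.pow hy, ← pow_mul, ← h.pw_eq hy, h3]) h1)

theorem M.rz (h : M true true J F) : 𝓡 * 𝓩 * 𝓡⁻¹ = 𝓩⁻¹ := by
  rw [h.conj_j (x := (rI, 0)) (okD _), ← h.par.neg]; rfl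

theorem M.rr (h : M true true J F) : 𝓡 * 𝓡 = 1 := (h.sq (y := (rI, 0)) (okD _)).mpr rfl

theorem M.model (h : M true true J F) {g : G} {α β ζ : V27}
    (ha : g * F (i0, 1, 0, 0) * g⁻¹ = F (i0, α)) (hb : g * F (i0, 0, 1, 0) * g⁻¹ = F (i0, β))
    (hz : g * 𝓩 * g⁻¹ = F (i0, ζ)) : ∃ y, F y = g ∧ act y.1 (1, 0, 0) = α ∧
      act y.1 (0, 1, 0) = β ∧ act y.1 (0, 0, 1) = ζ := by
  obtain ⟨y, hy, rfl⟩ := (h.mem g).mp (h.emb_e (by
    rw [show ((1, 1, 0) : V27) = (1, 0, 0) + (0, 1, 0) from rfl, h.par.add, ← conj_mul, ha, hb]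
    exact mul_mem (h.par.mem' _) (h.par.mem' _)))
  rw [h.conj_j hy] at ha hb hz
  exact ⟨y, rfl, h.par.inj ha, h.par.inj hb, h.par.inj hz⟩

theorem comm_of_norm {z g : G} (hz : orderOf z = 3) (hg : g ∈ normalizer (zpowers z : Set G))
    {k : ℕ} (h3 : g ^ 3 ^ k = 1) : g * z = z * g := by
  obtain ⟨φ, hφ⟩ := exists_sign hz
  exact (hφ ⟨g, hg⟩).mp (eq_one_of_pow_eq_one_of_coprime (m := 2) (n := 3 ^ k)
    (by norm_num [Nat.coprime_two_left, Odd.pow]) ((by decide : ∀ a : Z2, a ^ 2 = 1) _)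
    (by rw [← map_pow, ← map_one φ]; exact congrArg φ (Subtype.ext h3)))

omit [Finite G] in
theorem cj (ψ : P6 →* G) {x y w : P6} (e : x * y * x⁻¹ = w) : ψ x * ψ y * (ψ x)⁻¹ = ψ w := by
  rw [← e]; simp

omit [Finite G] in
theorem cj_mul {a b x y : G} (h1 : b * x * b⁻¹ = x) (h2 : a * x * a⁻¹ = y) :
    a * b * x * (a * b)⁻¹ = y := by
  rw [mul_inv_rev, ← mul_assoc, mul_assoc a b, mul_assoc a, h1, h2]

omit [Finite G] in
theorem comm_of_sq {a b : G} (ha : a * a = 1) (hb : b * b = 1) (h : a * b * (a * b) = 1) :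
    a * b = b * a := by
  rw [← inv_eq_of_mul_eq_one_right h, mul_inv_rev, inv_eq_of_mul_eq_one_right ha,
    inv_eq_of_mul_eq_one_right hb]

variable (h : M true true J F) (s : Sx F ψ)
include h s

omit [Finite G] in
theorem M.pe : ψ (c * d) = 𝓔 := by
  rw [map_mul, s.pc, s.pd, ← h.par.add]; rfl

theorem M.sylow_z : IsSylowIn 3 (zpowers 𝓩) (centralizer {ψ η}) := by
  have h1 : zpowers 𝓩 ≤ centralizer {ψ η} :=
    zpowers_le.mpr (mem_centralizer_singleton_iff.mpr (s.cz η).symm)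
  refine isSylowIn_of_isSylowIn_normalizer h1 (isSylowIn_of_maximal (le_inf h1 le_normalizer)
    (isPGroup_zpowers_of_pow (k := 1) (h.par.cube V27_three _)) fun R hR h2 h3 =>
      le_antisymm (fun r hr => ?_) h2)
  obtain ⟨k, hk⟩ := hR ⟨r, hr⟩
  obtain ⟨n, σ, rfl⟩ := s.mem r (comm_of_norm (h.ord (by decide)) (h3 hr).2
    (congrArg Subtype.val hk))
  have h4 := (mul_mem_cancel_left (h1 (pow_mem (mem_zpowers _) n))).mp (h3 hr).1
  rw [mem_centralizer_singleton_iff, ← map_mul, ← map_mul, s.inj.eq_iff] at h4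
  refine mem_of_pow_mem_of_coprime (P43.coprime_four_of_isPGroup hR hr) ?_
  rw [(Commute.pow_left (s.cz σ).symm n).mul_pow, ← map_pow, cent_η σ h4, map_one, mul_one]
  exact pow_mem (pow_mem (mem_zpowers _) _) _

theorem M.conj_rr : IsConj 𝓡 (ψ S9.r) := by
  obtain ⟨r1, r2, r3⟩ := relD.1
  obtain ⟨y, e, h1, h2, h3⟩ := h.model (g := ψ S9.r) (α := -(1, 0, 0)) (β := (0, 1, 0))
    (ζ := (0, 0, 1)) (by rw [h.par.neg, ← s.pc, cj ψ r1, map_inv]) (by rw [← s.pd, cj ψ r2])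
    (by rw [s.cz, mul_inv_cancel_right])
  obtain ⟨z, hz⟩ := ((diag_inv y ((h.sq (okD _)).mp (by rw [e, ← map_mul, r3, map_one])) h1).1 h2).1 h3
  exact isConj_iff.mpr ⟨F z, e ▸ (h.conj_iff (okD _) (okD _) (okD _)).mpr hz⟩

theorem M.nonfus {σ : P6} (hσ : σ * σ = 1) (e : IsConj 𝓡 (ψ σ * 𝓡)) : σ = 1 := by
  obtain ⟨⟨r1, r2, r3⟩, ⟨r4, r5, r6⟩, ⟨r7, r8, -⟩, -⟩ := relD
  refine (inv_cls σ hσ).resolve_right fun ⟨τ, hτ⟩ => ?_
  replace e := e.trans (isConj_iff.mpr ⟨ψ τ, show _ = ψ (τ * σ * τ⁻¹) * 𝓡 by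
    rw [← cj ψ rfl, ← conj_mul, s.cr τ, mul_inv_cancel_right]⟩)
  have ra : 𝓡 * ψ c * 𝓡⁻¹ = ψ c := by rw [← s.cr, mul_inv_cancel_right]
  have rb : 𝓡 * ψ d * 𝓡⁻¹ = ψ d := by rw [← s.cr, mul_inv_cancel_right]
  have rz : ∀ σ, ψ σ * 𝓡 * 𝓩 * (ψ σ * 𝓡)⁻¹ = F (i0, -(0, 0, 1)) := fun σ => by
    rw [h.par.neg, s.cr, cj_mul (by rw [s.cz, mul_inv_cancel_right]) h.rz]
  have sq : ∀ {σ y}, σ * σ = 1 → F y = ψ σ * 𝓡 → mx y y = (i0, 0) := fun {σ y} e e' =>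
    (h.sq (okD _)).mp (by
      rw [e', (show Commute _ _ from s.cr σ).symm.mul_mul_mul_comm, ← map_mul, e, h.rr, map_one,
        one_mul])
  have re : 𝓔 * 𝓡 = 𝓡 * 𝓔 := ((h.act_eq (x := (rI, 0)) (okD _)).mpr rfl).symm
  rcases hτ with e' | e' | e' <;> rw [e'] at e
  · obtain ⟨y, e1, h1, h2, h3⟩ := h.model (α := -(1, 0, 0)) (β := (0, 1, 0))
      (by rw [h.par.neg, ← s.pc, cj_mul ra (cj ψ r1), map_inv])
      (by rw [← s.pd, cj_mul rb (cj ψ r2)]) (rz S9.r)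
    obtain ⟨z, hz⟩ := ((diag_inv y (sq r3 e1) h1).1 h2).2 h3
    obtain ⟨y', e2, h4, h5, h6⟩ := h.model (g := ψ η) (α := -(1, 0, 0)) (β := -(0, 1, 0))
      (ζ := (0, 0, 1)) (by rw [h.par.neg, ← s.pc, cj ψ r4, map_inv])
      (by rw [h.par.neg, ← s.pd, cj ψ r5, map_inv]) (by rw [s.cz, mul_inv_cancel_right])
    obtain ⟨z', hz'⟩ := ((diag_inv y' ((h.sq (okD _)).mp (by rw [e2, ← map_mul, r6, map_one]))
      h4).2 h5).1 h6
    rw [← h.conj_iff (okD _) (okD _) (okD _)] at hz hz'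
    obtain ⟨g, hg⟩ := isConj_iff.mp (e.trans ((isConj_iff.mpr ⟨_, hz.trans e1⟩).symm.trans
      (isConj_iff.mpr ⟨_, hz'.trans e2⟩)))
    obtain ⟨n, -, hn⟩ := (h.sylow_z s).exists_le_conj (Q := zpowers (g * 𝓔 * g⁻¹))
      (isPGroup_zpowers_of_pow (k := 1) (by rw [pow_one, conj_pow, h.par.cube V27_three]; group))
      (zpowers_le.mpr (mem_centralizer_singleton_iff.mpr (by rw [← hg, conj_mul, conj_mul, re])))
    have h7 : ∀ v, n⁻¹ * (g * 𝓔 * g⁻¹) * n = F (i0, v) → cls3 (1, 1, 0) = cls3 v := fun v e =>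
      h.cls_eq (isConj_iff.mpr ⟨n⁻¹ * g, by rw [← e]; group⟩)
    rcases mem_zpowers_three (h.ord (by decide)) (Local.mem_conj_smul_iff.mp
      (hn (mem_zpowers _))) with e | e | e
    exacts [absurd (h7 0 (e.trans h.one.symm)) (by decide), absurd (h7 _ e) (by decide),
      absurd (h7 _ (e.trans (h.par.neg _).symm)) (by decide)]
  · obtain ⟨y, e1, h1, h2, h3⟩ := h.model (α := -(1, 0, 0)) (β := -(0, 1, 0))
      (by rw [h.par.neg, ← s.pc, cj_mul ra (cj ψ r4), map_inv])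
      (by rw [h.par.neg, ← s.pd, cj_mul rb (cj ψ r5), map_inv]) (rz η)
    obtain ⟨z, z1, z2, z3⟩ := ((diag_inv y (sq r6 e1) h1).2 h2).2 h3
    obtain ⟨g, hg⟩ := isConj_iff.mp e.symm
    rw [← h.cm (okD _) (okD _), e1] at z1
    obtain ⟨n, -, hn⟩ := h.sylow_A.exists_le_conj (Q := zpowers (g * F z * g⁻¹))
      (isPGroup_zpowers_of_pow (k := 1) (by rw [pow_one, conj_pow, (h.pw_eq (okD _)).mp z2]; group))
      (zpowers_le.mpr (mem_centralizer_singleton_iff.mpr (by rw [← hg, conj_mul, conj_mul, z1])))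
    have h4 := Local.mem_conj_smul_iff.mp (hn (mem_zpowers _))
    obtain ⟨v, hv⟩ := (h.par.mem _).mp h4.1
    have h5 : g⁻¹ * n * F (i0, v) * (g⁻¹ * n)⁻¹ = F z := by rw [hv]; group
    rw [← hv, h.mem_Cj (okD _)] at h4
    refine z3 ((h.mem_J (okD _)).mp (h5 ▸ ?_))
    by_cases h0 : v = 0
    · rw [h0, h.one]; simp
    exact h.closed h0 ((by decide : ∀ v, act rI v = v → ¬ xt true v) v h4) (h5 ▸ h.mem' (okD _))
  · have h1 : 𝓔 * (ψ u * 𝓡) = ψ u * 𝓡 * 𝓔 := (Commute.mul_right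
      (by rw [← h.pe s]; exact (Commute.map r7 ψ).symm) re).eq
    obtain ⟨k, hk, e1⟩ := (h.wc_j (v := (1, 1, 0)) (by decide) (by decide)
      (h.centD (by decide))).hc_of_comm (h.mem' ok0) (h.par.cube V27_three _) re h1 e
    obtain ⟨y, hy, rfl⟩ := (h.mem k).mp hk
    obtain ⟨w, e2, h2, -⟩ := h.model (α := (0, 1, 0)) (β := (1, 0, 0))
      (by rw [← s.pd, ← s.pc, cj_mul ra (cj ψ r8)]) (by
        rw [← s.pd, ← s.pc, cj_mul rb (cj ψ (show u * d * u⁻¹ = c by decide +kernel))]) (rz u)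
    rw [← e2] at e1 h1
    exact absurd (h2.symm.trans (conj_r y.1 w.1 (congrArg Prod.fst ((h.conj_iff (x := (rI, 0))
      (okD _) (okD _) hy).mp e1)) ((h.act_eq (okD _)).mp h1.symm))) (by decide)

theorem M.cent_V {x : G} (h3 : x ^ 3 = 1)
    (hx : ∀ σ ∈ [sw 0 3, sw 1 4, sw 2 5], ψ σ * x = x * ψ σ) : x ∈ zpowers 𝓩 := by
  obtain ⟨W, mW, w2, wp, wg⟩ := exists_W
  have hV3 : ¬ 3 ∣ Nat.card (W.map ψ) := (Nat.Prime.coprime_iff_not_dvd Nat.prime_three).mp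
    (coprime_card_of_isPGroup (wp.map ψ) (by norm_num))
  have z3 := h.ord (v := (0, 0, 1)) (by decide)
  have zV : 𝓩 ∈ centralizer (W.map ψ : Set G) := by rintro _ ⟨σ, -, rfl⟩; exact s.cz σ
  have hC : ∀ g, (∀ σ ∈ [sw 0 3, sw 1 4, sw 2 5], ψ σ * g = g * ψ σ) → g * 𝓩 = 𝓩 * g →
      g ∈ zpowers 𝓩 ⊔ W.map ψ := fun g hg e => by
    obtain ⟨k, σ, rfl⟩ := s.mem g e
    have h1 : ∀ τ ∈ [sw 0 3, sw 1 4, sw 2 5], σ * τ = τ * σ := fun τ hτ => by
      have := hg τ hτ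
      rw [← mul_assoc, (Commute.pow_right (s.cz τ) k).eq, mul_assoc, mul_assoc,
        mul_right_inj] at this
      exact s.inj ((map_mul ψ _ _).trans (this.symm.trans (map_mul ψ _ _).symm))
    exact mul_mem (mem_sup_left (pow_mem (mem_zpowers _) k)) (mem_sup_right
      ⟨σ, (mW σ).mpr ⟨h1 _ (by simp), h1 _ (by simp), h1 _ (by simp)⟩, rfl⟩)
  have hC' : ∀ g ∈ centralizer (W.map ψ : Set G), g * 𝓩 = 𝓩 * g → g ∈ zpowers 𝓩 ⊔ W.map ψ :=
    fun g hg => hC g fun σ hσ => hg _ ⟨σ, wg σ hσ, rfl⟩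
  have dJ : closure {𝓩, 𝓔} ≤ J := (closure_le J).mpr (by
    rintro _ (rfl | rfl) <;> exact h.par.mem' _)
  have hVc : W.map ψ ≤ centralizer (W.map ψ : Set G) := by
    intro _ ⟨σ, hσ, e⟩ _ ⟨τ, hτ, e'⟩
    rw [← e, ← e']
    exact (Commute.map (comm_of_sq (G := P6) (a := τ) (b := σ) (w2 τ hτ) (w2 σ hσ)
      (w2 (τ * σ) (W.mul_mem hτ hσ))) ψ).eq
  have eV : 𝓔 ∈ normalizer (W.map ψ : Set G) := mem_normalizer_of_conj_mem fun _ ⟨σ, hσ, e⟩ =>
    ⟨_, (mW _).mpr (cent_W σ ((mW σ).mp hσ).1 ((mW σ).mp hσ).2.1 ((mW σ).mp hσ).2.2).2,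
      (cj ψ (x := c * d) (y := σ) rfl).symm.trans (by rw [h.pe s, e])⟩
  obtain ⟨K, k1, k2, k3, k4, k5, -⟩ := tri (D := closure {𝓩, 𝓔}) hV3 hVc z3 zV hC'
    (h.pgrp.to_le dJ) ((closure_le _).mpr (by
      rintro _ (rfl | rfl)
      exacts [centralizer_le_normalizer _ zV, eV]))
  have zK := k3 (subset_closure (by simp) : 𝓩 ∈ closure {𝓩, 𝓔})
  have jK : ∀ j ∈ J, j ∈ K → j = 1 := fun j hj hk => eq_one_of_pow_eq_one_of_coprime
    ((Nat.Prime.coprime_iff_not_dvd Nat.prime_three).mpr k4) (h.cube hj)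
    (orderOf_dvd_iff_pow_eq_one.mp (orderOf_dvd_card_of_mem hk))
  have k6 : K ≤ centralizer {𝓩} := le_of_centralizer_le_of_rank_two Nat.prime_three (b := 𝓔) zK
    (k3 (subset_closure (by simp))) (h.par.comm _ (h.par.mem' _) _ (h.par.mem' _))
    (h.par.cube V27_three _) (h.ord (by decide))
    (by rw [P43.par_zp h.par V27_three (by decide)]; decide) k4 fun e he e1 g hg => by
      obtain ⟨v, rfl⟩ := (h.par.mem e).mp (dJ he)
      have h1 : act tI v = v := (h.mem_Cj okt).mp ((closure_le (J ⊓ centralizer {𝓣})).mpr (by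
        rintro _ (rfl | rfl) <;> exact (h.mem_Cj okt).mpr rfl) he)
      rcases (by decide : ∀ v, act tI v = v → v = 0 ∨ v = (0, 0, 1) ∨ v = -(0, 0, 1) ∨ 2 ≤ cls3 v)
        v h1 with rfl | rfl | rfl | e
      · exact absurd h.one e1
      · exact hg.2
      · have := mem_centralizer_singleton_iff.mp hg.2
        rw [h.par.neg] at this
        exact mem_centralizer_singleton_iff.mpr (Commute.inv_right_iff.mp this)
      rw [mem_centralizer_singleton_iff, ← mul_inv_eq_iff_eq_mul, ← mul_inv_eq_one]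
      refine jK _ (mul_mem (conj_mem_of_mem_normalizer (h.centD e hg.2) (h.par.mem' _))
        (inv_mem (h.par.mem' _))) ?_
      simpa [mul_assoc] using mul_mem hg.1 (conj_mem_of_mem_normalizer zK (inv_mem hg.1))
  have k7 := k5 (le_antisymm (fun g hg => by
    obtain ⟨a, ha, v, hv, rfl⟩ := (mem_sup_of_left_le_normalizer
      (zpowers_le.mpr (centralizer_le_normalizer _ zV))).mp
      (hC' g (k2 hg) (mem_centralizer_singleton_iff.mp (k6 hg)))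
    rwa [jK a (zpowers_le.mpr (h.par.mem' _) ha) ((mul_mem_cancel_right (k1 hv)).mp hg),
      one_mul]) k1)
  have xV : x ∈ centralizer (W.map ψ : Set G) := by
    rintro _ ⟨σ, hσ, rfl⟩
    obtain ⟨e1, e2, e3⟩ := (mW σ).mp hσ
    have c1 : Commute _ _ := hx (sw 0 3) (by simp)
    have c2 : Commute _ _ := hx (sw 1 4) (by simp)
    have c3 : Commute _ _ := hx (sw 2 5) (by simp)
    obtain ⟨i, j, k, e⟩ := gen_W σ e1 e2 e3
    have c4 := ((c1.pow_left i).mul_left (c2.pow_left j)).mul_left (c3.pow_left k)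
    rw [← map_pow, ← map_pow, ← map_pow, ← map_mul, ← map_mul] at c4
    exact e ▸ c4
  refine mem_zpowers_of_mem_sup hV3 zV h3 (h.par.cube V27_three _) (hC x hx
    (comm_of_norm z3 (mem_normalizer_of_conj_mem ?_) (k := 1) h3))
  rintro _ ⟨k, rfl⟩
  rw [← conj_zpow]
  exact zpow_mem (k7 x xV) k

omit s in
theorem M.caseD : J.Normal ∨ Nonempty (G ≃* Perm (Fin 9)) := by
  rcases h.exists_six with e | ⟨ψ, s⟩
  · refine h.caseD1 fun v hv => (h.cent hv).elim id fun e' => ?_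
    obtain ⟨i, hi⟩ := (by decide : ∀ v, cls3 v = 1 → ∃ i, act i (0, 0, 1) = v) v e'.2.2
    exact h.cent_of (okD i) (Or.inl hi) e
  have z3 := h.ord (v := (0, 0, 1)) (by decide)
  obtain ⟨φ, hφ⟩ := exists_sign z3
  set U := centralizer {𝓡} ⊓ normalizer (zpowers 𝓩 : Set G) with hU
  have nz : ∀ g, g * 𝓩 * g⁻¹ ∈ zpowers 𝓩 → g ∈ normalizer (zpowers 𝓩 : Set G) := fun g hg =>
    mem_normalizer_of_conj_mem (by rintro _ ⟨k, rfl⟩; rw [← conj_zpow]; exact zpow_mem hg k)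
  have rU : 𝓡 ∈ U := ⟨mem_centralizer_singleton_iff.mpr rfl,
    nz _ (by rw [h.rz]; exact inv_mem (mem_zpowers _))⟩
  have zz : 𝓩⁻¹ ≠ 𝓩 := by rw [← h.par.neg]; exact h.par.inj.ne (by decide)
  have key : ∀ w ∈ U, IsConj 𝓡 w → w * 𝓩 = 𝓩 * w ∨ w = 𝓡 := fun w hw e => by
    rcases mem_zpowers_three z3 (conj_mem_of_mem_normalizer hw.2 (mem_zpowers _)) with e' | e' | e'
    · exact absurd (conj_eq_one_iff.mp e') (h.ne_one ok0 (by decide))
    · exact Or.inl (mul_inv_eq_iff_eq_mul.mp e')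
    obtain ⟨k, σ, h1⟩ := s.mem (w * 𝓡) (by
      rw [← mul_inv_eq_iff_eq_mul, mul_inv_rev, ← mul_assoc, mul_assoc w, mul_assoc w, h.rz,
        ← conj_inv, e', inv_inv])
    have h2 := (mul_mem_cancel_right (mem_centralizer_singleton_iff.mpr (s.cr σ))).mp
      (h1 ▸ mul_mem hw.1 rU.1)
    have h3 : 𝓩 ^ k = 1 := by
      rw [mem_centralizer_singleton_iff, eq_comm, ← mul_inv_eq_iff_eq_mul, ← conj_pow, h.rz,
        inv_pow, inv_eq_iff_mul_eq_one, ← pow_two] at h2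
      exact eq_one_of_pow_eq_one_of_coprime (m := 2) (n := 3) (by norm_num) h2
        (h.cube (pow_mem (h.par.mem' _) k))
    rw [h3, one_mul] at h1
    have h4 : w = ψ σ * 𝓡 := by rw [← h1, mul_assoc, h.rr, mul_one]
    obtain ⟨g, rfl⟩ := isConj_iff.mp e
    rw [h.nonfus s (σ := σ) (s.inj (by
      rw [map_mul, ← h1, (show Commute _ _ from mem_centralizer_singleton_iff.mp hw.1
        ).symm.mul_mul_mul_comm, conj_mul, h.rr, map_one]; group)) (h4 ▸ e), map_one, one_mul] at h4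
    exact Or.inr h4
  have cr : ∀ σ ∈ [sw 0 3, sw 1 4, sw 2 5], IsConj 𝓡 (ψ σ) := fun σ hσ => by
    obtain ⟨τ, e⟩ := (relD.2.2.2 σ hσ).2
    exact (h.conj_rr s).trans (isConj_iff.mpr ⟨_, cj ψ e⟩)
  obtain ⟨W, -, -, wp, wg⟩ := exists_W
  have hP : W.map ψ ≤ U := by
    rintro _ ⟨σ, -, rfl⟩
    exact ⟨mem_centralizer_singleton_iff.mpr (s.cr σ),
      nz _ (by rw [s.cz, mul_inv_cancel_right]; exact mem_zpowers _)⟩
  have hodd := relIndex_modEq_of_pgroup (wp.map ψ) hP (hP.trans inf_le_left) fun g hg e =>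
    ⟨hg, (normalizer _).inv_mem_iff.mp (nz _ (h.cent_V s (by rw [conj_pow, h.par.cube V27_three]; group)
      fun σ hσ => by
        rcases key _ (e _ ⟨σ, wg σ hσ, rfl⟩)
          ((cr σ hσ).trans (isConj_iff.mpr ⟨g, rfl⟩)) with e' | e'
        · calc _ = g⁻¹ * (g * ψ σ * g⁻¹ * 𝓩) * g := by group
            _ = _ := by rw [e']; group
        · rw [mul_inv_eq_iff_eq_mul, ← mem_centralizer_singleton_iff.mp hg, mul_right_inj] at e'
          have := s.cz σ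
          rw [e', ← mul_inv_eq_iff_eq_mul, h.rz] at this
          exact absurd this zz))⟩
  obtain ⟨V, hV⟩ := exists_transfer_cent (φ.comp (inclusion inf_le_right)) h.rr rU inf_le_left hodd
    fun g hg => (key _ hg (isConj_iff.mpr ⟨g⁻¹, by rw [inv_inv]⟩)).imp_left (hφ ⟨_, hg.2⟩).mpr
  have h1 : V 𝓡 ≠ 1 := fun e => zz (by
    rw [← h.rz, (hφ ⟨_, rU.2⟩).mp (hV.symm.trans e), mul_inv_cancel_right])
  obtain ⟨-, -, ⟨r7, r8, r9⟩, -⟩ := relD
  obtain ⟨y, e, h2, h3, h4⟩ := h.model (g := ψ u) (α := (0, 1, 0)) (β := (1, 0, 0)) (ζ := (0, 0, 1))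
    (by rw [← s.pd, ← s.pc, cj ψ r8])
    (by rw [← s.pd, ← s.pc, cj ψ (show u * d * u⁻¹ = c by decide +kernel)])
    (by rw [s.cz, mul_inv_cancel_right])
  have h5 := h.V_eq V (y := y) (okD _)
  have h6 : ∀ σ ∈ [sw 0 3, sw 1 4, sw 2 5], V (ψ σ) = V 𝓡 := fun σ hσ =>
    isConj_iff_eq.mp (V.map_isConj (cr σ hσ)).symm
  obtain ⟨h7, h8⟩ := eq_T y h2 h3 h4
  rw [h7, h8, e, r9, map_mul, map_mul, map_mul, map_mul, h6 _ (by simp), h6 _ (by simp),
    h6 _ (by simp), (by decide : ∀ a : Z2, a * a = 1), one_mul, cond_true, cond_false, mul_one] at h5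
  exact h.fin (h5 ▸ h1) fun e => h1 (by rw [h.V_eq V (okD _), e]; rfl)

end Cfsg.Agent.Char.B3
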