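import Cfsg.Agent.Char.B3Six
import Cfsg.Agent.Char.Tri

/-!
# Computations for `S₃ ≀ S₃` and `S₆`
-/

set_option autoImplicit false
set_option synthInstance.maxSize 4096

namespace Cfsg.Agent.Char

open Subgroup Local Equiv
open scoped Pointwise

variable {G : Type*} [Group G]

theorem relIndex_modEq_of_pgroup [Finite G] {P U Y : Subgroup G} {p : ℕ} [Fact p.Prime]
    (hP : IsPGroup p P) (hU : P ≤ U) (hY : P ≤ Y)
    (h : ∀ g ∈ Y, (∀ x ∈ P, g * x * g⁻¹ ∈ U) → g ∈ U) : U.relIndex Y ≡ 1 [MOD p] := by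
  refine ((hP.comap_subtype (K := Y)).card_modEq_card_fixedPoints (Y ⧸ U.subgroupOf Y)).trans ?_
  rw [Nat.card_eq_one_iff_exists.mpr]
  refine ⟨⟨((1 : Y) : Y ⧸ U.subgroupOf Y), fun j => ?_⟩, ?_⟩
  · change (((j : Y) * 1 : Y) : Y ⧸ U.subgroupOf Y) = _
    rw [QuotientGroup.eq]
    simpa [mem_subgroupOf] using hU j.2
  · rintro ⟨q, hq⟩
    obtain ⟨g, rfl⟩ := QuotientGroup.mk_surjective q
    ext1
    change (g : Y ⧸ U.subgroupOf Y) = (1 : Y)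
    rw [QuotientGroup.eq, mul_one]
    refine h _ (inv_mem g.2) fun x hx => ?_
    have h2 : ((⟨x, hY hx⟩ * g : Y) : Y ⧸ U.subgroupOf Y) = g := hq ⟨⟨x, hY hx⟩, hx⟩
    rw [eq_comm, QuotientGroup.eq] at h2
    simpa [mul_assoc, mem_subgroupOf] using h2

theorem exists_sign [Finite G] {z : G} (hz : orderOf z = 3) :
    ∃ φ : normalizer (zpowers z : Set G) →* B3.Z2, ∀ g, φ g = 1 ↔ (g : G) * z = z * g := by
  classical
  have h1 : z⁻¹ ≠ z := fun e => by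
    have := orderOf_dvd_of_pow_eq_one (x := z) (n := 2) (by rw [pow_two, ← inv_eq_iff_mul_eq_one, e])
    rw [hz] at this
    omega
  have h2 : ∀ g : normalizer (zpowers z : Set G), (g : G) * z * (g : G)⁻¹ ≠ z →
      (g : G) * z * (g : G)⁻¹ = z⁻¹ := fun g e => by
    rcases mem_zpowers_three hz (conj_mem_of_mem_normalizer g.2 (mem_zpowers z)) with e' | e' | e'
    · rw [conj_eq_one_iff.mp e', orderOf_one] at hz
      omega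
    exacts [absurd e' e, e']
  refine ⟨MonoidHom.mk' (fun g => B3.sgn !decide ((g : G) * z * (g : G)⁻¹ = z)) fun a b => ?_,
    fun g => ?_⟩
  · have h3 : ((a * b : normalizer (zpowers z : Set G)) : G) * z * (↑(a * b) : G)⁻¹ =
      a * (b * z * (b : G)⁻¹) * (a : G)⁻¹ := by simp [mul_assoc]
    rw [h3]
    by_cases ea : (a : G) * z * (a : G)⁻¹ = z <;> by_cases eb : (b : G) * z * (b : G)⁻¹ = z
    · simp [ea, eb, B3.sgn]
    · rw [h2 b eb, ← conj_inv, ea]; simp [h1, B3.sgn]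
    · simp [ea, eb, B3.sgn]
    · rw [h2 b eb, ← conj_inv, h2 a ea]; simp [h1, B3.sgn]; rfl
  · rw [MonoidHom.mk'_apply, ← mul_inv_eq_iff_eq_mul]
    by_cases e : (g : G) * z * (g : G)⁻¹ = z <;> simp [e, B3.sgn]

namespace B3

open A9 (cls3)
open S9 (P6 c d sw η u)

attribute [local irreducible] S9.c S9.d S9.r S9.η S9.u

theorem inv_cls : ∀ σ : P6, σ * σ = 1 → σ = 1 ∨ ∃ τ, τ * σ * τ⁻¹ = S9.r ∨ τ * σ * τ⁻¹ = η ∨
    τ * σ * τ⁻¹ = u := by decide +kernel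

theorem cent_η : ∀ σ : P6, σ * η = η * σ → σ ^ 4 = 1 := by decide +kernel

theorem relD : (S9.r * c * S9.r⁻¹ = c⁻¹ ∧ S9.r * d * S9.r⁻¹ = d ∧ S9.r * S9.r = 1) ∧
    (η * c * η⁻¹ = c⁻¹ ∧ η * d * η⁻¹ = d⁻¹ ∧ η * η = 1) ∧
    (u * (c * d) = c * d * u ∧ u * c * u⁻¹ = d ∧ u = sw 0 3 * sw 1 4 * sw 2 5) ∧
    ∀ σ ∈ [sw 0 3, sw 1 4, sw 2 5], σ ≠ 1 ∧ ∃ τ, τ * S9.r * τ⁻¹ = σ := by decide +kernel

theorem cent_W : ∀ σ : P6, σ * sw 0 3 = sw 0 3 * σ → σ * sw 1 4 = sw 1 4 * σ →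
    σ * sw 2 5 = sw 2 5 * σ → σ * σ = 1 ∧ c * d * σ * (c * d)⁻¹ * sw 0 3 =
      sw 0 3 * (c * d * σ * (c * d)⁻¹) ∧ c * d * σ * (c * d)⁻¹ * sw 1 4 =
      sw 1 4 * (c * d * σ * (c * d)⁻¹) ∧ c * d * σ * (c * d)⁻¹ * sw 2 5 =
      sw 2 5 * (c * d * σ * (c * d)⁻¹) := by decide +kernel

theorem sw_comm : ∀ σ ∈ [sw 0 3, sw 1 4, sw 2 5], σ * sw 0 3 = sw 0 3 * σ ∧
    σ * sw 1 4 = sw 1 4 * σ ∧ σ * sw 2 5 = sw 2 5 * σ := by decide +kernel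

theorem cent_r : ∀ y : X, mx y (rI, 0) = mx (rI, 0) y → pw y 12 = (i0, 0) ∧
    (pw (pw y 4) 3 = (i0, 0) → (pw y 4).1 = i0) := by decide +kernel

theorem conj_r : ∀ i k, mi i rI = mi k i → act k (1, 1, 0) = (1, 1, 0) →
    act k (1, 0, 0) = (1, 0, 0) := by decide +kernel

theorem diag_inv : ∀ y : X, mx y y = (i0, 0) → act y.1 (1, 0, 0) = -(1, 0, 0) →
    (act y.1 (0, 1, 0) = (0, 1, 0) → (act y.1 (0, 0, 1) = (0, 0, 1) →
      ∃ z, mx z (rI, 0) = mx y z) ∧ (act y.1 (0, 0, 1) = -(0, 0, 1) → ∃ z, mx z (dI, 0) = mx y z)) ∧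
    (act y.1 (0, 1, 0) = -(0, 1, 0) → (act y.1 (0, 0, 1) = (0, 0, 1) →
      ∃ z, mx z (dI, 0) = mx y z) ∧ (act y.1 (0, 0, 1) = -(0, 0, 1) →
      ∃ z, mx z y = mx y z ∧ pw z 3 = (i0, 0) ∧ z.1 ≠ i0)) := by decide +kernel

theorem eq_T : ∀ y : X, act y.1 (1, 0, 0) = (0, 1, 0) → act y.1 (0, 1, 0) = (1, 0, 0) →
    act y.1 (0, 0, 1) = (0, 0, 1) → y.1.2.1 = true ∧ pty y.1 = false := by decide +kernel

end B3

end Cfsg.Agent.Char
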