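import Cfsg.Agent.Char.S6Q

/-!
# Applications of the `Z*`-theorem to centralisers of involutions
-/

set_option autoImplicit false

namespace Cfsg.Agent.Char

open Subgroup Local
open scoped Pointwise

variable {G : Type*} [Group G] [Finite G]

theorem mem_core_of_quot {t : G} (hc : ∀ g, g * t = t * g) (ht : t * t = 1) {Q : Type*} [Group Q]
    [Finite Q] {f : G →* Q} (hk : ∀ g, f g = 1 ↔ g = 1 ∨ g = t) {x : G}
    (hx : f x ∈ Cfsg.pPrimeCore 2 Q) :
    x ∈ Cfsg.pPrimeCore 2 G ∨ x * t ∈ Cfsg.pPrimeCore 2 G := by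
  have h1 : (Nat.card (Cfsg.pPrimeCore 2 Q)).Coprime 2 := coprime_card_pPrimeCore 2
  have hn : (Cfsg.pPrimeCore 2 Q).Normal := inferInstance
  generalize Cfsg.pPrimeCore 2 Q = O at h1 hn hx
  set M := O.comap f
  have h2 : (center M).index.Coprime 2 := by
    refine Nat.Coprime.coprime_dvd_left ((index_dvd_of_le (H := (f.subgroupComap O).ker)
      fun g hg => mem_center_iff.mpr fun k => Subtype.ext ?_).trans ?_) h1
    · rcases (hk g).mp (congrArg Subtype.val hg) with e | e <;> simp [e, hc]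
    · rw [index_ker]; exact card_subgroup_dvd_card _
  have h3 : ∀ x ∈ M, ∀ y ∈ M, (x * y) ^ ((center M).index * Nat.card O) =
      x ^ ((center M).index * Nat.card O) * y ^ ((center M).index * Nat.card O) := by
    intro x hx y hy
    have e1 := congrArg (fun g : center M => ((g : M) : G))
      ((MonoidHom.transferCenterPow M).map_mul ⟨x, hx⟩ ⟨y, hy⟩)
    have e2 := congrArg Subtype.val (mem_center_iff.mp ((center M).pow_index_mem ⟨y, hy⟩)
      (⟨x, hx⟩ ^ (center M).index))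
    simp only [coe_mul, MonoidHom.transferCenterPow_apply, SubmonoidClass.coe_pow] at e1 e2
    rw [pow_mul, pow_mul, pow_mul, e1, Commute.mul_pow e2]
  have h4 := Nat.Coprime.mul_left h2 h1
  have h5 : ∀ x ∈ M, f (x ^ ((center M).index * Nat.card O)) = 1 := fun x hx => by
    rw [map_pow, mul_comm, pow_mul, orderOf_dvd_iff_pow_eq_one.mp (orderOf_dvd_card_of_mem (H := O) hx),
      one_pow]
  generalize (center M).index * Nat.card O = n at h3 h4 h5
  let K : Subgroup G :=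
    { carrier := {x | x ∈ M ∧ x ^ n = 1}
      one_mem' := ⟨one_mem _, one_pow _⟩
      mul_mem' := fun {x y} hx hy => ⟨mul_mem hx.1 hy.1, by rw [h3 x hx.1 y hy.1, hx.2, hy.2, one_mul]⟩
      inv_mem' := fun {x} hx => ⟨inv_mem hx.1, by rw [inv_pow, hx.2, inv_one]⟩ }
  have hK : K ≤ Cfsg.pPrimeCore 2 G := le_pPrimeCore ⟨fun x hx g =>
    ⟨(hn.comap f).conj_mem x hx.1 g, by rw [conj_pow, hx.2]; group⟩⟩ (by
      rw [Nat.coprime_comm, Nat.prime_two.coprime_iff_not_dvd]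
      intro h
      obtain ⟨y, hy, e⟩ := exists_mem_orderOf_eq_of_dvd_card Nat.prime_two h
      have := Nat.Coprime.coprime_dvd_left (orderOf_dvd_of_pow_eq_one hy.2) h4
      rw [e] at this
      exact absurd this (by decide))
  rcases (hk _).mp (h5 x hx) with e | e
  · exact Or.inl (hK ⟨hx, e⟩)
  · obtain ⟨k, rfl⟩ := Nat.coprime_two_right.mp h4
    refine Or.inr (hK ⟨mul_mem hx (show f t ∈ O from (hk t).mpr (Or.inr rfl) ▸ one_mem _), ?_⟩)
    rw [Commute.mul_pow (hc x), e, pow_succ, pow_mul, pow_two, ht, one_pow, one_mul, ht]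

theorem zstar_central {t v : G} (hc : ∀ g, g * t = t * g) (ht : t * t = 1) (hv : v * v = 1)
    (hi : ∀ g, (g * v * g⁻¹ * v * (g * v * g⁻¹)⁻¹ = v ∨ g * v * g⁻¹ * v * (g * v * g⁻¹)⁻¹ = t * v) →
      g * v * g⁻¹ = v ∨ g * v * g⁻¹ = t * v) (g : G) :
    g * v * g⁻¹ * v⁻¹ ∈ Cfsg.pPrimeCore 2 G ∨ g * v * g⁻¹ * v⁻¹ * t ∈ Cfsg.pPrimeCore 2 G := by
  obtain ⟨N, hN, hk⟩ := exists_quot_inv hc ht
  have hf := QuotientGroup.mk'_surjective N
  generalize QuotientGroup.mk' N = f at hk hf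
  have hz := Block.zstar (t := f v) (by rw [← map_mul, hv, map_one]) fun x hx => by
    obtain ⟨x, rfl⟩ := hf x
    have e1 := eq_or_of_ker hk (a := x * v * x⁻¹ * v * (x * v * x⁻¹)⁻¹) (b := v) (by
      simp only [map_mul, map_inv]
      rw [← hx.eq]; group)
    rw [← map_inv, ← map_mul, ← map_mul]
    rcases hi x (by rwa [← hc v]) with e | e <;> rw [e]
    rw [map_mul, (hk t).mpr (Or.inr rfl), one_mul]
  exact mem_core_of_quot hc ht hk (by simpa using hz (f g))

theorem cent_le_of_zstar {H : Subgroup G} {t v : G} (kl : Kl t v) (tH : t ∈ H) (vH : v ∈ H)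
    (hN : ∀ g, g * t = t * g → (g * v * g⁻¹ = v ∨ g * v * g⁻¹ = t * v) → g ∈ H)
    (h4 : ∀ g, g * t = t * g → g * v * g⁻¹ ∈ H → g * v * g⁻¹ = v ∨ g * v * g⁻¹ = t * v)
    (hO : ∀ x : centralizer ({t} : Set G), x ∈ Cfsg.pPrimeCore 2 _ → (x : G) ∈ H) {g : G}
    (hg : g * t = t * g) : g ∈ H := by
  have hm : ∀ {g}, g * t = t * g → g ∈ centralizer {t} := mem_centralizer_singleton_iff.mpr
  have hm' : ∀ g : centralizer ({t} : Set G), (g : G) * t = t * g :=
    fun g => mem_centralizer_singleton_iff.mp g.2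
  refine hN g hg (h4 g hg ?_)
  rcases zstar_central (t := (⟨t, hm rfl⟩ : centralizer ({t} : Set G))) (v := ⟨v, hm kl.comm.symm⟩)
    (fun g => Subtype.ext (hm' g)) (Subtype.ext kl.pp) (Subtype.ext kl.qq) (fun k e => by
      simp only [Subtype.ext_iff] at e ⊢
      exact h4 k (hm' k) (hN _ (hm' (k * ⟨v, hm kl.comm.symm⟩ * k⁻¹)) e)) ⟨g, hm hg⟩ with e | e
  · simpa using mul_mem (hO _ e) vH
  · simpa using mul_mem (mul_mem (hO _ e) (inv_mem tH)) vH

theorem WC.hc_of_comm {H : Subgroup G} {c x y : G} (h : WC H c) (cH : c ∈ H) {p : ℕ} [Fact p.Prime]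
    (hp : c ^ p = 1) (hx : c * x = x * c) (hy : c * y = y * c) (e : IsConj x y) : HC H x y := by
  obtain ⟨g, rfl⟩ := isConj_iff.mp e
  have h1 : ∀ {c : G}, c ^ p = 1 → IsPGroup p (zpowers c) := fun hp =>
    IsPGroup.of_card_dvd_pow (n := 1) (by
      rw [Nat.card_zpowers, pow_one]; exact orderOf_dvd_of_pow_eq_one hp)
  obtain ⟨S, hS, h2⟩ := exists_isSylowIn_ge (N := centralizer {x}) (h1 hp)
    (zpowers_le.mpr (mem_centralizer_singleton_iff.mpr hx))
  obtain ⟨k, hk, h3⟩ := hS.exists_le_conj (Q := zpowers (g⁻¹ * c * g⁻¹⁻¹)) (h1 (by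
    rw [conj_pow, hp]; group)) (zpowers_le.mpr (mem_centralizer_singleton_iff.mpr (by
      calc _ = g⁻¹ * (c * (g * x * g⁻¹)) * g := by group
        _ = _ := by rw [hy]; group)))
  have h4 := h (k⁻¹ * g⁻¹) (by
    simpa [mul_assoc] using h.le_of_isNilpotent cH hS.isPGroup.isNilpotent (h2 (mem_zpowers c))
      (Local.mem_conj_smul_iff.mp (h3 (mem_zpowers _))))
  refine ⟨_, inv_mem h4, ?_⟩
  rw [mul_inv_rev, inv_inv, inv_inv, mul_assoc g, mem_centralizer_singleton_iff.mp hk]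
  group

end Cfsg.Agent.Char
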