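import Cfsg.Agent.Char.B3T
import Cfsg.Agent.Char.TrInv
import Cfsg.Agent.Char.ZCent
import Cfsg.Agent.FT.Final
import Cfsg.Agent.Spec.Basic

/-!
# The cases in which `3³` is normal
-/

set_option autoImplicit false
set_option synthInstance.maxSize 4096

namespace Cfsg.Agent.Char.B3

open Subgroup Local
open A9 (cls3)
open scoped Pointwise

/-- The group of order two. -/
abbrev Z2 : Type := Multiplicative (ZMod 2)

/-- A sign. -/
def sgn (b : Bool) : Z2 := bif b then Multiplicative.ofAdd 1 else 1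

/-- The parity of the number of signs. -/
def pty (i : I48) : Bool := i.2.2.1 ^^ i.2.2.2.1 ^^ i.2.2.2.2

theorem mx00 : ∀ i k, mx (i, 0) (k, 0) = (mi i k, 0) := by decide +kernel

theorem sq_dec : ∀ δ m i, ok δ m i → ok δ m (bif pty i then nI else i0) ∧ ∃ k, ok δ m k ∧
    i = mi (mi (mi k k) (bif i.2.1 then tI else i0)) (bif pty i then nI else i0) := by
  decide +kernel

theorem nonab : ∀ i, (pw (i, 0) 3).1 = i0 → i ≠ i0 → ∃ v, act i (act i v - v) ≠ act i v - v := by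
  decide +kernel

theorem to_x : ∀ v, v ≠ 0 → ∃ w, (w = (1, 1, 1) ∨ w = -(1, 1, 1)) ∧ (w = v ∨ w = act yI v - v ∨
    w = act yI (act yI v - v) - (act yI v - v)) := by decide +kernel

theorem invol : ∀ δ m y, ok δ m y.1 → mx y y = (i0, 0) → y.1 = nI ∨ y = (i0, 0) ∨
    ∃ v, v ≠ 0 ∧ ¬ xt δ v ∧ act y.1 v = v := by decide +kernel

theorem chi_mul : ∀ i k, mi i tI = mi tI i → mi k tI = mi tI k →
    sgn ((mi i k).2.1 ^^ (mi i k).2.2.1 ^^ (mi i k).2.2.2.2) =
    sgn (i.2.1 ^^ i.2.2.1 ^^ i.2.2.2.2) * sgn (k.2.1 ^^ k.2.2.1 ^^ k.2.2.2.2) := by decide +kernel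

theorem chi_inv : ∀ y : X, mx y (tI, 0) = mx (tI, 0) y → mx y y = (i0, 0) →
    sgn (y.1.2.1 ^^ y.1.2.2.1 ^^ y.1.2.2.2.2) = 1 ∨ y = (tI, 0) ∨
      ∀ i, mi y.1 i ≠ mi i tI := by decide +kernel

/-- The properties of the elements centralising `s`. -/
def CS (y : X) : Prop := act y.1 (1, 2, 0) = (1, 2, 0) ∧
    (mx y (tI, 0) = mx (tI, 0) y → y = (i0, 0) ∨ y = (sI, 0)) ∧
    (pw y 3 = (i0, 0) → ∃ k : Fin 3, y = pw (i0, 1, 2, 0) k) ∧ (pw y 3 = (i0, 0) ∨ pw y 3 = (sI, 0)) ∧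
    (pw y 2 = (i0, 0) → y = (i0, 0) ∨ y = (sI, 0))

theorem cent_st : ∀ y : X, ok false true y.1 → (y.1.2.1 ^^ pty y.1) = false →
    mx y (sI, 0) = mx (sI, 0) y → CS y := by unfold CS; decide +kernel

variable {G : Type*} [Group G] {δ m : Bool} {J : Subgroup G} {F : X → G}

local notation "𝓗" => normalizer (J : Set G)
local notation "𝓣" => F (tI, 0)

theorem M.V_J (h : M δ m J F) (V : G →* Z2) {j : G} (hj : j ∈ J) : V j = 1 :=
  (by decide : ∀ a : Z2, a ^ 3 = 1 → a = 1) _ (by rw [← map_pow, h.cube hj, map_one])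

theorem M.mul0 (h : M δ m J F) {i k : I48} (hi : ok δ m i) (hk : ok δ m k) :
    F (mi i k, 0) = F (i, 0) * F (k, 0) := by
  rw [← mx00, h.mul (x := (i, 0)) (y := (k, 0)) hi hk]

theorem M.V_eq (h : M δ m J F) (V : G →* Z2) {y : X} (hy : ok δ m y.1) : V (F y) =
    (bif y.1.2.1 then V 𝓣 else 1) * (bif pty y.1 then V (F (nI, 0)) else 1) := by
  obtain ⟨h1, k, hk, e⟩ := sq_dec δ m _ hy
  have h2 : ok δ m (bif y.1.2.1 then tI else i0) := by cases y.1.2.1; exacts [ok0, okt]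
  rw [h.split hy, map_mul, h.V_J V (h.par.mem' _), one_mul]
  nth_rewrite 1 [e]
  rw [h.mul0 (ok_mi _ _ _ _ (ok_mi _ _ _ _ hk hk) h2) h1, h.mul0 (ok_mi _ _ _ _ hk hk) h2,
    h.mul0 hk hk, map_mul, map_mul, map_mul, (by decide : ∀ a : Z2, a * a = 1), one_mul]
  cases y.1.2.1 <;> cases pty y.1 <;> simp [h.one]

theorem M.wc_of (h : M δ m J F) {u v : V27} {i : I48} (hi : ok δ m i)
    (e : act i u = v ∨ -act i u = v) (hC : WC 𝓗 (F (i0, u))) : WC 𝓗 (F (i0, v)) := by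
  have h1 := hC.of_hc ⟨_, h.mem' (x := (i, 0)) hi, h.conj_j (x := (i, 0)) hi u⟩
  rcases e with rfl | rfl
  · exact h1
  · intro g hg
    rw [h.par.neg, ← conj_inv, inv_mem_iff] at hg
    exact h1 g hg

variable [Finite G]

omit [Finite G] in
theorem two_mul_card_ker {V : G →* Z2} {g : G} (hg : V g ≠ 1) :
    2 * Nat.card V.ker = Nat.card G := by
  rw [← V.ker.index_mul_card, index_ker, MonoidHom.range_eq_top.mpr fun a => ?_]
  · simp
  · rcases (by decide : ∀ a b : Z2, b ≠ 1 → a = 1 ∨ a = b) a _ hg with rfl | rfl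
    exacts [⟨1, map_one V⟩, ⟨g, rfl⟩]

theorem M.normal_of_odd (h : M δ m J F) {L : Subgroup G} [L.Normal] (hL : L ≠ ⊥)
    (ho : Odd (Nat.card L)) : J.Normal := by
  obtain ⟨Q, p, hn, h1, -, hp, h2, h3⟩ := Spec.exists_elementary_normal L hL
    (FT.oddOrder.subgroup L ho)
  have := Fact.mk hp
  have hQ : IsPGroup p Q := fun q => ⟨1, Subtype.ext (by simpa using h3 q q.2)⟩
  obtain rfl : p = 3 := by
    by_contra e
    exact h1 (h.sig Q ((Nat.Prime.coprime_iff_not_dvd Nat.prime_three).mp (coprime_card_of_isPGroup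
      hQ ((Nat.coprime_primes Nat.prime_three hp).mpr (Ne.symm e)))) (le_normalizer_of_normal' _ _))
  have h4 : Q ≤ J := fun q hq => by
    obtain ⟨y, hy, rfl⟩ := (h.mem q).mp (h.le_of_pgroup (h.pgrp.to_sup_of_normal_right hQ)
      le_sup_left (mem_sup_right hq))
    rw [h.mem_J hy]
    by_contra e
    obtain ⟨v, hv⟩ := nonab y.1 (congrArg Prod.fst ((h.pw_eq hy).mpr (h3 _ hq)) :) e
    refine hv ((h.act_eq hy).mp (h2 _ hq _ ?_))
    have := mul_mem hq (hn.conj_mem _ (inv_mem hq) (F (i0, v)))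
    rwa [← mul_assoc, ← mul_assoc, h.conj_j hy, ← h.par.neg, ← h.par.add, ← sub_eq_add_neg] at this
  obtain ⟨⟨q, hq⟩, q1⟩ := ne_bot_iff_exists_ne_one.mp h1
  obtain ⟨v, rfl⟩ := (h.par.mem q).mp (h4 hq)
  have h5 : ∀ v, F (i0, v) ∈ Q → F (i0, act yI v - v) ∈ Q := fun v hv => by
    rw [sub_eq_add_neg, h.par.add, h.par.neg, ← h.conj_j (x := (yI, 0)) oky]
    exact mul_mem (hn.conj_mem _ hv _) (inv_mem hv)
  obtain ⟨w, h6, h7⟩ := to_x v fun e => q1 (Subtype.ext ((congrArg (fun v => F (i0, v)) e).trans h.one))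
  have h8 : F (i0, w) ∈ Q := by
    rcases h7 with rfl | rfl | rfl
    exacts [hq, h5 _ hq, h5 _ (h5 _ hq)]
  refine normalizer_eq_top_iff.mp (eq_top_iff.mpr fun g _ => h.emb_j (h.par.mem' w)
    (h.cent_of ok0 (u := (1, 1, 1)) (h6.imp Eq.symm Eq.symm) h.cx) (h4 (hn.conj_mem _ h8 g)))

theorem M.normal_of_isolated (h : M δ m J F) (V : G →* Z2) {y : X} (hy : ok δ m y.1)
    (h1 : V (F y) = 1) (h2 : mx y y = (i0, 0)) {v : V27} (h3 : act y.1 v ≠ v)
    (iso : ∀ g, V g = 1 → F y * (g * F y * g⁻¹) = g * F y * g⁻¹ * F y → g * F y * g⁻¹ = F y) :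
    J.Normal := by
  have hz := Block.zstar (t := (⟨F y, h1⟩ : V.ker)) (Subtype.ext ((h.sq hy).mpr h2))
    (fun g e => Subtype.ext (iso g g.2 (congrArg Subtype.val e))) ⟨_, h.V_J V (h.par.mem' v)⟩
  have := Block.pPrimeCore_characteristic (G := V.ker) 2
  refine h.normal_of_odd (L := (Cfsg.pPrimeCore 2 V.ker).map V.ker.subtype) (fun e => h3 ?_) (by
    rw [card_map_of_injective V.ker.subtype_injective, ← Nat.coprime_two_right]
    exact coprime_card_pPrimeCore 2)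
  have h4 := mem_bot.mp (e.le ⟨_, hz, rfl⟩)
  exact (h.act_eq hy).mp (mul_inv_eq_iff_eq_mul.mp (mul_inv_eq_one.mp h4)).symm

variable (h : M δ m J F) (hall : ∀ v, v ≠ 0 → centralizer {F (i0, v)} ≤ normalizer (J : Set G))
include h hall

theorem M.wc_t' {g : G} {y : X} (hy : ok δ m y.1) (e : g * 𝓣 * g⁻¹ = F y) : g ∈ 𝓗 ∨ y.1 = nI := by
  rcases invol δ m y hy ((h.sq hy).mp (by rw [← e, conj_mul, h.tt]; group)) with
    e' | rfl | ⟨v, h0, h1, h2⟩
  · exact Or.inr e'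
  · exact absurd (conj_eq_one_iff.mp (e.trans h.one)) (h.ne_one okt (by decide))
  rw [← h.act_eq hy, ← e] at h2
  refine Or.inl (inv_mem_iff.mp (h.wc_j h0 h1 (hall v h0) g⁻¹ (h.cent_tt hall
    (mem_centralizer_singleton_iff.mpr ?_))))
  calc _ = g⁻¹ * (F (i0, v) * (g * 𝓣 * g⁻¹)) * g := by group
    _ = _ := by rw [← h2]; group

theorem M.exists_V : ∃ V : G →* Z2, V 𝓣 ≠ 1 := by
  have tC : 𝓣 ∈ centralizer {𝓣} := mem_centralizer_singleton_iff.mpr rfl
  obtain ⟨φ, hφ⟩ := h.exists_hom (centralizer {𝓣}).subtype (fun i => mi i tI = mi tI i)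
    (fun g => (h.stab_t (h.cent_tt hall g.2) g.2).imp fun y hy =>
      ⟨hy.1, congrArg Prod.fst hy.2.1, hy.2.2⟩)
    (fun i => sgn (i.2.1 ^^ i.2.2.1 ^^ i.2.2.2.2)) chi_mul
  obtain ⟨V, hV⟩ := exists_transfer_cent φ h.tt tC le_rfl (by simp) fun g hg => by
    obtain ⟨y, hy, h1, e⟩ := h.stab_t (h.cent_tt hall hg) hg
    rw [hφ ⟨_, hg⟩ y hy e, ← e]
    rcases chi_inv y h1 ((h.sq hy).mp (by
      rw [e]
      calc _ = g⁻¹ * (𝓣 * 𝓣) * g := by simp [mul_assoc]
        _ = 1 := by rw [h.tt]; group)) with e' | rfl | e'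
    · exact Or.inl e'
    · exact Or.inr rfl
    rcases h.wc_t' hall (g := g⁻¹) hy (by rw [e, inv_inv]) with h2 | h2
    · obtain ⟨z, hz, h3⟩ := (h.mem _).mp h2
      exact absurd (congrArg Prod.fst ((h.conj_iff (x := (tI, 0)) okt hy hz).mp
        (by rw [h3, e, inv_inv]))).symm
        (e' z.1)
    · exact Or.inl (by rw [h2]; rfl)
  exact ⟨V, by rw [hV, hφ ⟨_, tC⟩ (tI, 0) okt rfl]; decide⟩

theorem M.wc_t {V : G →* Z2} (hV : V 𝓣 ≠ 1) (hn : m = true → V (F (nI, 0)) = 1) : WC 𝓗 𝓣 :=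
  fun g hg => by
    obtain ⟨y, hy, e⟩ := (h.mem _).mp hg
    refine (h.wc_t' hall hy e.symm).resolve_right fun e' => hV ?_
    have h1 := h.V_eq V hy
    rw [e'] at hy h1
    rw [e, map_mul, map_mul, map_inv, mul_inv_cancel_comm] at h1
    rw [h1, show (bif pty nI then V (F (nI, 0)) else 1) = 1 from hn (by
      revert hy; cases δ <;> cases m <;> decide)]
    rfl

theorem M.index_odd (hw : WC 𝓗 𝓣) : (𝓗).index % 2 = 1 :=
  index_modEq_of_conj_mem (p := 2) (h.mem' okt) (by rw [pow_two, h.tt]) hw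

theorem M.normal_A (hδ : δ = false) (hm : m = false) : J.Normal := by
  subst hδ hm
  obtain ⟨V, hV⟩ := h.exists_V hall
  have h1 := h.index_odd hall (h.wc_t hall hV (by simp))
  have h2 := two_mul_card_ker hV
  have h3 := (𝓗).card_mul_index
  rw [show Nat.card 𝓗 = 162 from (h.card_filter _ (fun _ => True) (fun _ => id)
    (fun x hx => by simp [h.mem' hx])).trans (by decide +kernel)] at h3
  exact h.normal_of_odd (L := V.ker) (fun e => h.par.ne_one (v := (1, 1, 1)) (by decide)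
    (mem_bot.mp (e.le (h.V_J V (h.par.mem' _))))) (Nat.odd_iff.mpr (by omega))

theorem M.normal_B (hδ : δ = false) (hm : m = true) : J.Normal := by
  subst hδ hm
  obtain ⟨V, hV⟩ := h.exists_V hall
  have hn : ok false true nI := rfl
  have hs : ok false true sI := rfl
  by_cases h0 : V (F (nI, 0)) = 1
  · have h1 := h.index_odd hall (h.wc_t hall hV fun _ => h0)
    have h2 := two_mul_card_ker hV
    have h3 := (𝓗).card_mul_index
    rw [show Nat.card 𝓗 = 324 from (h.card_filter _ (fun _ => True) (fun _ => id)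
      (fun x hx => by simp [h.mem' hx])).trans (by decide +kernel)] at h3
    refine h.normal_of_isolated V (y := (nI, 0)) hn h0 rfl (v := (1, 1, 1)) (by decide)
      fun g hg e => ?_
    have n1 := h.ne_one (x := (nI, 0)) hn (by decide)
    have nn := (h.sq (y := (nI, 0)) hn).mpr rfl
    have kl : Kl (F (nI, 0)) (g * F (nI, 0) * g⁻¹) := ⟨nn, by rw [conj_mul, nn]; group, e⟩
    have n2 : g * F (nI, 0) * g⁻¹ ≠ 1 := fun e => n1 (conj_eq_one_iff.mp e)
    have h4 := card_dvd_of_le (show kl.V ≤ V.ker by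
      rintro _ (rfl | rfl | rfl | rfl) <;> simp [MonoidHom.mem_ker, h0])
    by_contra h5
    generalize g * F (nI, 0) * g⁻¹ = q at *
    generalize F (nI, 0) = p at *
    have h6 : p * q ≠ 1 := fun e => h5 (by rw [← mul_right_inj p, e, nn])
    rw [show Nat.card kl.V = Set.ncard {1, p, q, p * q} from rfl, Set.ncard_insert_of_notMem
      (by simp [n1.symm, n2.symm, h6.symm]), Set.ncard_insert_of_notMem (by simp [n2, Ne.symm h5]),
      Set.ncard_pair (by simpa using n1)] at h4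
    omega
  have hV' : ∀ {y : X}, ok false true y.1 → (V (F y) = 1 ↔ (y.1.2.1 ^^ pty y.1) = false) := by
    intro y hy
    rw [h.V_eq V hy]
    generalize V 𝓣 = a at *
    generalize V (F (nI, 0)) = b at *
    cases y.1.2.1 <;> cases pty y.1 <;> revert a b <;> decide
  have ss := (h.sq (y := (sI, 0)) hs).mpr rfl
  have sV := (hV' (y := (sI, 0)) hs).mpr rfl
  set Y := centralizer {F (sI, 0)} ⊓ V.ker with hY
  have jY : F (i0, 1, 2, 0) ∈ Y := ⟨((h.mem_Cj hs).mpr rfl).2, h.V_J V (h.par.mem' _)⟩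
  have wj := h.wc_j (v := (1, 2, 0)) (by decide) (by decide) (hall _ (by decide))
  have j3 := h.ord (v := (1, 2, 0)) (by decide)
  have key : ∀ g ∈ Y, g ∈ 𝓗 → ∃ y, ok false true y.1 ∧ F y = g ∧ CS y := fun g hg e => by
    obtain ⟨y, hy, rfl⟩ := (h.mem g).mp e
    exact ⟨y, hy, rfl, cent_st y hy ((hV' hy).mp hg.2)
      ((h.cm hy hs).mp (mem_centralizer_singleton_iff.mp hg.1))⟩
  have jH := h.mem' (x := (i0, 1, 2, 0)) ok0
  have hP : IsSylowIn 3 (zpowers (F (i0, 1, 2, 0))) Y := isSylowIn_of_maximal (zpowers_le.mpr jY)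
    (isPGroup_zpowers_of_pow (k := 1) (h.par.cube V27_three _)) fun R hR h1 h2 =>
      le_antisymm (fun r hr => by
        obtain ⟨y, hy, rfl, -, -, h3, h4, -⟩ := key r (h2 hr) (wj.le_of_isNilpotent jH hR.isNilpotent
          (h1 (mem_zpowers _)) hr)
        obtain ⟨k, hk⟩ := hR ⟨_, hr⟩
        obtain ⟨l, rfl⟩ := h3 (h4.resolve_right fun e => h.ne_one (x := (sI, 0)) hs (by decide)
          (eq_one_of_pow_eq_one_of_coprime (m := 2) (n := 3 ^ k) (by norm_num [Nat.coprime_two_left, Odd.pow])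
            (by rw [pow_two, ss]) (by
              rw [← e, h.pow hy, ← pow_mul, mul_comm, pow_mul,
                show F y ^ 3 ^ k = 1 from congrArg Subtype.val hk, one_pow])))
        rw [h.pow ok0]
        exact pow_mem (mem_zpowers _) _) h1
  have npc := hasNPC_of_fusion hP fun x hx g hg e => ⟨1, one_mem _, by
    have h1 : g * F (i0, 1, 2, 0) * g⁻¹ ∈ 𝓗 → g * F (i0, 1, 2, 0) * g⁻¹ = F (i0, 1, 2, 0) :=
      fun e => by
        obtain ⟨y, hy, rfl, h1, -⟩ := key g hg (wj g e)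
        rw [h.conj_j hy, h1]
    rw [one_mul, inv_one, mul_one]
    rcases mem_zpowers_three j3 hx with rfl | rfl | rfl
    · simp
    · exact h1 (zpowers_le.mpr jH e)
    · rw [← conj_inv] at e ⊢
      rw [h1 (inv_mem_iff.mp (zpowers_le.mpr jH e))]⟩
  have tY : 𝓣 ∈ normalizer (Y : Set G) := mem_normalizer_of_conj_mem fun g hg =>
    ⟨conj_mem_of_mem_normalizer (le_normalizer (mem_centralizer_singleton_iff.mpr
      ((h.cm (x := (tI, 0)) (y := (sI, 0)) okt hs).mpr rfl))) hg.1,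
      (inferInstance : V.ker.Normal).conj_mem _ hg.2 _⟩
  have c2 : ∀ {w : G}, w * w = 1 → (orderOf w).Coprime 3 := fun e =>
    Nat.Coprime.coprime_dvd_left (orderOf_dvd_of_pow_eq_one (n := 2) (by rwa [pow_two]))
      (by norm_num)
  refine h.normal_of_isolated V (y := (sI, 0)) hs sV rfl (v := (1, 1, 1)) (by decide)
    fun g hg e => ?_
  have ww : g * F (sI, 0) * g⁻¹ * (g * F (sI, 0) * g⁻¹) = 1 := by rw [conj_mul, ss]; group
  have s1 := h.ne_one (x := (sI, 0)) hs (by decide)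
  refine (unique_inv_of_sym3 (K := npc.compl) (t := 𝓣) (j := F (i0, 1, 2, 0))
    ⟨⟨mem_centralizer_singleton_iff.mpr rfl, sV⟩, c2 ss⟩ ss s1
    (fun k hk => mem_centralizer_singleton_iff.mp hk.1.1) h.tt (h.par.cube V27_three _)
    (by rw [h.conj_j (x := (tI, 0)) okt, ← h.par.neg]; rfl) (mem_centralizer_singleton_iff.mp jY.1)
    (fun k hk => conj_mem_of_mem_normalizer (npc.normalizer_le tY) hk)
    (fun k hk => conj_mem_of_mem_normalizer (npc.le_normalizer jY) hk) (fun k hk e => ?_)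
    (fun k hk e => ?_) ⟨⟨mem_centralizer_singleton_iff.mpr e.symm, by
      simp [MonoidHom.mem_ker, sV]⟩, c2 ww⟩ ww).resolve_left fun e => s1 (conj_eq_one_iff.mp e)
  · obtain ⟨y, hy, rfl, -, h1, -⟩ := key k hk.1
      (h.cent_tt hall (mem_centralizer_singleton_iff.mpr e.symm))
    exact (h1 ((h.cm hy okt).mp e.symm)).imp (fun e => by rw [e, h.one]) (congrArg F)
  · obtain ⟨y, hy, rfl, -, -, -, h1, h2⟩ := key k hk.1 (wj.cent jH e.symm)
    refine (h2 ((h.pw_eq hy).mpr (orderOf_dvd_iff_pow_eq_one.mp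
      (hk.2.dvd_of_dvd_mul_left (n := 2) (orderOf_dvd_of_pow_eq_one ?_))))).imp
      (fun e => by rw [e, h.one]) (congrArg F)
    rw [pow_mul, ← h.pow hy]
    rcases h1 with e | e <;> rw [e]
    · rw [h.one, one_pow]
    · rw [pow_two, ss]

end Cfsg.Agent.Char.B3
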