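import Cfsg.Agent.Char.B3C
import Cfsg.Agent.Char.A9Fin
import Cfsg.Agent.Char.Sym9Rec

/-!
# The case in which the normaliser of `3³` is `S₃ ≀ S₃`, the final step
-/

set_option autoImplicit false
set_option synthInstance.maxSize 4096

namespace Cfsg.Agent.Char.B3

open Subgroup Local
open A9 (cls3)
open scoped Pointwise

/-- The even matrices. -/
def ev : A9.I24 → I48
  | (ρ, ε, s, t) => (ρ, ε, s, t, s ^^ t ^^ ε)

theorem okD (i : I48) : ok true true i = true := by obtain ⟨_, _, _, _, _⟩ := i; rfl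

theorem ev_mx : ∀ i k, ev (A9.mi i k) = mi (ev i) (ev k) := by decide +kernel

theorem ev_iff : ∀ i, (i.2.1 ^^ pty i) = false ↔ ∃ k, ev k = i := by decide +kernel

theorem ev_inj : Function.Injective ev := by decide +kernel

theorem fix_R : ∀ y : X, mx y y = (i0, 0) → y.1 = nI ∨ y = (i0, 0) ∨
    (∃ i v, (v = (1, 0, 0) ∨ v = (1, 1, 0)) ∧ act y.1 (act i v) = act i v) := by decide +kernel

variable {G : Type*} [Group G] [Finite G] {J : Subgroup G} {F : X → G}

local notation "𝓗" => normalizer (J : Set G)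
local notation "𝓣" => F (tI, 0)

theorem M.fin (h : M true true J F) {V : G →* Z2} (h1 : V 𝓣 ≠ 1) (h2 : V (F (nI, 0)) ≠ 1) :
    J.Normal ∨ Nonempty (G ≃* Equiv.Perm (Fin 9)) := by
  have hV : ∀ {y : X}, F y ∈ V.ker ↔ (y.1.2.1 ^^ pty y.1) = false := by
    intro y
    rw [MonoidHom.mem_ker, h.V_eq V (okD _)]
    generalize V 𝓣 = a at *
    generalize V (F (nI, 0)) = b at *
    cases y.1.2.1 <;> cases pty y.1 <;> revert a b <;> decide
  let F' : A9.X648 → V.ker := fun x => ⟨F (ev x.1, x.2), hV.mpr ((ev_iff _).mpr ⟨_, rfl⟩)⟩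
  have hT : ∀ g, g ∈ V.ker ∨ g * 𝓣 ∈ V.ker := fun g => by
    rw [MonoidHom.mem_ker, MonoidHom.mem_ker, map_mul]
    generalize V g = a, V 𝓣 = b at *
    revert a b
    decide
  have hL : A9.Loc ((𝓗).subgroupOf V.ker) (J.subgroupOf V.ker) F' := by
    refine ⟨⟨fun x y => Subtype.ext ?_, fun x y e => ?_, fun g => ⟨fun hg => ?_, ?_⟩⟩,
      ⟨fun u v => Subtype.ext (h.par.add u v), fun u v e => h.par.inj (congrArg Subtype.val e),
        fun g => ?_⟩, fun g hg => mem_normalizer_of_conj_mem (G := G) fun j hj =>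
          hg ⟨j, h.V_J V hj⟩ hj⟩
    · exact (congrArg (fun i => F (i, _)) (ev_mx x.1 y.1)).trans
        (h.mul (x := (ev x.1, x.2)) (y := (ev y.1, y.2)) (okD _) (okD _))
    · have := h.inj (okD _) (okD _) (congrArg Subtype.val e)
      exact Prod.ext (ev_inj (congrArg Prod.fst this)) (congrArg Prod.snd this :)
    · obtain ⟨⟨i, v⟩, -, e⟩ := (h.mem _).mp hg
      obtain ⟨k, rfl⟩ := (ev_iff i).mp (hV.mp (e.symm ▸ g.2 : F (i, v) ∈ V.ker))
      exact ⟨(k, v), Subtype.ext e⟩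
    · rintro ⟨x, rfl⟩
      exact h.mem' (okD _)
    · rw [mem_subgroupOf, h.par.mem]
      exact exists_congr fun v => (Subtype.ext_iff (a1 := F' (A9.i0, v))).symm
  refine (hL.eq_top_or fun v _ => ?_).elim (fun e => ?_) fun ⟨e⟩ => ?_
  rotate_left
  · refine Or.inl (normalizer_eq_top_iff.mp (eq_top_iff.mpr fun g _ => ?_))
    rw [subgroupOf_eq_top] at e
    exact (hT g).elim (fun e' => e e') fun e' => (mul_mem_cancel_right (h.mem' okt)).mp (e e')
  · refine Or.inr (equiv_sym9 V.ker e (fun g hg => ?_) (two_mul_card_ker h1))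
    obtain ⟨v, rfl⟩ := (h.par.mem g).mp (h.cent_J fun j hj => hg j (h.V_J V hj))
    have h3 : ∀ i, (i.2.1 ^^ pty i) = false → act i v = v := fun i hi =>
      (h.act_eq (x := (i, 0)) (okD _)).mp (hg _ (hV.mpr hi)).symm
    rw [(by decide : ∀ v, act dI v = v → act eI v = v → v = 0) v (h3 _ rfl) (h3 _ rfl), h.one]
  · set Y := centralizer {F' (A9.i0, v)}
    have h3 := h.sig (((Cfsg.pPrimeCore 3 Y).map Y.subtype).map V.ker.subtype) (by
      rw [card_map_of_injective V.ker.subtype_injective, card_map_of_injective Y.subtype_injective,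
        ← Nat.Prime.coprime_iff_not_dvd Nat.prime_three]
      exact (coprime_card_pPrimeCore 3).symm) fun j hj => mem_normalizer_of_conj_mem (by
        rintro _ ⟨_, ⟨k, hk, rfl⟩, rfl⟩
        exact ⟨_, ⟨_, (inferInstance : (Cfsg.pPrimeCore 3 Y).Normal).conj_mem k hk
          ⟨⟨j, h.V_J V hj⟩, hL.le_cent (hL.par.mem' v) hj⟩, rfl⟩, rfl⟩)
    rwa [map_eq_bot_iff_of_injective _ V.ker.subtype_injective,
      map_eq_bot_iff_of_injective _ Y.subtype_injective] at h3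

theorem det_mul : ∀ i k, sgn ((mi i k).2.1 ^^ pty (mi i k)) =
    sgn (i.2.1 ^^ pty i) * sgn (k.2.1 ^^ pty k) := by decide +kernel

theorem M.caseD1 (h : M true true J F)
    (hall : ∀ v, v ≠ 0 → centralizer {F (i0, v)} ≤ normalizer (J : Set G)) :
    J.Normal ∨ Nonempty (G ≃* Equiv.Perm (Fin 9)) := by
  obtain ⟨V, hV⟩ := h.exists_V hall
  by_cases h0 : V (F (nI, 0)) = 1
  swap
  · exact h.fin hV h0
  have wt := h.wc_t hall hV fun _ => h0
  have h1 := h.index_odd hall wt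
  obtain ⟨φ, hφ⟩ := h.exists_hom (𝓗).subtype (fun _ => True)
    (fun g => ((h.mem _).mp g.2).imp fun y hy => ⟨hy.1, trivial, hy.2⟩)
    (fun i => sgn (i.2.1 ^^ pty i)) fun i k _ _ => det_mul i k
  have h2 : ∀ {y : X}, (y.1.2.1 ^^ pty y.1) = true → mx y y = (i0, 0) →
      (∀ g, g⁻¹ * F y * g ∈ 𝓗 → HC 𝓗 (F y) (g⁻¹ * F y * g) ∨ ∃ v, g⁻¹ * F y * g = F (nI, v)) →
      MonoidHom.transfer φ (F y) ≠ 1 := fun {y} e1 e2 e3 => by
    rw [transfer_inv_odd φ ((h.sq (okD _)).mpr e2) (a := sgn true) rfl (fun g hg => ?_) h1]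
    · decide
    rcases e3 g hg with ⟨k, hk, e⟩ | ⟨v, e⟩
    · simp only [← e]
      rw [map_conj_eq φ hk (h.mem' (okD _)), hφ _ y (okD _) rfl, e1]
    · exact hφ _ (nI, v) (okD _) e.symm
  have h3 := h2 (y := (rI, 0)) rfl rfl fun g hg => by
    obtain ⟨y, hy, e⟩ := (h.mem _).mp hg
    have rr := (h.sq (y := (rI, 0)) (okD _)).mpr rfl
    rcases fix_R y ((h.sq hy).mp (by
      rw [e]
      calc _ = g⁻¹ * (F (rI, 0) * F (rI, 0)) * g := by simp [mul_assoc]
        _ = 1 := by rw [rr]; group)) with e' | rfl | ⟨i, v, hv, e'⟩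
    · exact Or.inr ⟨y.2, by rw [← e, ← e']⟩
    · exact absurd (conj_eq_one_iff.mp (by rw [inv_inv, ← e, h.one]))
        (h.ne_one (x := (rI, 0)) (okD _) (by decide))
    have h4 : v ≠ 0 ∧ ¬ xt true v ∧ act rI v = v := by rcases hv with rfl | rfl <;> decide
    rw [← h.act_eq hy, ← h.conj_j (x := (i, 0)) (okD _), e] at e'
    obtain ⟨k, hk, e⟩ := (h.wc_j h4.1 h4.2.1 (hall v h4.1)).hc_of_comm (h.mem' ok0)
      (h.par.cube V27_three v) ((h.act_eq (x := (rI, 0)) (okD _)).mpr h4.2.2).symm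
      (y := (F (i, 0))⁻¹ * (g⁻¹ * F (rI, 0) * g) * F (i, 0)) (by
        calc _ = (F (i, 0))⁻¹ * (F (i, 0) * F (i0, v) * (F (i, 0))⁻¹ * (g⁻¹ * F (rI, 0) * g)) *
            F (i, 0) := by group
          _ = _ := by rw [← e']; group)
      (isConj_iff.mpr ⟨(g * F (i, 0))⁻¹, by group⟩)
    exact Or.inl ⟨F (i, 0) * k, mul_mem (h.mem' (okD _)) hk, by
      rw [mul_inv_rev, ← mul_assoc, mul_assoc _ k, mul_assoc _ (k * _), e]; group⟩
  refine h.fin (h2 (y := (tI, 0)) rfl rfl fun g hg => Or.inl ⟨g⁻¹, wt _ (by rwa [inv_inv]),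
    by rw [inv_inv]⟩) fun e => h3 ?_
  rw [h.V_eq _ (okD _), e]
  rfl

end Cfsg.Agent.Char.B3
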