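import Cfsg.Agent.Char.B3Mod
import Cfsg.Agent.P43.S33
import Cfsg.Agent.G23.Gen
import Cfsg.Agent.S3333

/-!
# The centralisers of the elements of `3³`
-/

set_option autoImplicit false
set_option synthInstance.maxSize 4096

namespace Cfsg.Agent.Char

open Subgroup Local
open scoped Pointwise

variable {G : Type*} [Group G]

theorem Param.comp {V : Type*} [AddCommGroup V] [Finite V] {J : Subgroup G} {e : V → G}
    (h : Param J e) {L : V → V} (h1 : ∀ u v, L (u + v) = L u + L v) (h2 : ∀ v, ∃ w, L w = v) :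
    Param J fun v => e (L v) :=
  ⟨fun a b => by rw [h1, h.add], h.inj.comp (Finite.injective_iff_surjective.mpr h2),
    fun g => (h.mem g).trans ⟨fun ⟨v, e1⟩ => (h2 v).imp fun _ e2 => (congrArg e e2).trans e1,
      fun ⟨_, e⟩ => ⟨_, e⟩⟩⟩

namespace B3

open A9 (cls3)

theorem refl_t : ∀ y : X, y.1 = i0 ∨ y.1 = tI → (pw y 4).1 = i0 ∧
    (act y.1 (1, 2, 0) = (1, 2, 0) → y.1 = i0) ∧ ∀ u, -u + act y.1 u = 0 ∨
      -u + act y.1 u = (1, 2, 0) ∨ -u + act y.1 u = -(1, 2, 0) := by decide +kernel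

theorem stab_j0 : ∀ y : X, ok false true y.1 → act y.1 (1, 2, 0) = (1, 2, 0) → (pw y 4).1 = i0 ∧
    (∀ u, act tI (-u + act y.1 u) = -u + act y.1 u) ∧
    ∀ u, act tI u = u → act y.1 u = u ∨ act y.1 u = -u := by decide +kernel

theorem reps : ∀ δ m v, v ≠ 0 → xt δ v ∨ ∃ u ∈ [(0, 0, 1), (1, 1, 0), (1, 1, 2), (1, 2, 0)],
    (∃ i, ok δ m i ∧ (act i u = v ∨ -act i u = v)) ∧
    ((∀ k, ok δ m k → act k u = u → k = i0 ∨ k = tI) ∨ (δ = false ∧ m = true ∧ u = (1, 2, 0)) ∨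
      (δ = true ∧ m = false ∧ u = (0, 0, 1)) ∨ (δ = true ∧ m = true ∧ u = (1, 1, 0)) ∨
      (δ = true ∧ m = true ∧ cls3 v = 1)) := by decide +kernel

/-- The hypotheses for a centraliser with Sylow normaliser `3 × S₃ × S₃`. -/
def L3D (δ m : Bool) (L : V27 → V27) (a b : I48) : Prop :=
  (∀ u v, L (u + v) = L u + L v) ∧ (∀ v, ∃ w, L w = v) ∧ ok δ m a ∧ ok δ m b ∧
  mx (a, 0) (a, 0) = (i0, 0) ∧ mx (b, 0) (b, 0) = (i0, 0) ∧ mx (a, 0) (b, 0) = mx (b, 0) (a, 0) ∧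
  (∀ v, act a (L v) = L (v.1, -v.2.1, v.2.2) ∧ act b (L v) = L (v.1, v.2.1, -v.2.2)) ∧
  ∀ i, ok δ m i → act i (L (1, 0, 0)) = L (1, 0, 0) → i = i0 ∨ i = a ∨ i = b ∨ i = mi a b

theorem l3d_z : L3D true false (fun v => (v.2.1 + v.2.2, v.2.2 - v.2.1, v.1)) tI (mi tI dI) := by
  unfold L3D; decide +kernel

theorem l3d_e : L3D true true (fun v => (v.1 + v.2.1, v.1 - v.2.1, v.2.2)) tI rI := by
  unfold L3D; decide +kernel

variable {δ m : Bool} {J : Subgroup G} {F : X → G}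

local notation "𝓗" => normalizer (J : Set G)

theorem M.exists_hom (h : M δ m J F) {Γ A : Type*} [Group Γ] [Group A] (ι : Γ →* G)
    (p : I48 → Prop) (hι : ∀ g, ∃ y, ok δ m y.1 ∧ p y.1 ∧ F y = ι g) (ψ : I48 → A)
    (hψ : ∀ i k, p i → p k → ψ (mi i k) = ψ i * ψ k) :
    ∃ φ : Γ →* A, ∀ g y, ok δ m y.1 → F y = ι g → φ g = ψ y.1 := by
  choose f h1 h2 h3 using hι
  refine ⟨MonoidHom.mk' (fun g => ψ (f g).1) fun a b => ?_, fun g y hy e => ?_⟩
  · rw [← hψ _ _ (h2 a) (h2 b), h.inj (h1 (a * b)) (ok_mx (h1 a) (h1 b)) (by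
      rw [h.mul (h1 a) (h1 b), h3, h3, h3, map_mul])]
    rfl
  · rw [h.inj hy (h1 g) (e.trans (h3 g).symm)]; rfl

theorem M.cent_of (h : M δ m J F) {u v : V27} {i : I48} (hi : ok δ m i)
    (e : act i u = v ∨ -act i u = v) (hC : centralizer {F (i0, u)} ≤ 𝓗) :
    centralizer {F (i0, v)} ≤ 𝓗 := by
  intro g hg
  have h1 : g * F (i0, act i u) = F (i0, act i u) * g := by
    rw [mem_centralizer_singleton_iff] at hg
    rcases e with rfl | rfl
    · exact hg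
    · rw [h.par.neg] at hg
      exact Commute.inv_right_iff.mp hg
  rw [← h.conj_j (x := (i, 0)) hi] at h1
  have := hC (x := (F (i, 0))⁻¹ * g * F (i, 0)) (mem_centralizer_singleton_iff.mpr (by
    calc _ = (F (i, 0))⁻¹ * (g * (F (i, 0) * F (i0, u) * (F (i, 0))⁻¹)) * F (i, 0) := by group
      _ = _ := by rw [h1]; group))
  rwa [mul_mem_cancel_right (h.mem' hi), mul_mem_cancel_left (inv_mem (h.mem' hi))] at this

theorem M.mem_Cj (h : M δ m J F) {i : I48} (hi : ok δ m i) {v : V27} :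
    F (i0, v) ∈ J ⊓ centralizer {F (i, 0)} ↔ act i v = v := by
  rw [mem_inf, and_iff_right (h.par.mem' v), mem_centralizer_singleton_iff, eq_comm,
    h.act_eq (x := (i, 0)) hi]

theorem M.stab (h : M δ m J F) {g : G} (hg : g ∈ 𝓗) {u : V27}
    (e : g ∈ centralizer {F (i0, u)}) : ∃ y, ok δ m y.1 ∧ act y.1 u = u ∧ F y = g := by
  obtain ⟨y, hy, rfl⟩ := (h.mem g).mp hg
  exact ⟨y, hy, (h.act_eq hy).mp (mem_centralizer_singleton_iff.mp e), rfl⟩

theorem M.sub (h : M δ m J F) {y : X} (hy : ok δ m y.1) (u : V27) :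
    (F (i0, u))⁻¹ * (F y * F (i0, u) * (F y)⁻¹) = F (i0, -u + act y.1 u) := by
  rw [h.conj_j hy, h.par.add, h.par.neg]

theorem M.split (h : M δ m J F) {y : X} (hy : ok δ m y.1) : F y = F (i0, y.2) * F (y.1, 0) := by
  rw [← h.mul (y := (y.1, 0)) ok0 hy, mx_ji]

variable [Finite G]

theorem M.cent_t (h : M δ m J F) {u : V27} (hu : ∀ k, ok δ m k → act k u = u → k = i0 ∨ k = tI) :
    centralizer {F (i0, u)} ≤ 𝓗 := by
  refine h.wj.l2 (h.le_cent (h.par.mem' u)) (h.par.mem' (1, 2, 0)) (h.ord (by decide))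
    (fun g hg hn => ?_) (fun g hg hn j hj => ?_) fun g hg hn e => ?_
  all_goals
    obtain ⟨y, hy, h1, rfl⟩ := h.stab hn hg
    obtain ⟨h2, h3, h4⟩ := refl_t y (hu _ hy h1)
  · rwa [← h.pow hy, h.mem_J (ok_pw hy 4)]
  · obtain ⟨v, rfl⟩ := (h.par.mem j).mp hj
    rw [h.sub hy, P43.par_zp h.par V27_three (by decide)]
    exact h4 v
  · exact (h.mem_J hy).mpr (h3 ((h.act_eq hy).mp e))

theorem M.cent_L3 (h : M δ m J F) {L : V27 → V27} {a b : I48} (hL : L3D δ m L a b) :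
    centralizer {F (i0, L (1, 0, 0))} ≤ 𝓗 := by
  obtain ⟨h1, h2, ha, hb, h3, h4, h5, h6, h7⟩ := hL
  refine P43.L3.le_norm (e := fun v => F (i0, L v)) (a := F (a, 0)) (b := F (b, 0))
    ⟨h.wj, h.le_cent (h.par.mem' _), h.par.comp h1 h2,
      mem_centralizer_singleton_iff.mpr ((h.act_eq (x := (a, 0)) ha).mpr (h6 _).1),
      mem_centralizer_singleton_iff.mpr ((h.act_eq (x := (b, 0)) hb).mpr (h6 _).2),
      (h.sq (y := (a, 0)) ha).mpr h3, (h.sq (y := (b, 0)) hb).mpr h4,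
      (h.cm (x := (a, 0)) (y := (b, 0)) ha hb).mpr h5,
      fun v => by rw [h.conj_j (x := (a, 0)) ha, (h6 v).1],
      fun v => by rw [h.conj_j (x := (b, 0)) hb, (h6 v).2],
      fun g hg => mem_centralizer_singleton_iff.mp hg, fun g hg hn => ?_⟩
  obtain ⟨⟨i, v⟩, hy, h8, rfl⟩ := h.stab hn hg
  obtain ⟨w, rfl⟩ := h2 v
  refine ⟨w, ?_⟩
  rw [h.split hy]
  rcases h7 i hy h8 with rfl | rfl | rfl | rfl
  · exact Or.inl (by rw [h.one, mul_one])
  · exact Or.inr (Or.inl rfl)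
  · exact Or.inr (Or.inr (Or.inl rfl))
  · refine Or.inr (Or.inr (Or.inr ?_))
    rw [← h.mul (x := (a, 0)) (y := (b, 0)) ha hb]
    exact congrArg (fun v => F (i0, L w) * F (mi a b, v))
      ((by decide +kernel : ∀ a, (0 : V27) = A9.av 0 (act a 0)) a)

theorem M.norm_D (h : M δ m J F) {g : G} (hg : g ∈ normalizer
    ((J ⊓ centralizer {F (tI, 0)} : Subgroup G) : Set G)) : g ∈ 𝓗 :=
  h.emb_j (h.par.mem' _) h.cx (conj_mem_of_mem_normalizer hg ((h.mem_Cj okt).mpr rfl)).1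

theorem M.card_D (h : M δ m J F) : Nat.card (J ⊓ centralizer {F (tI, 0)} : Subgroup G) = 9 :=
  h.par.card_subtype (· ∈ J ⊓ centralizer {F (tI, 0)}) (fun v => act tI v = v) (fun _ hg => hg.1)
    fun _ => h.mem_Cj okt

theorem M.cent_j0 (h : M false true J F) : centralizer {F (i0, 1, 2, 0)} ≤ 𝓗 := by
  have hJ := h.le_cent (h.par.mem' (1, 2, 0))
  have hP := (h.wj.wn' _).sylow h.pgrp hJ fun g hg hn => by
    obtain ⟨y, hy, h1, rfl⟩ := h.stab hn hg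
    rw [← h.pow hy, h.mem_J (ok_pw hy 4)]
    exact (stab_j0 y hy h1).1
  obtain ⟨K, k1, k2, k3, k4, k5⟩ := P43.exists_tr (W := J ⊓ centralizer {F (tI, 0)}) hP
    fun x hx g hg e => by
      obtain ⟨k, h1, h2, h3⟩ := (h.wj.wn' _).fusion h.pgrp h.par.comm hJ hx hg e
      obtain ⟨y, hy, h4, rfl⟩ := h.stab h2 h1
      obtain ⟨v, rfl⟩ := (h.par.mem x).mp hx
      rw [← h3, h.sub hy, h.mem_Cj okt]
      exact (stab_j0 y hy h4).2.1 v
  have hs : ok false true sI := rfl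
  have s1 : F (sI, 0) ∈ centralizer {F (i0, 1, 2, 0)} :=
    mem_centralizer_singleton_iff.mpr ((h.act_eq (x := (sI, 0)) hs).mpr rfl)
  have s2 : F (sI, 0) ∈ K := k4 _ s1 (Nat.Coprime.coprime_dvd_left (orderOf_dvd_of_pow_eq_one
    (n := 2) (by rw [pow_two, h.sq (y := (sI, 0)) hs]; rfl)) (by norm_num))
  have s3 : ∀ v, act tI v = v → act sI v = -v := by decide
  have hD : J ⊓ K = J ⊓ centralizer {F (tI, 0)} := le_antisymm k5 fun g hg => ⟨hg.1, by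
    obtain ⟨v, rfl⟩ := (h.par.mem g).mp hg.1
    have := k3 _ s1 _ (hJ hg.1)
    rwa [h.conj_j (x := (sI, 0)) hs, s3 v ((h.mem_Cj okt).mp hg), ← h.par.neg, ← h.par.add,
      (by decide : ∀ v : V27, -v + -v = v)] at this⟩
  have hP' := hP.inf_of_le_normalizer k1 (le_normalizer.trans k2)
  rw [hD] at hP'
  obtain ⟨L, -, l1, l2, l3, -⟩ := G23.st_main hP' (fun x hx y hy => h.par.comm x hx.1 y hy.1)
    (fun x hx => h.cube hx.1) (by rw [h.card_D]; norm_num) (fun g hg hn x hx => by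
      obtain ⟨y, hy, h4, e⟩ := h.stab (inv_mem (h.norm_D hn)) (inv_mem (k1 hg))
      obtain ⟨v, rfl⟩ := (h.par.mem x).mp hx.1
      rw [← inv_inv g, ← e, inv_inv, h.conj_j hy, ← h.par.neg, h.par.inj.eq_iff, h.par.inj.eq_iff]
      exact (stab_j0 y hy h4).2.2 v ((h.mem_Cj okt).mp hx)) s2 fun x hx => by
      obtain ⟨v, rfl⟩ := (h.par.mem x).mp hx.1
      rw [h.conj_j (x := (sI, 0)) hs, s3 v ((h.mem_Cj okt).mp hx), h.par.neg]
  rw [h.sig L l2 (hJ.trans (le_normalizer.trans (k2.trans l1)))] at l3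
  refine fun g hg => h.wcJ fun j hj => ?_
  obtain ⟨k, hk, e⟩ := l3 _ (k3 g hg j (hJ hj))
  rw [mem_bot.mp hk, inv_one, one_mul] at e
  exact (mul_mem_cancel_right (inv_mem (le_normalizer hj))).mp (h.norm_D e)

theorem M.cent (h : M δ m J F) {v : V27} (hv : v ≠ 0) :
    centralizer {F (i0, v)} ≤ 𝓗 ∨ (δ = true ∧ m = true ∧ cls3 v = 1) := by
  rcases reps δ m v hv with e | ⟨u, -, ⟨i, hi, e⟩, e' | ⟨rfl, rfl, rfl⟩ | ⟨rfl, rfl, rfl⟩ |
    ⟨rfl, rfl, rfl⟩ | e'⟩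
  · exact Or.inl (h.cent_xt e)
  · exact Or.inl (h.cent_of hi e (h.cent_t e'))
  · exact Or.inl (h.cent_of hi e h.cent_j0)
  · exact Or.inl (h.cent_of hi e (h.cent_L3 l3d_z))
  · exact Or.inl (h.cent_of hi e (h.cent_L3 l3d_e))
  · exact Or.inr e'

end B3

end Cfsg.Agent.Char
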