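import Cfsg.Agent.Char.A9Loc
import Cfsg.Agent.Char.B3Dec
import Cfsg.Agent.P43.Gen

/-!
# Fusion in a group in which the normaliser of `3³` is a monomial group
-/

set_option autoImplicit false
set_option synthInstance.maxSize 4096

namespace Cfsg.Agent.Char.B3

open Subgroup Local
open A9 (cls3)
open scoped Pointwise

variable {G : Type*} [Group G]

/-- `F` is an isomorphism from the model onto the normaliser of `J`. -/
structure M (δ m : Bool) (J : Subgroup G) (F : X → G) : Prop where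
  mul : ∀ {x y}, ok δ m x.1 → ok δ m y.1 → F (mx x y) = F x * F y
  inj : ∀ {x y}, ok δ m x.1 → ok δ m y.1 → F x = F y → x = y
  mem : ∀ g, g ∈ normalizer (J : Set G) ↔ ∃ x, ok δ m x.1 ∧ F x = g
  par : Param J (fun v => F (i0, v))
  cx : centralizer {F (i0, 1, 1, 1)} ≤ normalizer (J : Set G)
  sig : ∀ K : Subgroup G, ¬ 3 ∣ Nat.card K → J ≤ normalizer (K : Set G) → K = ⊥

variable {δ m : Bool} {J : Subgroup G} {F : X → G}

local notation "𝓗" => normalizer (J : Set G)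

theorem ok_mx {x y : X} (hx : ok δ m x.1) (hy : ok δ m y.1) : ok δ m (mx x y).1 :=
  ok_mi _ _ _ _ hx hy

theorem ok_pw {x : X} (hx : ok δ m x.1) (n : ℕ) : ok δ m (pw x n).1 := by
  induction n with
  | zero => exact ok0
  | succ n ih => exact ok_mx ih hx

theorem M.one (h : M δ m J F) : F (i0, 0) = 1 := h.par.zero

theorem M.mem' (h : M δ m J F) {x : X} (hx : ok δ m x.1) : F x ∈ 𝓗 := (h.mem _).mpr ⟨x, hx, rfl⟩

theorem M.pow (h : M δ m J F) {x : X} (hx : ok δ m x.1) (n : ℕ) : F (pw x n) = F x ^ n := by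
  induction n with
  | zero => rw [pow_zero]; exact h.one
  | succ n ih => rw [pw, h.mul (ok_pw hx n) hx, ih, pow_succ]

theorem M.eq_iff (h : M δ m J F) {x y : X} (hx : ok δ m x.1) (hy : ok δ m y.1) :
    F x = F y ↔ x = y := ⟨h.inj hx hy, congrArg F⟩

theorem M.pw_eq (h : M δ m J F) {y : X} (hy : ok δ m y.1) {n : ℕ} :
    pw y n = (i0, 0) ↔ F y ^ n = 1 := by
  rw [← h.pow hy, ← h.one, h.eq_iff (ok_pw hy n) ok0]

theorem M.sq (h : M δ m J F) {y : X} (hy : ok δ m y.1) : F y * F y = 1 ↔ mx y y = (i0, 0) := by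
  rw [← h.mul hy hy, ← h.one, h.eq_iff (ok_mx hy hy) ok0]

theorem M.cm (h : M δ m J F) {x y : X} (hx : ok δ m x.1) (hy : ok δ m y.1) :
    F x * F y = F y * F x ↔ mx x y = mx y x := by
  rw [← h.mul hx hy, ← h.mul hy hx, h.eq_iff (ok_mx hx hy) (ok_mx hy hx)]

theorem M.ne_one (h : M δ m J F) {x : X} (hx : ok δ m x.1) (e : x ≠ (i0, 0)) : F x ≠ 1 := by
  rw [← h.one]; exact fun e' => e (h.inj hx ok0 e')

theorem M.card_filter (h : M δ m J F) (p : G → Prop) (q : X → Prop) [DecidablePred q]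
    (h1 : ∀ g, p g → g ∈ 𝓗) (h2 : ∀ x, ok δ m x.1 → (p (F x) ↔ q x)) :
    Nat.card {g // p g} = (Finset.univ.filter fun x => ok δ m x.1 ∧ q x).card := by
  rw [← Nat.subtype_card (p := fun x => ok δ m x.1 ∧ q x) _ (by simp)]
  refine (Nat.card_congr (Equiv.ofBijective
    (fun v => ⟨F v.1, (h2 _ v.2.1).mpr v.2.2⟩) ⟨?_, ?_⟩)).symm
  · intro u v huv
    exact Subtype.ext (h.inj u.2.1 v.2.1 (congrArg Subtype.val huv))
  · rintro ⟨g, hg⟩
    obtain ⟨v, hv, rfl⟩ := (h.mem g).mp (h1 g hg)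
    exact ⟨⟨v, hv, (h2 v hv).mp hg⟩, rfl⟩

theorem M.conj_iff (h : M δ m J F) {x y z : X} (hx : ok δ m x.1) (hy : ok δ m y.1)
    (hz : ok δ m z.1) : F z * F x * (F z)⁻¹ = F y ↔ mx z x = mx y z := by
  rw [mul_inv_eq_iff_eq_mul, ← h.mul hz hx, ← h.mul hy hz, h.eq_iff (ok_mx hz hx) (ok_mx hy hz)]

theorem M.conj_j (h : M δ m J F) {x : X} (hx : ok δ m x.1) (v : V27) :
    F x * F (i0, v) * (F x)⁻¹ = F (i0, act x.1 v) := by
  obtain ⟨i, w⟩ := x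
  have h1 := (h.conj_iff (z := (i, 0)) ok0 ok0 hx).mpr (mx_j i v)
  rw [← mx_ji, h.mul (y := (i, 0)) ok0 hx]
  calc _ = F (i0, w) * (F (i, 0) * F (i0, v) * (F (i, 0))⁻¹) * (F (i0, w))⁻¹ := by group
    _ = _ := by
      rw [h1, h.par.comm _ (h.par.mem' w) _ (h.par.mem' _), mul_inv_cancel_right, mx_ji]

theorem M.mem_J (h : M δ m J F) {y : X} (hy : ok δ m y.1) : F y ∈ J ↔ y.1 = i0 := by
  rw [h.par.mem]
  exact ⟨fun ⟨v, e⟩ => (congrArg Prod.fst (h.inj ok0 hy e)).symm, fun e => ⟨y.2, by rw [← e]⟩⟩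

theorem M.act_eq (h : M δ m J F) {x : X} (hx : ok δ m x.1) {v : V27} :
    F x * F (i0, v) = F (i0, v) * F x ↔ act x.1 v = v := by
  rw [← mul_inv_eq_iff_eq_mul, h.conj_j hx, h.par.inj.eq_iff]

theorem M.cube (h : M δ m J F) {j : G} (hj : j ∈ J) : j ^ 3 = 1 := by
  obtain ⟨v, rfl⟩ := (h.par.mem _).mp hj
  exact h.par.cube V27_three v

theorem M.pgrp (h : M δ m J F) : IsPGroup 3 J := fun j => ⟨1, Subtype.ext (h.cube j.2)⟩

theorem M.ord (h : M δ m J F) {v : V27} (hv : v ≠ 0) : orderOf (F (i0, v)) = 3 :=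
  orderOf_eq_prime (h.par.cube V27_three v) (h.par.ne_one hv)

theorem M.le_cent (h : M δ m J F) {j : G} (hj : j ∈ J) : J ≤ centralizer {j} :=
  fun a ha => mem_centralizer_singleton_iff.mpr (h.par.comm a ha j hj)

theorem M.exp (h : M δ m J F) {g : G} (hg : g ∈ 𝓗) : g ^ 36 = 1 := by
  obtain ⟨y, hy, rfl⟩ := (h.mem g).mp hg
  exact (h.pw_eq hy).mp (exp36 y)

theorem M.cent_J (h : M δ m J F) {g : G} (hg : ∀ j ∈ J, g * j = j * g) : g ∈ J := by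
  obtain ⟨y, hy, rfl⟩ := (h.mem g).mp (h.cx (mem_centralizer_singleton_iff.mpr
    (hg _ (h.par.mem' _))))
  have := fun v => (h.act_eq hy).mp (hg _ (h.par.mem' v))
  exact (h.mem_J hy).mpr (act_faith _ (this _) (this _) (this _))

theorem M.cent_xt (h : M δ m J F) {v : V27} (hv : xt δ v) : centralizer {F (i0, v)} ≤ 𝓗 := by
  obtain ⟨i, hi, e⟩ := xt_act δ m v hv
  intro g hg
  have h1 : g * F (i0, act i (1, 1, 1)) = F (i0, act i (1, 1, 1)) * g := by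
    rw [mem_centralizer_singleton_iff] at hg
    rcases e with rfl | rfl
    · exact hg
    · rw [h.par.neg] at hg
      exact Commute.inv_right_iff.mp hg
  rw [← h.conj_j (x := (i, 0)) hi] at h1
  have := h.cx (x := (F (i, 0))⁻¹ * g * F (i, 0)) (mem_centralizer_singleton_iff.mpr (by
    calc _ = (F (i, 0))⁻¹ * (g * (F (i, 0) * F (i0, 1, 1, 1) * (F (i, 0))⁻¹)) * F (i, 0) := by group
      _ = _ := by rw [h1]; group))
  rwa [mul_mem_cancel_right (h.mem' hi), mul_mem_cancel_left (inv_mem (h.mem' hi))] at this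

variable [Finite G]

theorem M.wcJ (h : M δ m J F) {g : G} (hg : ∀ j ∈ J, g * j * g⁻¹ ∈ 𝓗) : g ∈ 𝓗 := by
  refine mem_normalizer_of_conj_mem fun j hj => ?_
  choose f h1 h2 using fun a : J => (h.mem _).mp (hg a a.2)
  rw [← h2 ⟨j, hj⟩, h.mem_J (h1 _)]
  by_contra h3
  have h4 : ∀ a, pw (f a) 3 = (i0, 0) := fun a =>
    (h.pw_eq (h1 a)).mpr (by rw [h2, conj_pow, h.cube a.2]; group)
  have h5 := cent_cnt _ (h4 _) h3
  rw [← Nat.subtype_card (p := fun z => mx z (f ⟨j, hj⟩) = mx (f ⟨j, hj⟩) z ∧ pw z 3 = (i0, 0)) _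
    (by simp)] at h5
  have h6 := (Nat.card_le_card_of_injective (fun a : J => (⟨f a, (h.cm (h1 _) (h1 _)).mp (by
    rw [h2, h2, conj_mul, conj_mul, h.par.comm _ a.2 _ hj]), h4 a⟩ :
      {z // mx z (f ⟨j, hj⟩) = mx (f ⟨j, hj⟩) z ∧ pw z 3 = (i0, 0)}))
    fun a b e => by
      have := congrArg (fun z => F z.1) e
      simpa [h2] using this).trans h5
  rw [h.par.card] at h6
  simp at h6

theorem M.wj (h : M δ m J F) : P43.WJ J := ⟨h.pgrp, h.par.comm, fun _ _ => h.wcJ, h.sig⟩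

theorem M.le_of_pgroup (h : M δ m J F) {P : Subgroup G} (hP : IsPGroup 3 P) (hJ : J ≤ P) :
    P ≤ 𝓗 := h.wj.wn.le_norm hP hJ le_top

theorem M.exists_conj (h : M δ m J F) {Y P : Subgroup G} (hY : J ≤ Y) (hP : IsPGroup 3 P)
    (hPY : P ≤ Y) : ∃ k ∈ Y, ∀ p ∈ P, k * p * k⁻¹ ∈ 𝓗 := by
  obtain ⟨R, hR, h1⟩ := exists_isSylowIn_ge h.pgrp hY
  obtain ⟨k, hk, h2⟩ := hR.exists_le_conj hP hPY
  exact ⟨k⁻¹, inv_mem hk, fun p hp => by
    simpa using h.le_of_pgroup hR.isPGroup h1 (Local.mem_conj_smul_iff.mp (h2 hp))⟩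

theorem M.fus (h : M δ m J F) {u v : V27} (e : IsConj (F (i0, u)) (F (i0, v))) :
    ∃ i, ok δ m i ∧ act i u = v := by
  obtain ⟨g, hg⟩ := isConj_iff.mp e
  obtain ⟨k, -, h1, h2⟩ := h.wj.wn.fusion h.pgrp h.par.comm le_top (h.par.mem' u) (mem_top g)
    (hg ▸ h.par.mem' v)
  obtain ⟨y, hy, rfl⟩ := (h.mem k).mp h1
  exact ⟨y.1, hy, h.par.inj ((h.conj_j hy u).symm.trans (h2.trans hg))⟩

theorem M.cls_eq (h : M δ m J F) {u v : V27} (e : IsConj (F (i0, u)) (F (i0, v))) :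
    cls3 u = cls3 v := by
  obtain ⟨i, -, rfl⟩ := h.fus e
  exact (cls3_act i u).symm

theorem M.emb_j (h : M δ m J F) {j g : G} (hj : j ∈ J) (hC : centralizer {j} ≤ 𝓗)
    (hg : g * j * g⁻¹ ∈ J) : g ∈ 𝓗 := by
  obtain ⟨k, -, h1, h2⟩ := h.wj.wn.fusion h.pgrp h.par.comm le_top hj (mem_top g) hg
  have h3 : k⁻¹ * g ∈ 𝓗 := hC (mem_centralizer_singleton_iff.mpr (by
    calc _ = k⁻¹ * (g * j * g⁻¹) * g := by group
      _ = _ := by rw [← h2]; group))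
  exact (mul_mem_cancel_left (inv_mem h1)).mp h3

theorem M.mem_J_of_fix (h : M δ m J F) {g : G} (hg : g ∈ 𝓗) (h3 : g ^ 3 = 1) {v : V27}
    (h0 : v ≠ 0) (hv : ¬ xt δ v) (e : g * F (i0, v) = F (i0, v) * g) : g ∈ J := by
  obtain ⟨y, hy, rfl⟩ := (h.mem g).mp hg
  rw [h.mem_J hy]
  by_contra h1
  exact hv ((fix_xt δ m y hy ((h.pw_eq hy).mpr h3) h1).2.1 v h0 ((h.act_eq hy).mp e))

theorem M.closed (h : M δ m J F) {v : V27} (h0 : v ≠ 0) (hv : ¬ xt δ v) {g : G}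
    (hg : g * F (i0, v) * g⁻¹ ∈ 𝓗) : g * F (i0, v) * g⁻¹ ∈ J := by
  obtain ⟨y, ky, hy⟩ := (h.mem _).mp hg
  rw [← hy, h.mem_J ky]
  by_contra h1
  obtain ⟨w, hw, e⟩ := (fix_xt δ m y ky ((h.pw_eq ky).mpr (by
    rw [hy, conj_pow, h.par.cube V27_three]; group)) h1).1
  rw [← h.act_eq ky, hy] at e
  have h2 : g⁻¹ * F (i0, w) * g ∈ centralizer {F (i0, v)} := mem_centralizer_singleton_iff.mpr (by
    calc _ = g⁻¹ * (F (i0, w) * (g * F (i0, v) * g⁻¹)) * g := by group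
      _ = _ := by rw [← e]; group)
  have h3 : (g⁻¹ * F (i0, w) * g) ^ 3 = 1 := by
    simpa [h.par.cube V27_three w] using conj_pow (a := g⁻¹) (b := F (i0, w)) (i := 3)
  obtain ⟨k, hk, h4⟩ := h.exists_conj (h.le_cent (h.par.mem' v))
    (isPGroup_zpowers_of_pow (k := 1) h3) (zpowers_le.mpr h2)
  have h5 := h.emb_j (g := k * g⁻¹) (h.par.mem' w) (h.cent_xt hw) (by
    simpa [mul_assoc] using h.mem_J_of_fix (h4 _ (mem_zpowers _)) (by rw [conj_pow, h3]; group) h0 hv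
      (mem_centralizer_singleton_iff.mp (mul_mem (mul_mem hk h2) (inv_mem hk))))
  have h6 := conj_mem_of_mem_normalizer (inv_mem h5) (h.par.mem' v)
  have h7 : (k * g⁻¹)⁻¹ * F (i0, v) * (k * g⁻¹)⁻¹⁻¹ = F y := by
    rw [hy]
    calc _ = g * (k⁻¹ * (F (i0, v) * k)) * g⁻¹ := by group
      _ = _ := by rw [← mem_centralizer_singleton_iff.mp hk]; group
  rw [h7, h.mem_J ky] at h6
  exact h1 h6

theorem M.wc_j (h : M δ m J F) {v : V27} (h0 : v ≠ 0) (hv : ¬ xt δ v)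
    (hC : centralizer {F (i0, v)} ≤ 𝓗) : WC 𝓗 (F (i0, v)) :=
  fun _ hg => h.emb_j (h.par.mem' v) hC (h.closed h0 hv hg)

theorem M.wc_x (h : M δ false J F) : WC 𝓗 (F (i0, 1, 1, 1)) := fun g hg => by
  refine h.emb_j (h.par.mem' _) h.cx ?_
  obtain ⟨y, ky, hy⟩ := (h.mem _).mp hg
  rw [← hy, h.mem_J ky]
  by_contra h1
  have h2 : F y ^ 3 = 1 := by rw [hy, conj_pow, h.par.cube V27_three]; group
  obtain ⟨z, kz, e⟩ := (fix_xt δ false y ky ((h.pw_eq ky).mpr h2) h1).2.2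
  rw [← h.conj_iff ky (ok_pw ky 2) kz, h.pow ky,
    show F y ^ 2 = (F y)⁻¹ by rw [eq_inv_iff_mul_eq_one, ← pow_succ, h2], hy] at e
  obtain ⟨i, hi, e'⟩ := h.fus (u := (1, 1, 1)) (v := -(1, 1, 1)) (isConj_iff.mpr
    ⟨g⁻¹ * F z * g, by
      rw [h.par.neg]
      calc _ = g⁻¹ * (F z * (g * F (i0, 1, 1, 1) * g⁻¹) * (F z)⁻¹) * g := by group
        _ = _ := by rw [e]; group⟩)
  exact x_nonreal δ i hi e'

end Cfsg.Agent.Char.B3
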