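import Cfsg.Agent.Char.B3Gl
import Cfsg.Agent.Char.B3D

/-!
# The construction of the model of the normaliser of `3³`
-/

set_option autoImplicit false
set_option synthInstance.maxSize 4096

namespace Cfsg.Agent.Char.B3

open Subgroup Local
open P43 (Acts)

theorem act_mi : ∀ i k v, act (mi i k) v = act i (act k v) := by decide +kernel

theorem act_inj : ∀ i k, act i (1, 0, 0) = act k (1, 0, 0) → act i (0, 1, 0) = act k (0, 1, 0) →
    act i (0, 0, 1) = act k (0, 0, 1) → i = k := by decide +kernel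

theorem act_surj : ∀ i v, ∃ w, act i w = v := by decide +kernel

theorem gen_d : ∀ i, ok false true i = false → ∃ ρ ε ρ' ε' ρ'' ε'',
    dI = mi (mi (mi (pI ρ ε) i) (pI ρ' ε')) (mi i (pI ρ'' ε'')) := by decide +kernel

theorem gen_n : ∀ i, ok true false i = false → ∃ ρ ε,
    nI = mi (mi (mi i (pI ρ ε)) (mi i (pI ρ ε))) (mi i (pI ρ ε)) := by decide +kernel

theorem gen_i : ∀ i, ∃ ρ ε ρ' ε', i = mi (mi (mi (bif ok true false i then i0 else nI) (pI ρ ε))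
    (bif ok false true i then i0 else dI)) (pI ρ' ε') := by decide +kernel

theorem ok_iff : ∀ δ m i, ok δ m i ↔ (ok false true i = false → δ) ∧ (ok true false i = false → m) := by
  decide +kernel

theorem diag_facts : (∀ i : I48, i.1 = 0 → i.2.1 = false → (∀ v, act i (act i v) = v) ∧ ∀ k,
    (k.1 = 0 → k.2.1 = false → (mi i k).1 = 0 ∧ (mi i k).2.1 = false) ∧
    ∃ l : I48, l.1 = 0 ∧ l.2.1 = false ∧ mi l k = mi k i) ∧
    (∀ i, ok false false i → i = pI i.1 i.2.1) ∧ (∀ v, act i0 v = v) ∧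
    ∀ δ m v, (∀ i : I48, i.1 = 0 → i.2.1 = false → ok δ m i → act i v = v) →
      v = 0 ∨ (δ = false ∧ m = false) := by decide +kernel

variable {G : Type*} [Group G] {δ m : Bool} {J : Subgroup G} {e : V27 → G} {σ : I48 → G}

/-- A complement of `J`. -/
structure Sg (δ m : Bool) (J : Subgroup G) (e : V27 → G) (σ : I48 → G) : Prop where
  par : Param J e
  act : ∀ i, ok δ m i → Acts e (σ i) (act i)
  mul : ∀ i k, ok δ m i → ok δ m k → σ (mi i k) = σ i * σ k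

theorem Sg.one (h : Sg δ m J e σ) : σ i0 = 1 := by
  simpa [show mi i0 i0 = i0 from rfl] using (h.mul i0 i0 ok0 ok0).symm

theorem Sg.mul' (h : Sg δ m J e σ) {x y : X} (hx : ok δ m x.1) (hy : ok δ m y.1) :
    e (mx x y).2 * σ (mx x y).1 = e x.2 * σ x.1 * (e y.2 * σ y.1) := by
  change e (x.2 + B3.act x.1 y.2) * σ (mi x.1 y.1) = _
  rw [h.par.add, h.mul _ _ hx hy, ← h.act _ hx]
  group

theorem Sg.acts (h : Sg δ m J e σ) {i : I48} (hi : ok δ m i) (v : V27) :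
    Acts e (e v * σ i) (B3.act i) := (P43.acts_par h.par v).mul (h.act i hi)

theorem Sg.inj' (h : Sg δ m J e σ) {x y : X} (hx : ok δ m x.1) (hy : ok δ m y.1)
    (e' : e x.2 * σ x.1 = e y.2 * σ y.1) : x = y := by
  have h1 := fun v => h.par.inj ((h.acts hx x.2 v).symm.trans (e' ▸ h.acts hy y.2 v))
  have h2 := act_inj _ _ (h1 _) (h1 _) (h1 _)
  rw [h2, mul_left_inj] at e'
  exact Prod.ext h2 (h.par.inj e')

theorem Sg.pow (h : Sg δ m J e σ) {x : X} (hx : ok δ m x.1) (n : ℕ) :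
    e (pw x n).2 * σ (pw x n).1 = (e x.2 * σ x.1) ^ n := by
  induction n with
  | zero => rw [pow_zero, pw, h.one, h.par.zero, mul_one]
  | succ n ih => rw [pw, h.mul' (ok_pw hx n) hx, ih, pow_succ]

variable [Finite G]

theorem Sg.eq_J (h : Sg δ m J e σ) {A : Subgroup G}
    (h1 : ∀ a ∈ A, ∃ y : X, ok δ m y.1 ∧ e y.2 * σ y.1 = a) (h2 : ∀ a ∈ A, ∀ b ∈ A, a * b = b * a)
    (h3 : ∀ a ∈ A, a ^ 3 = 1) (h4 : Nat.card A = 27) : A = J := by
  refine eq_of_le_of_card_ge (fun j hj => ?_) (by rw [h4, h.par.card]; simp)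
  choose f k1 k2 using fun a : A => h1 a a.2
  by_contra h5
  have h6 : ∀ a, pw (f a) 3 = (i0, 0) := fun a => h.inj' (ok_pw (k1 a) 3) ok0 (by
    rw [h.pow (k1 a), k2, h3 _ a.2, h.one, h.par.zero, mul_one])
  have h7 := cent_cnt _ (h6 ⟨j, hj⟩) fun e' => h5 (by
    have := k2 ⟨j, hj⟩
    rw [e', h.one, mul_one] at this
    exact (h.par.mem j).mpr ⟨_, this⟩)
  rw [← Nat.subtype_card (p := fun z => mx z (f ⟨j, hj⟩) = mx (f ⟨j, hj⟩) z ∧ pw z 3 = (i0, 0)) _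
    (by simp)] at h7
  have h8 := (Nat.card_le_card_of_injective (fun a : A => (⟨f a, h.inj' (ok_mx (k1 _) (k1 _))
    (ok_mx (k1 _) (k1 _)) (by rw [h.mul' (k1 _) (k1 _), h.mul' (k1 _) (k1 _), k2, k2, h2 _ a.2 _ hj]),
    h6 a⟩ : {z // mx z (f ⟨j, hj⟩) = mx (f ⟨j, hj⟩) z ∧ pw z 3 = (i0, 0)}))
    fun a b e' => Subtype.ext (by
      rw [← k2, ← k2, show f a = f b from congrArg Subtype.val e'])).trans h7
  omega

variable (h : Sg false false J e σ) (hx : ∀ g, g * e (1, 1, 1) = e (1, 1, 1) * g →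
  ∃ y : X, ok false false y.1 ∧ e y.2 * σ y.1 = g)
include h hx

omit [Finite G] in
theorem Sg.cent {g : G} (hg : Acts e g fun v => v) : g ∈ J := by
  obtain ⟨y, h1, rfl⟩ := hx g (hg.comm rfl)
  have h2 := fun v => h.par.inj ((h.acts h1 y.2 v).symm.trans (hg v))
  rw [act_faith _ (h2 _) (h2 _) (h2 _), h.one, mul_one]
  exact h.par.mem' _

theorem Sg.exists_M' (hm : ∀ g ∈ normalizer (J : Set G), ∃ i, Acts e g (B3.act i))
    (sig : ∀ K : Subgroup G, ¬ 3 ∣ Nat.card K → J ≤ normalizer (K : Set G) → K = ⊥) :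
    ∃ δ m F, M δ m J F := by
  classical
  obtain ⟨d1, d2, d3, d4⟩ := diag_facts
  let S : I48 → Prop := fun i => ∃ g, Acts e g (B3.act i)
  have s1 : ∀ {i k}, S i → S k → S (mi i k) := fun ⟨_, a⟩ ⟨_, b⟩ =>
    ⟨_, (a.mul b).congr fun v => (act_mi _ _ v).symm⟩
  have s2 : ∀ ρ ε, S (pI ρ ε) := fun ρ ε => ⟨_, h.act _ (ok_perm ..)⟩
  obtain ⟨δ, m, hS⟩ : ∃ δ m, ∀ i, S i ↔ ok δ m i := ⟨decide (S dI), decide (S nI), fun i => by
    rw [ok_iff, decide_eq_true_eq, decide_eq_true_eq]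
    refine ⟨fun hi => ⟨fun e' => ?_, fun e' => ?_⟩, fun ⟨a, b⟩ => ?_⟩
    · obtain ⟨_, _, _, _, _, _, e'⟩ := gen_d i e'
      exact e' ▸ s1 (s1 (s1 (s2 ..) hi) (s2 ..)) (s1 hi (s2 ..))
    · obtain ⟨_, _, e'⟩ := gen_n i e'
      exact e' ▸ s1 (s1 (s1 hi (s2 ..)) (s1 hi (s2 ..))) (s1 hi (s2 ..))
    · obtain ⟨_, _, _, _, e'⟩ := gen_i i
      rw [e']
      refine s1 (s1 (s1 ?_ (s2 ..)) ?_) (s2 ..)
      · cases e'' : ok true false i
        exacts [b e'', s2 0 false]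
      · cases e'' : ok false true i
        exacts [a e'', s2 0 false]⟩
  have q : ∀ {a b i}, Acts e a (B3.act i) → Acts e b (B3.act i) → a * b⁻¹ ∈ J := fun {a b i} ha hb =>
    h.cent hx fun v => by
      obtain ⟨w, rfl⟩ := act_surj i v
      conv_lhs => rw [← hb]
      rw [← ha]; group
  obtain ⟨τ, hτ⟩ : ∃ τ, Sg δ m J e τ := by
    by_cases h0 : δ = false ∧ m = false
    · exact ⟨σ, h0.1 ▸ h0.2 ▸ h⟩
    let E : Subgroup G :=
      { carrier := {g | ∃ i : I48, i.1 = 0 ∧ i.2.1 = false ∧ Acts e g (B3.act i)}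
        one_mem' := ⟨i0, rfl, rfl, fun v => by rw [d3]; group⟩
        mul_mem' := fun ⟨i, a1, a2, a3⟩ ⟨k, b1, b2, b3⟩ => ⟨mi i k, (((d1 i a1 a2).2 k).1 b1 b2).1,
          (((d1 i a1 a2).2 k).1 b1 b2).2, (a3.mul b3).congr fun v => (act_mi _ _ v).symm⟩
        inv_mem' := fun ⟨i, a1, a2, a3⟩ => ⟨i, a1, a2, a3.inv (d1 i a1 a2).1⟩ }
    obtain ⟨T, hT, -⟩ := exists_isSylowIn_ge (p := 2) IsPGroup.of_bot (bot_le : ⊥ ≤ E)
    have t1 : T ≤ normalizer (J : Set G) := fun t ht => by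
      obtain ⟨i, -, -, a⟩ := hT.le ht
      exact a.norm h.par
    have t2 : E ≤ T ⊔ J := hT.le_sup_of_coprime fun x ⟨i, a1, a2, a3⟩ o =>
      mem_of_pow_mem_of_coprime o (h.cent hx (pow_two x ▸ (a3.mul a3).congr (d1 i a1 a2).1))
    have t3 : ∀ i, ∃ b, ok δ m i → b ∈ normalizer (T : Set G) ∧ Acts e b (B3.act i) := fun i => by
      by_cases hi : ok δ m i
      swap
      · exact ⟨1, fun a => absurd a hi⟩
      obtain ⟨g, hg⟩ := (hS i).mpr hi
      obtain ⟨n, hn, h1⟩ := hT.frattini (g := g) (mem_normalizer_of_conj_mem fun x ⟨k, a1, a2, a3⟩ => by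
        obtain ⟨l, b1, b2, b3⟩ := ((d1 k a1 a2).2 i).2
        refine ⟨l, b1, b2, fun v => ?_⟩
        obtain ⟨w, rfl⟩ := act_surj i v
        rw [← act_mi, b3, act_mi, ← hg, ← hg, ← a3]; group)
      obtain ⟨t, ht, j, hj, rfl⟩ := (mem_sup_of_left_le_normalizer t1).mp (t2 hn)
      obtain ⟨v, hv⟩ := (h.par.mem _).mp (conj_mem_of_mem_normalizer (t1 ht) (inv_mem hj))
      exact ⟨e v * g, fun _ => ⟨by
        simpa [hv, mul_assoc] using mul_mem (le_normalizer ht) h1, (P43.acts_par h.par v).mul hg⟩⟩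
    choose τ hτ using t3
    refine ⟨τ, h.par, fun i hi => (hτ i hi).2, fun i k hi hk => ?_⟩
    have h1 := hτ _ (ok_mi _ _ _ _ hi hk)
    have h2 := mul_mem h1.1 (inv_mem (mul_mem (hτ i hi).1 (hτ k hk).1))
    obtain ⟨v, hv⟩ := (h.par.mem _).mp (q h1.2 (((hτ i hi).2.mul (hτ k hk).2).congr
      fun v => (act_mi _ _ v).symm))
    rw [← mul_inv_eq_one, ← hv, (d4 δ m v fun l a1 a2 a3 => ?_).resolve_right h0, h.par.zero]
    obtain ⟨g, hg⟩ := (hS l).mpr a3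
    refine hg.fix h.par (mem_centralizer_singleton_iff.mp ((t2.trans (sup_le (fun t ht => ?_)
      fun j hj => mem_centralizer_singleton_iff.mpr (h.par.comm _ hj _ (h.par.mem' v))))
      ⟨l, a1, a2, hg⟩))
    obtain ⟨n, hn⟩ := hT.isPGroup ⟨_, mul_mem ht (conj_mem_of_mem_normalizer (hv ▸ h2) (inv_mem ht))⟩
    obtain ⟨w, hw⟩ := (h.par.mem _).mp (mul_mem (conj_mem_of_mem_normalizer (t1 ht) (h.par.mem' v))
      (inv_mem (h.par.mem' v)))
    rw [mem_centralizer_singleton_iff, ← mul_inv_eq_iff_eq_mul, ← mul_inv_eq_one]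
    refine eq_one_of_pow_eq_one_of_coprime (m := 2 ^ n) (n := 3)
      (Nat.Coprime.pow_left n (by norm_num)) ?_
      (hw ▸ h.par.cube V27_three w)
    simpa [mul_assoc] using congrArg Subtype.val hn
  have h1 : (fun v => e v * τ i0) = e := funext fun v => by rw [hτ.one, mul_one]
  refine ⟨δ, m, fun x => e x.2 * τ x.1, hτ.mul', hτ.inj', fun g => ⟨fun hg => ?_, ?_⟩, h1.symm ▸ h.par,
    fun g hg => ?_, sig⟩
  · obtain ⟨i, hi⟩ := hm g hg
    have h2 := (hS i).mp ⟨g, hi⟩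
    obtain ⟨v, hv⟩ := (h.par.mem _).mp (q hi (hτ.act i h2))
    exact ⟨(i, v), h2, by rw [hv, inv_mul_cancel_right]⟩
  · rintro ⟨x, h2, rfl⟩
    exact (hτ.acts h2 _).norm h.par
  · rw [mem_centralizer_singleton_iff, hτ.one, mul_one] at hg
    obtain ⟨y, h2, rfl⟩ := hx g hg
    exact (h.acts h2 _).norm h.par

theorem Sg.exists_M
    (sig : ∀ K : Subgroup G, ¬ 3 ∣ Nat.card K → J ≤ normalizer (K : Set G) → K = ⊥) :
    ∃ δ m F, M δ m J F := by
  obtain ⟨b, hb⟩ := exists_bc h.par (fun ρ ε => ⟨_, h.act _ (ok_perm ..)⟩) fun g f hf e' => by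
    obtain ⟨y, h1, rfl⟩ := hx g (hf.comm e')
    exact ⟨y.1.1, y.1.2.1, fun v => h.par.inj ((hf v).symm.trans
      ((h.acts h1 y.2 v).trans (by rw [← diag_facts.2.1 _ h1])))⟩
  obtain ⟨b1, b2, b3, b4, b5⟩ := bc_facts b
  refine Sg.exists_M' (e := fun v => e (bc b v)) (σ := σ) ⟨h.par.comp b1 fun v => ⟨_, b2 v⟩,
    fun i hi v => ?_, h.mul⟩ (fun g hg => ?_) (fun g hg => ?_) sig
  · rw [h.act i hi, diag_facts.2.1 i hi, b5]
  · obtain ⟨y, h1, rfl⟩ := hx g (by rwa [b4] at hg)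
    exact ⟨(y.1, bc _ y.2), h1, by rw [b2]⟩
  · exact (hb g hg).imp fun i hi v => by rw [hi, mb_eq, b3]

omit h hx in
theorem M.main {F : X → G} (h : M δ m J F) : J.Normal ∨ Nonempty (G ≃* Equiv.Perm (Fin 9)) := by
  have hall : δ = false ∨ m = false → ∀ v, v ≠ 0 → centralizer {F (i0, v)} ≤ normalizer (J : Set G) :=
    fun e v hv => (h.cent hv).resolve_right fun e' => by simp [e'.1, e'.2.1] at e
  cases δ <;> cases m
  exacts [Or.inl (h.normal_A (hall (Or.inl rfl)) rfl rfl), Or.inl (h.normal_B (hall (Or.inl rfl)) rfl rfl),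
    Or.inl (h.normal_C (hall (Or.inr rfl)) rfl rfl), h.caseD]

end Cfsg.Agent.Char.B3
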