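import Cfsg.Agent.Char.B3Fin

/-!
# The centraliser `3 × S₆`
-/

set_option autoImplicit false
set_option synthInstance.maxSize 4096

namespace Cfsg.Agent.Char.B3

open Subgroup Local Equiv
open A9 (cls3)
open S9 (P6 c d sw)
open Mat (CP)
open scoped Pointwise

/-- The stabiliser of the last coordinate vector is dihedral. -/
def dih : I48 → DihedralGroup 4
  | (_, false, false, false, _) => .r 0
  | (_, true, true, false, _) => .r 1
  | (_, false, true, true, _) => .r 2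
  | (_, true, false, true, _) => .r 3
  | (_, false, false, true, _) => .sr 0
  | (_, true, true, true, _) => .sr 1
  | (_, false, true, false, _) => .sr 2
  | (_, true, false, false, _) => .sr 3

theorem dih_mul : ∀ i k, act i (0, 0, 1) = (0, 0, 1) → act k (0, 0, 1) = (0, 0, 1) →
    dih (mi i k) = dih i * dih k := by decide +kernel

theorem dih_surj : ∀ a, ∃ i, act i (0, 0, 1) = (0, 0, 1) ∧ dih i = a := by decide +kernel

theorem stab_z : ∀ i, act i (0, 0, 1) = (0, 0, 1) → pw (i, 0) 4 = (i0, 0) ∧ (dih i = 1 → i = i0) ∧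
    (∀ v, (pw (i, v) 4).1 = i0 ∧ act rI (-v + act i v) = -v + act i v ∧
      (act rI v = v → act rI (act i v) = act i v)) ∧ mx (i, 0) (rI, 0) = mx (rI, 0) (i, 0) := by
  decide +kernel

theorem eq_sw : ∀ σ : P6, σ * S9.r = S9.r * σ → σ * S9.y = S9.y * σ → (σ * sw 1 2) ^ 3 = 1 →
    (σ * sw 3 4) ^ 3 = 1 → σ = sw 2 3 := by decide +kernel

theorem rel_sw : (sw 2 3 * S9.r = S9.r * sw 2 3 ∧ sw 2 3 * S9.y = S9.y * sw 2 3 ∧
    (sw 2 3 * sw 1 2) ^ 3 = 1 ∧ (sw 2 3 * sw 3 4) ^ 3 = 1) ∧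
    ∀ σ ∈ [S9.r, S9.y, sw 1 2, sw 3 4, sw 3 5], σ * (c * d) * σ⁻¹ = c⁻¹ * d ∨
      σ * (c * d) * σ⁻¹ = c * d⁻¹ := by decide +kernel

variable {G : Type*} [Group G] {J : Subgroup G} {F : X → G}

local notation "𝓗" => normalizer (J : Set G)
local notation "𝓣" => F (tI, 0)
local notation "𝓡" => F (rI, 0)
local notation "𝓩" => F (i0, 0, 0, 1)

/-- The centraliser of `z` is `⟨z⟩ × S₆`. -/
structure Sx (F : X → G) (ψ : P6 →* G) : Prop where
  inj : Function.Injective ψ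
  pc : ψ c = F (i0, 1, 0, 0)
  pd : ψ d = F (i0, 0, 1, 0)
  cz : ∀ σ, ψ σ * F (i0, 0, 0, 1) = F (i0, 0, 0, 1) * ψ σ
  mem : ∀ g, g * F (i0, 0, 0, 1) = F (i0, 0, 0, 1) * g → ∃ k : ℕ, ∃ σ, g = F (i0, 0, 0, 1) ^ k * ψ σ
  cr : ∀ σ, ψ σ * F (rI, 0) = F (rI, 0) * ψ σ

variable [Finite G]

theorem M.centD (h : M true true J F) {v : V27} (hv : 2 ≤ cls3 v) : centralizer {F (i0, v)} ≤ 𝓗 :=
  (h.cent (by rintro rfl; exact absurd hv (by decide))).resolve_right fun e => by omega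

theorem M.emb_e (h : M true true J F) {g : G} (hg : g * F (i0, 1, 1, 0) * g⁻¹ ∈ J) : g ∈ 𝓗 :=
  h.emb_j (h.par.mem' _) (h.centD (by decide)) hg

theorem M.exists_K (h : M true true J F) : ∃ K ≤ centralizer {𝓩}, centralizer {𝓩} ≤ J ⊔ K ∧
    normalizer (centralizer {𝓩} : Set G) ≤ normalizer (K : Set G) ∧
    J ⊓ K = J ⊓ centralizer {𝓡} ∧ (∀ i, act i (0, 0, 1) = (0, 0, 1) → F (i, 0) ∈ K) ∧
    (K ≤ 𝓗 ∨ Nonempty (K ≃* Perm (Fin 6))) := by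
  have hJ := h.le_cent (h.par.mem' (0, 0, 1))
  have hP := (h.wj.wn' _).sylow h.pgrp hJ fun g hg hn => by
    obtain ⟨y, hy, h1, rfl⟩ := h.stab hn hg
    rw [← h.pow hy, h.mem_J (ok_pw hy 4)]
    exact ((stab_z _ h1).2.2.1 y.2).1
  obtain ⟨K, k1, k2, -, k4, k5⟩ := P43.exists_tr (W := J ⊓ centralizer {𝓡}) hP
    fun x hx g hg e => by
      obtain ⟨k, h1, h2, h3⟩ := (h.wj.wn' _).fusion h.pgrp h.par.comm hJ hx hg e
      obtain ⟨y, hy, h4, rfl⟩ := h.stab h2 h1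
      obtain ⟨v, rfl⟩ := (h.par.mem x).mp hx
      rw [← h3, h.sub hy, h.mem_Cj (okD _)]
      exact ((stab_z _ h4).2.2.1 v).2.1
  have k6 : ∀ i, act i (0, 0, 1) = (0, 0, 1) → F (i, 0) ∈ K := fun i hi => k4 _
    (mem_centralizer_singleton_iff.mpr ((h.act_eq (x := (i, 0)) (okD _)).mpr hi))
    (Nat.Coprime.coprime_dvd_left (orderOf_dvd_of_pow_eq_one
      ((h.pw_eq (y := (i, 0)) (okD _)).mp (stab_z i hi).1)) (by norm_num))
  have hD : J ⊓ K = J ⊓ centralizer {𝓡} := le_antisymm k5 fun g hg => ⟨hg.1, by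
    obtain ⟨v, rfl⟩ := (h.par.mem g).mp hg.1
    have := mul_mem (k6 dI rfl) (conj_mem_of_mem_normalizer (k2 (le_normalizer (hJ hg.1)))
      (inv_mem (k6 dI rfl)))
    rwa [← mul_assoc, ← mul_assoc, h.conj_j (x := (dI, 0)) (okD _), ← h.par.neg, ← h.par.add,
      (by decide : ∀ v, act rI v = v → act dI v + -v = v) v ((h.mem_Cj (okD _)).mp hg)] at this⟩
  refine ⟨K, k1, hP.le_sup_of_coprime k4, k2, hD, k6, ?_⟩
  have hP' := (hP.inf_of_le_normalizer k1 (le_normalizer.trans k2)).subgroupOf le_rfl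
  rw [subgroupOf_self] at hP'
  obtain ⟨P, hPS⟩ := hP'.exists_sylow_of_top
  set S := (J ⊓ K).subgroupOf K with hS
  have eS : ∀ {v}, act rI v = v → F (i0, v) ∈ J ⊓ K := fun hv => hD ▸ (h.mem_Cj (okD _)).mpr hv
  have n1 : ∀ g : K, g ∈ normalizer (S : Set K) ↔ (g : G) ∈ 𝓗 := fun g =>
    ⟨fun hg => h.emb_e (conj_mem_of_mem_normalizer (N := S) hg
      (n := ⟨_, (eS (v := (1, 1, 0)) rfl).2⟩) (eS rfl)).1, fun hg => mem_normalizer_of_conj_mem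
        fun j hj => ⟨conj_mem_of_mem_normalizer (G := G) hg hj.1, (g * j * g⁻¹).2⟩⟩
  obtain ⟨φ, hφ⟩ := h.exists_hom (K.subtype.comp (normalizer (S : Set K)).subtype)
    (fun i => act i (0, 0, 1) = (0, 0, 1)) (fun g => h.stab ((n1 _).mp g.2) (k1 g.1.2)) dih dih_mul
  have hs : Function.Surjective φ := fun a => by
    obtain ⟨i, h1, rfl⟩ := dih_surj a
    exact ⟨⟨⟨_, k6 i h1⟩, (n1 _).mpr (h.mem' (okD _))⟩, hφ _ (i, 0) (okD _) rfl⟩
  have hk : S.subgroupOf (normalizer (S : Set K)) = φ.ker := by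
    ext g
    obtain ⟨y, hy, h1, e⟩ := h.stab ((n1 _).mp g.2) (k1 g.1.2)
    rw [MonoidHom.mem_ker, hφ g y hy e]
    change (g.1.1 ∈ J ∧ g.1.1 ∈ K) ↔ _
    rw [and_iff_left g.1.2, ← e, h.mem_J hy]
    exact ⟨fun e => by rw [e]; rfl, (stab_z _ h1).2.1⟩
  have cz : ∀ g : K, ∀ v, (g : G) * F (i0, v) = F (i0, v) * g →
      (g : G) * F (i0, v + (0, 0, 1)) = F (i0, v + (0, 0, 1)) * g := fun g v e => by
    rw [h.par.add]
    exact Commute.mul_right e (mem_centralizer_singleton_iff.mp (k1 g.2))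
  refine Or.imp_left (fun (e : S.Normal) g hg => (n1 ⟨g, hg⟩).mp
    ((normalizer_eq_top_iff.mpr e).ge (mem_top _))) (S3333.result P S hPS.symm ?_
      (le_antisymm (fun (g : K) hg => (⟨h.cent_J fun j hj => ?_, g.2⟩ : (g : G) ∈ J ⊓ K))
        fun g hg x hx => Subtype.ext (h.par.comm _ hx.1 _ hg.1))
      ((QuotientGroup.quotientMulEquivOfEq hk).trans
        (QuotientGroup.quotientKerEquivOfSurjective φ hs)) fun x hx x1 g hg => ?_)
  · rw [hS, Nat.card_congr (subgroupOfEquivOfLe inf_le_right).toEquiv, hD]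
    exact h.par.card_subtype (· ∈ J ⊓ centralizer {𝓡}) (fun v => act rI v = v) (fun _ hg => hg.1)
      fun _ => h.mem_Cj (okD _)
  · obtain ⟨v, rfl⟩ := (h.par.mem j).mp hj
    have h1 : ∀ {v} (hv : act rI v = v), (g : G) * F (i0, v) = F (i0, v) * g := fun hv =>
      (congrArg Subtype.val (hg ⟨_, (eS hv).2⟩ (eS hv))).symm
    obtain ⟨w, h2, rfl | rfl | rfl⟩ := (by decide : ∀ v : V27, ∃ w, act rI w = w ∧
      (v = w ∨ v = w + (0, 0, 1) ∨ v = w + (0, 0, 1) + (0, 0, 1))) v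
    exacts [h1 h2, cz _ _ (h1 h2), cz _ _ (cz _ _ (h1 h2))]
  · obtain ⟨v, hv⟩ := (h.par.mem _).mp hx.1
    have h1 := cz g v (hv ▸ congrArg Subtype.val (mem_centralizer_singleton_iff.mp hg))
    refine (n1 g).mpr (h.centD ((by decide : ∀ v, act rI v = v → v ≠ 0 → 2 ≤ cls3 (v + (0, 0, 1))) v
      ((h.mem_Cj (okD _)).mp (hD ▸ hv ▸ hx)) fun e => x1 (Subtype.ext ?_))
      (mem_centralizer_singleton_iff.mpr h1))
    rw [← show F (i0, v) = x from hv, e, h.one, coe_one]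

theorem M.exists_six (h : M true true J F) : centralizer {𝓩} ≤ 𝓗 ∨ ∃ ψ, Sx F ψ := by
  obtain ⟨K, k1, k2, k3, k4, k5, k6 | ⟨⟨ι⟩⟩⟩ := h.exists_K
  · exact Or.inl (k2.trans (sup_le le_normalizer k6))
  have eS : ∀ {v}, act rI v = v → F (i0, v) ∈ K := fun hv =>
    (k4.ge ((h.mem_Cj (okD _)).mpr hv)).2
  have nc : ∀ {u v}, cls3 u ≠ cls3 v → ¬ IsConj (F (i0, u)) (F (i0, v)) := fun e e' => e (h.cls_eq e')
  let ψ := K.subtype.comp ι.symm.toMonoidHom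
  have p1 : Function.Injective ψ := K.subtype_injective.comp ι.symm.injective
  have p3 : ∀ g, g ∈ K ↔ ∃ σ, ψ σ = g := fun g => ⟨fun hg => ⟨ι ⟨g, hg⟩, by simp [ψ]⟩, by
    rintro ⟨σ, rfl⟩; exact (ι.symm σ).2⟩
  clear_value ψ
  obtain ⟨α, ha⟩ := (p3 _).mp (eS (v := (1, 0, 0)) rfl)
  obtain ⟨β, hb⟩ := (p3 _).mp (eS (v := (0, 1, 0)) rfl)
  obtain ⟨θ, -, t2, rfl, rfl⟩ := S9.exists_relabel (α := α) (β := β)
    (p1 (by rw [map_pow, ha, map_one, h.cube (h.par.mem' _)]))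
    (fun e => h.par.ne_one (v := (1, 0, 0)) (by decide) (by rw [← ha, e, map_one]))
    (p1 (by rw [map_pow, hb, map_one, h.cube (h.par.mem' _)]))
    (p1 (by rw [map_mul, map_mul, ha, hb, h.par.comm _ (h.par.mem' _) _ (h.par.mem' _)]))
    (fun g e => nc (u := (1, 0, 0)) (v := (1, 0, 0) + (0, 1, 0)) (by decide) (by
      rw [h.par.add, ← ha, ← hb, ← map_mul]; exact ψ.map_isConj (isConj_iff.mpr ⟨g, e⟩)))
    (fun g e => nc (u := (1, 0, 0)) (v := (1, 0, 0) + -(0, 1, 0)) (by decide) (by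
      rw [h.par.add, h.par.neg, ← ha, ← hb, ← map_inv, ← map_mul]
      exact ψ.map_isConj (isConj_iff.mpr ⟨g, e⟩)))
  let φ : P6 →* G := (ψ.comp θ).comp CP.equiv.symm.toMonoidHom
  have q1 : ∀ σ, φ (CP.of σ) = ψ (θ σ) := fun σ =>
    congrArg (fun x => ψ (θ x)) (CP.equiv.symm_apply_apply σ)
  have q2 : Function.Injective φ :=
    (p1.comp (Finite.injective_iff_surjective.mpr t2)).comp CP.equiv.symm.injective
  clear_value φ
  have q3 : ∀ g, g ∈ K ↔ ∃ σ, φ σ = g := fun g => by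
    rw [p3]
    refine ⟨fun ⟨σ, e⟩ => ?_, fun ⟨σ, e⟩ => ?_⟩
    · obtain ⟨σ, rfl⟩ := t2 σ
      exact ⟨_, (q1 σ).trans e⟩
    · obtain ⟨σ, rfl⟩ := CP.of_surjective σ
      exact ⟨_, (q1 σ).symm.trans e⟩
  have q4 : ∀ σ, φ σ ∈ K := fun σ => (q3 _).mpr ⟨σ, rfl⟩
  replace ha : φ c = _ := (q1 _).trans ha
  replace hb : φ d = _ := (q1 _).trans hb
  have hJ := h.le_cent (h.par.mem' (0, 0, 1))
  have dec : ∀ v, ∃ k : ℕ, ∃ w, act rI w = w ∧ F (i0, v) = 𝓩 ^ k * F (i0, w) := fun v => by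
    obtain ⟨k, w, h1, h2⟩ := (by decide : ∀ v, ∃ k : Fin 3, ∃ w, act rI w = w ∧
      (i0, v) = mx (pw (i0, 0, 0, 1) k) (i0, w)) v
    exact ⟨k, w, h1, by rw [h2, h.mul (okD _) (okD _), h.pow (okD _)]⟩
  have q5 : ∀ σ ∈ [S9.r, S9.y, sw 1 2, sw 3 4, sw 3 5], φ σ * 𝓡 = 𝓡 * φ σ := fun σ hσ => by
    have h1 : φ σ ∈ 𝓗 := h.emb_e (by
      rw [show ((1, 1, 0) : V27) = (1, 0, 0) + (0, 1, 0) from rfl, h.par.add, ← ha, ← hb, ← map_mul,
        ← map_inv, ← map_mul, ← map_mul]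
      rcases rel_sw.2 σ hσ with e | e <;> rw [e, map_mul, map_inv, ha, hb]
      exacts [mul_mem (inv_mem (h.par.mem' _)) (h.par.mem' _),
        mul_mem (h.par.mem' _) (inv_mem (h.par.mem' _))])
    obtain ⟨y, hy, h2, e⟩ := h.stab h1 (k1 (q4 σ))
    have h3 := q4 σ
    rw [← e, h.split hy] at h3 ⊢
    rw [mul_mem_cancel_right (k5 _ h2)] at h3
    exact Commute.mul_left (mem_centralizer_singleton_iff.mp (k4.le ⟨h.par.mem' _, h3⟩).2)
      ((h.cm (x := (y.1, 0)) (y := (rI, 0)) hy (okD _)).mpr (stab_z _ h2).2.2.2)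
  have rz : 𝓡 * 𝓩 * 𝓡⁻¹ = 𝓩⁻¹ := by rw [h.conj_j (x := (rI, 0)) (okD _), ← h.par.neg]; rfl
  obtain ⟨σ, hσ⟩ := (q3 _).mp (conj_mem_of_mem_normalizer (k3 (mem_normalizer_of_conj_mem
    (g := 𝓡) fun g hg => mem_centralizer_singleton_iff.mpr (Commute.inv_right_iff.mp (by
      rw [← rz]
      exact (Commute.map (mem_centralizer_singleton_iff.mp hg) (MulAut.conj 𝓡) :))))) (q4 (sw 2 3)))
  have q6 : ∀ τ ∈ [S9.r, S9.y, sw 1 2, sw 3 4, sw 3 5], φ (σ * τ) = 𝓡 * φ (sw 2 3 * τ) * 𝓡⁻¹ ∧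
      φ (τ * σ) = 𝓡 * φ (τ * sw 2 3) * 𝓡⁻¹ := fun τ hτ => by
    rw [map_mul, map_mul, map_mul, map_mul, hσ, ← conj_mul, ← conj_mul, ← q5 τ hτ,
      mul_inv_cancel_right]
    exact ⟨rfl, rfl⟩
  obtain ⟨r1, r2, r3, r4⟩ := rel_sw.1
  obtain rfl := eq_sw σ (q2 (by rw [(q6 _ (by simp)).1, (q6 _ (by simp)).2, r1]))
    (q2 (by rw [(q6 _ (by simp)).1, (q6 _ (by simp)).2, r2]))
    (q2 (by rw [map_pow, (q6 _ (by simp)).1, conj_pow, ← map_pow, r3]; simp))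
    (q2 (by rw [map_pow, (q6 _ (by simp)).1, conj_pow, ← map_pow, r4]; simp))
  refine Or.inr ⟨φ, q2, ha, hb, fun σ => mem_centralizer_singleton_iff.mp (k1 (q4 σ)),
    fun g hg => ?_, fun σ => mem_centralizer_singleton_iff.mp (S9.mem_of_sw (ψ := φ) ?_ ?_ ?_ ?_ ?_ σ)⟩
  · obtain ⟨j, hj, x, hx, rfl⟩ := (mem_sup_of_left_le_normalizer
      (hJ.trans (le_normalizer.trans k3))).mp (k2 (mem_centralizer_singleton_iff.mpr hg))
    obtain ⟨v, rfl⟩ := (h.par.mem j).mp hj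
    obtain ⟨k, w, h1, h2⟩ := dec v
    obtain ⟨σ, e⟩ := (q3 _).mp (mul_mem (eS h1) hx)
    exact ⟨k, σ, by rw [e, ← mul_assoc, ← h2]⟩
  all_goals rw [mem_centralizer_singleton_iff]
  exacts [q5 _ (by simp), q5 _ (by simp), eq_mul_inv_iff_mul_eq.mp hσ, q5 _ (by simp),
    q5 _ (by simp)]

end Cfsg.Agent.Char.B3
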