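import Cfsg.Agent.Char.A8Loc
import Cfsg.Agent.S3333

/-!
# Involution centralisers with a self-centralising Sylow `3`-subgroup of order nine
-/

set_option autoImplicit false
set_option synthInstance.maxSize 4096

namespace Cfsg.Agent.Char

open Subgroup Local Equiv
open scoped Pointwise

variable {G : Type*} [Group G]

theorem exists_quot_inv {u : G} (hc : ∀ g, g * u = u * g) (hu : u * u = 1) :
    ∃ (N : Subgroup G) (_ : N.Normal), ∀ g, QuotientGroup.mk' N g = 1 ↔ g = 1 ∨ g = u := by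
  have h2 : u ^ 2 = 1 := by rw [pow_two, hu]
  have hN : (zpowers u).Normal := ⟨fun n hn g => by
    obtain ⟨k, rfl⟩ := hn
    change g * u ^ k * g⁻¹ ∈ _
    rw [(Commute.zpow_right (hc g) k).eq, mul_inv_cancel_right]
    exact zpow_mem (mem_zpowers u) k⟩
  refine ⟨zpowers u, hN, fun g => ?_⟩
  rw [QuotientGroup.mk'_apply, QuotientGroup.eq_one_iff]
  refine ⟨?_, by rintro (rfl | rfl); exacts [one_mem _, mem_zpowers _]⟩
  rintro ⟨k, rfl⟩
  have h3 : u ^ (2 : ℤ) = 1 := by exact_mod_cast h2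
  change u ^ k = 1 ∨ u ^ k = u
  rw [zpow_eq_zpow_emod k h3]
  rcases Int.emod_two_eq_zero_or_one k with e | e <;> simp [e]

/-- The centraliser of `c` modulo `c` is the symmetric group of degree six. -/
structure S6Q (c : G) (F : G → Perm (Fin 6)) : Prop where
  mul : ∀ g h, g * c = c * g → h * c = c * h → F (g * h) = F g * F h
  surj : ∀ σ, ∃ g, g * c = c * g ∧ F g = σ
  ker : ∀ g, g * c = c * g → (F g = 1 ↔ g = 1 ∨ g = c)

theorem S6Q.conj {c : G} {F : G → Perm (Fin 6)} (h : S6Q c F) (k : G) :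
    S6Q (k * c * k⁻¹) fun g => F (k⁻¹ * g * k) := by
  have e : ∀ g, g * (k * c * k⁻¹) = k * c * k⁻¹ * g → k⁻¹ * g * k * c = c * (k⁻¹ * g * k) :=
    fun g hg => by
      calc _ = k⁻¹ * (g * (k * c * k⁻¹)) * k := by group
        _ = _ := by rw [hg]; group
  refine ⟨fun g l hg hl => ?_, fun σ => ?_, fun g hg => ?_⟩
  · rw [← h.mul _ _ (e g hg) (e l hl)]; congr 1; group
  · obtain ⟨g, h1, h2⟩ := h.surj σ
    exact ⟨k * g * k⁻¹, by rw [conj_mul, conj_mul, h1], by rw [← h2]; congr 1; group⟩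
  · rw [h.ker _ (e g hg)]
    exact or_congr ⟨fun e => by simpa using conj_eq_one_iff (a := k⁻¹) (b := g).mp (by simpa using e),
      fun e => by simp [e]⟩ ⟨fun e => by rw [← e]; group, fun e => by rw [e]; group⟩

theorem S6Q.eq {c : G} {F : G → Perm (Fin 6)} (h : S6Q c F) {g k : G} (hg : g * c = c * g)
    (hk : k * c = c * k) (e : F g = F k) : g = k ∨ g = k * c := by
  have h1 : F 1 = 1 := (h.ker 1 (by simp)).mpr (Or.inl rfl)
  have h2 : k⁻¹ * c = c * k⁻¹ := Commute.inv_left hk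
  rcases (h.ker (k⁻¹ * g) (Commute.mul_left h2 hg)).mp (by
    rw [h.mul _ _ h2 hg, e, ← h.mul _ _ h2 hk, inv_mul_cancel, h1]) with e | e
  · exact Or.inl (inv_mul_eq_one.mp e).symm
  · exact Or.inr (by rw [← e]; group)

theorem s6_dich [Finite G] {D : Subgroup G} {c : G} (hS : IsSylowIn 3 D ⊤) (h9 : Nat.card D = 9)
    (h3 : ∀ d ∈ D, d ^ 3 = 1) (hc : c * c = 1) (hc1 : c ≠ 1)
    (hC : ∀ g, g ∈ centralizer (D : Set G) ↔ g ∈ D ∨ g * c ∈ D)
    (hN : ∀ g ∈ normalizer (D : Set G), g * c = c * g)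
    [((centralizer (D : Set G)).subgroupOf (normalizer (D : Set G))).Normal]
    (eN : normalizer (D : Set G) ⧸ (centralizer (D : Set G)).subgroupOf (normalizer (D : Set G)) ≃*
      DihedralGroup 4)
    (hd : ∀ d ∈ D, d ≠ 1 → ∀ g, g * d = d * g → g * c = c * g → g ∈ normalizer (D : Set G)) :
    (∀ g, g * c = c * g → g ∈ normalizer (D : Set G)) ∨ ∃ F, S6Q c F := by
  classical
  have : Fact (Nat.Prime 3) := ⟨Nat.prime_three⟩
  set Y := centralizer ({c} : Set G)
  have hm : ∀ {g}, g * c = c * g → g ∈ Y := fun hg => mem_centralizer_singleton_iff.mpr hg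
  have hm' : ∀ g : Y, (g : G) * c = c * g := fun g => mem_centralizer_singleton_iff.mp g.2
  obtain ⟨N, hN', hk⟩ := exists_quot_inv (u := (⟨c, hm rfl⟩ : Y)) (fun g => Subtype.ext (hm' g))
    (Subtype.ext hc)
  have hf := QuotientGroup.mk'_surjective N
  generalize QuotientGroup.mk' N = f at hk hf
  have hDY : D ≤ Y := fun d hd => hm (hN d (le_normalizer hd))
  have eq3 : ∀ x y : Y, f x = f y → (x : G) ^ 3 = 1 → (y : G) ^ 3 = 1 → x = y := fun x y e hx hy => by
    rcases eq_or_of_ker hk e with e | e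
    · exact e
    · rw [e, coe_mul, Commute.mul_pow (hm' y), hy, one_mul, pow_three, hc, mul_one] at hx
      exact absurd hx hc1
  set S := (D.subgroupOf Y).map f with hSdef
  have hmS : ∀ x : Y, f x ∈ S ↔ (x : G) ∈ centralizer (D : Set G) := fun x => by
    rw [hC]
    refine ⟨fun ⟨d, hd, e⟩ => (eq_or_of_ker hk e).imp (fun e => by rw [← e]; exact hd) fun e => ?_, ?_⟩
    · have : (d : G) ∈ D := hd
      simpa [e] using this
    · rintro (e | e)
      · exact ⟨x, e, rfl⟩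
      · exact ⟨x * ⟨c, hm rfl⟩, e, by rw [map_mul, (hk _).mpr (Or.inr rfl), mul_one]⟩
  have hcj : ∀ (g d : Y), (d : G) ∈ D → f (g * d * g⁻¹) ∈ S → (g : G) * d * (g : G)⁻¹ ∈ D :=
    fun g d hd ⟨d', hd', e⟩ => by
      have := eq3 d' _ e (h3 _ hd') (by simp [conj_pow, h3 _ hd])
      exact (congrArg Subtype.val this).subst (motive := (· ∈ D)) hd'
  have hNS : ∀ g : Y, f g ∈ normalizer (S : Set _) ↔ (g : G) ∈ normalizer (D : Set G) := fun g => by
    refine ⟨fun h => mem_normalizer_of_conj_mem fun d hd => hcj g ⟨d, hDY hd⟩ hd (by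
      simpa using conj_mem_of_mem_normalizer h ⟨⟨d, hDY hd⟩, hd, rfl⟩),
      fun h => mem_normalizer_of_conj_mem ?_⟩
    rintro _ ⟨d, hd, rfl⟩
    exact ⟨g * d * g⁻¹, (conj_mem_of_mem_normalizer (G := G) h hd :), by simp⟩
  have hcm : ∀ (g d : Y), (d : G) ∈ D → f g * f d = f d * f g → (g : G) * d = d * g :=
    fun g d hd e => mul_inv_eq_iff_eq_mul.mp (congrArg Subtype.val (eq3 (g * d * g⁻¹) d
      (by simp [e]) (by simp [conj_pow, h3 _ hd]) (h3 _ hd)))
  have hS' : IsSylowIn 3 S ⊤ := by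
    have := ((hS.of_le hDY le_top).subgroupOf le_rfl).map f
    rwa [subgroupOf_self, ← MonoidHom.range_eq_map, MonoidHom.range_eq_top.mpr hf] at this
  obtain ⟨P, hP⟩ := hS'.exists_sylow_of_top
  let ρ : normalizer (D : Set G) →* normalizer (S : Set _) :=
    (f.comp (inclusion fun g hg => hm (hN g hg))).codRestrict _ fun g => (hNS _).mpr g.2
  have hρ : Function.Surjective ((QuotientGroup.mk' (S.subgroupOf (normalizer (S : Set _)))).comp ρ) :=
    (QuotientGroup.mk'_surjective _).comp fun ⟨x, hx⟩ => by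
      obtain ⟨g, rfl⟩ := hf x
      exact ⟨⟨g, (hNS g).mp hx⟩, rfl⟩
  rcases S3333.result P S hP.symm (by
      rw [← h9, ← Nat.card_congr (subgroupOfEquivOfLe hDY).toEquiv]
      refine (Nat.card_congr (Equiv.ofBijective (f.subgroupMap _) ⟨fun x y e => Subtype.ext
        (eq3 _ _ (congrArg Subtype.val e) (h3 _ x.2) (h3 _ y.2)), f.subgroupMap_surjective _⟩)).symm)
    (by
      ext x
      obtain ⟨g, rfl⟩ := hf x
      rw [hmS]
      refine ⟨fun h d hd => (hcm g ⟨d, hDY hd⟩ hd (h _ ⟨_, hd, rfl⟩).symm).symm, fun h => ?_⟩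
      rintro _ ⟨d, hd, rfl⟩
      rw [← map_mul, ← map_mul]
      exact congrArg f (Subtype.ext (h d hd)))
    ((QuotientGroup.quotientKerEquivOfSurjective _ hρ).symm.trans
      ((QuotientGroup.quotientMulEquivOfEq (by
        ext g
        exact (QuotientGroup.eq_one_iff _).trans (hmS _))).trans eN))
    (by
      rintro _ ⟨d, hd', rfl⟩ h1 x hx
      obtain ⟨g, rfl⟩ := hf x
      exact (hNS g).mpr (hd d hd' (fun e => h1 (by rw [show d = 1 from Subtype.ext e, map_one])) g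
        (hcm g d hd' (mem_centralizer_singleton_iff.mp hx)) (hm' g))) with h | ⟨⟨e⟩⟩
  · exact Or.inl fun g hg => (hNS ⟨g, hm hg⟩).mp (by rw [normalizer_eq_top]; trivial)
  · refine Or.inr ⟨fun g => if h : g ∈ Y then e (f ⟨g, h⟩) else 1, fun g k hg hk' => ?_, fun σ => ?_,
      fun g hg => ?_⟩
    · rw [dif_pos (hm hg), dif_pos (hm hk'), dif_pos (mul_mem (hm hg) (hm hk')), ← map_mul, ← map_mul]
      rfl
    · obtain ⟨g, hg⟩ := (e.surjective.comp hf) σ
      exact ⟨g, hm' g, by rw [dif_pos g.2]; exact hg⟩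
    · rw [dif_pos (hm hg), map_eq_one_iff _ e.injective, hk]
      simp [Subtype.ext_iff]

end Cfsg.Agent.Char
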