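import Cfsg.Agent.Char.B3Loc
import Cfsg.Agent.Char.NineSS
import Cfsg.Agent.Char.S6Q

/-!
# The centraliser of the involution interchanging two coordinates
-/

set_option autoImplicit false
set_option synthInstance.maxSize 4096

namespace Cfsg.Agent.Char.B3

open Subgroup Local
open A9 (cls3)
open scoped Pointwise

/-- The embedding of the plane fixed by `t`. -/
def pl (v : V9) : V27 := (v.1, v.1, v.2)

theorem cent_tX : ∀ y : X, mx y (tI, 0) = mx (tI, 0) y → pw y 6 = (i0, 0) ∧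
    (pw y 3 = (i0, 0) → y.1 = i0) ∧ (∀ u v, act y.1 (pl u) = pl v → clsS u = clsS v) ∧
    (ok false true y.1 → ∀ u, act tI u = u → act y.1 u = u ∨ act y.1 u = -u) ∧
    ∀ δ, ok δ false y.1 → (∀ u, act tI u = u → -u + act y.1 u = 0 ∨ -u + act y.1 u = (1, 1, 0) ∨
      -u + act y.1 u = -(1, 1, 0)) ∧
      (act y.1 (1, 1, 0) = (1, 1, 0) → y.1 = i0 ∨ (mx y (tI, 0)).1 = i0) := by decide +kernel

theorem card_cent_tX : (Finset.univ.filter fun x : X => ok true true x.1 ∧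
    mx x (tI, 0) = mx (tI, 0) x).card = 72 := by decide +kernel

theorem pl_cls : ∀ u v, clsS u = clsS v → ∃ i, mx (i, 0) (tI, 0) = mx (tI, 0) (i, 0) ∧
    act i (pl u) = pl v := by decide +kernel

variable {G : Type*} [Group G] {δ m : Bool} {J : Subgroup G} {F : X → G}

/-- The image of a subgroup. -/
abbrev im' {Y : Subgroup G} {Q : Type*} [Group Q] (f : Y →* Q) (A : Subgroup G) : Subgroup Q :=
  (A.subgroupOf Y).map f

theorem mem_zpowers_iff_of_sq {u g : G} (hu : u * u = 1) : g ∈ zpowers u ↔ g = 1 ∨ g = u := by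
  refine ⟨?_, by rintro (rfl | rfl); exacts [one_mem _, mem_zpowers _]⟩
  rintro ⟨k, rfl⟩
  have h3 : u ^ (2 : ℤ) = 1 := by rw [zpow_two, hu]
  change u ^ k = 1 ∨ u ^ k = u
  rw [zpow_eq_zpow_emod k h3]
  rcases Int.emod_two_eq_zero_or_one k with e | e <;> simp [e]

local notation "𝓗" => normalizer (J : Set G)
local notation "𝓣" => F (tI, 0)

theorem M.tt (h : M δ m J F) : 𝓣 * 𝓣 = 1 := (h.sq (y := (tI, 0)) okt).mpr rfl

theorem M.stab_t (h : M δ m J F) {g : G} (hg : g ∈ 𝓗) (e : g ∈ centralizer {𝓣}) :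
    ∃ y, ok δ m y.1 ∧ mx y (tI, 0) = mx (tI, 0) y ∧ F y = g := by
  obtain ⟨y, hy, rfl⟩ := (h.mem g).mp hg
  exact ⟨y, hy, (h.cm hy okt).mp (mem_centralizer_singleton_iff.mp e), rfl⟩

theorem M.mem_J_of_t (h : M δ m J F) {g : G} (hg : g ∈ 𝓗) (e : g ∈ centralizer {𝓣}) {k : ℕ}
    (hk : g ^ 3 ^ k = 1) : g ∈ J := by
  obtain ⟨y, hy, h1, rfl⟩ := h.stab_t hg e
  obtain ⟨h2, h3, -⟩ := cent_tX y h1
  rw [h.mem_J hy]
  refine h3 ((h.pw_eq hy).mpr ?_)
  rw [h.pw_eq hy] at h2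
  rw [← orderOf_dvd_iff_pow_eq_one] at hk h2 ⊢
  exact (Nat.Coprime.coprime_dvd_left hk (Nat.Coprime.pow_left k (by norm_num : Nat.Coprime 3 2))
    ).dvd_of_dvd_mul_left (n := 3) h2

variable [Finite G]

theorem M.sylow_D (h : M δ m J F) : IsSylowIn 3 (J ⊓ centralizer {𝓣}) (centralizer {𝓣}) :=
  isSylowIn_of_isSylowIn_normalizer inf_le_right (isSylowIn_of_maximal
    (le_inf inf_le_right le_normalizer) h.pgrp.to_inf_left fun R hR h1 h2 =>
      le_antisymm (fun r hr => by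
        obtain ⟨k, hk⟩ := hR ⟨r, hr⟩
        exact ⟨h.mem_J_of_t (h.norm_D (h2 hr).2) (h2 hr).1 (congrArg Subtype.val hk), (h2 hr).1⟩) h1)

variable (h : M δ m J F) (hall : ∀ v, v ≠ 0 → centralizer {F (i0, v)} ≤ normalizer (J : Set G))
include h hall

theorem M.emb {j g : G} (hj : j ∈ J) (h1 : j ≠ 1) (hg : g * j * g⁻¹ ∈ J) : g ∈ 𝓗 := by
  obtain ⟨v, rfl⟩ := (h.par.mem j).mp hj
  exact h.emb_j hj (hall v fun e => h1 (by rw [e, h.one])) hg

theorem M.gen_D {K : Subgroup G} (h3 : ¬ 3 ∣ Nat.card K)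
    (hD : J ⊓ centralizer {𝓣} ≤ normalizer (K : Set G)) : K ≤ 𝓗 := by
  refine le_of_centralizer_le_of_rank_two Nat.prime_three (a := F (i0, 0, 0, 1))
    (b := F (i0, 1, 1, 0)) (hD ((h.mem_Cj okt).mpr rfl)) (hD ((h.mem_Cj okt).mpr rfl))
    (h.par.comm _ (h.par.mem' _) _ (h.par.mem' _)) (h.par.cube V27_three _) (h.ord (by decide))
    (by rw [P43.par_zp h.par V27_three (by decide)]; decide) h3 fun e he h1 g hg => ?_
  have h2 : e ∈ J := (closure_le J).mpr (by
    rintro _ (rfl | rfl) <;> exact h.par.mem' _) he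
  exact h.emb hall h2 h1 (by rwa [mem_centralizer_singleton_iff.mp hg.2, mul_inv_cancel_right])

theorem M.cent_tB (hδ : δ = false) (hm : m = true) : centralizer {𝓣} ≤ 𝓗 := by
  subst hδ hm
  have hn : ok false true nI := rfl
  obtain ⟨L, -, l1, l2, l3, -⟩ := G23.st_main h.sylow_D (fun x hx y hy => h.par.comm x hx.1 y hy.1)
    (fun x hx => h.cube hx.1) (by rw [h.card_D]; norm_num) (fun g hg hn x hx => by
      obtain ⟨y, hy, h4, e⟩ := h.stab_t (inv_mem (h.norm_D hn)) (inv_mem hg)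
      obtain ⟨v, rfl⟩ := (h.par.mem x).mp hx.1
      rw [← inv_inv g, ← e, inv_inv, h.conj_j hy, ← h.par.neg, h.par.inj.eq_iff, h.par.inj.eq_iff]
      exact (cent_tX y h4).2.2.2.1 hy v ((h.mem_Cj okt).mp hx)) (τ := F (nI, 0))
    (mem_centralizer_singleton_iff.mpr ((h.cm (x := (nI, 0)) (y := (tI, 0)) hn okt).mpr rfl))
    fun x hx => by
      obtain ⟨v, rfl⟩ := (h.par.mem x).mp hx.1
      rw [h.conj_j (x := (nI, 0)) hn, ← h.par.neg, (by decide : ∀ v, act nI v = -v)]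
  intro g hg
  obtain ⟨k, hk, e⟩ := l3 g hg
  exact (mul_mem_cancel_left (inv_mem (h.gen_D hall l2
    (inf_le_right.trans (le_normalizer.trans l1)) hk))).mp (h.norm_D e)

theorem M.cent_tC (hm : m = false) : centralizer {𝓣} ≤ 𝓗 := by
  subst hm
  set Y := centralizer ({𝓣} : Set G) with hY
  have eD : F (i0, 1, 1, 0) ∈ J ⊓ Y := (h.mem_Cj okt).mpr rfl
  have we := h.wc_j (v := (1, 1, 0)) (by decide) (by cases δ <;> decide) (hall _ (by decide))
  obtain ⟨K, k1, k2, k3, k4, k5⟩ := P43.exists_tr (W := zpowers (F (i0, 1, 1, 0))) h.sylow_D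
    fun x hx g hg e => by
      by_cases h1 : x = 1
      · simp [h1]
      obtain ⟨y, hy, h4, rfl⟩ := h.stab_t (h.emb hall hx.1 h1 e.1) hg
      obtain ⟨v, rfl⟩ := (h.par.mem x).mp hx.1
      rw [h.sub hy, P43.par_zp h.par V27_three (by decide)]
      exact ((cent_tX y h4).2.2.2.2 δ hy).1 v ((h.mem_Cj okt).mp hx)
  have hYK : Y ≤ normalizer (K : Set G) := le_normalizer.trans k2
  have hM : zpowers (F (i0, 1, 1, 0)) ⊔ K ≤ Y := sup_le (zpowers_le.mpr eD.2) k1
  have hYM : Y ≤ normalizer ((zpowers (F (i0, 1, 1, 0)) ⊔ K : Subgroup G) : Set G) := fun g hg =>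
    mem_normalizer_of_conj_mem fun a ha => by
      simpa using mul_mem (mem_sup_right (S := zpowers (F (i0, 1, 1, 0))) (k3 g hg a (hM ha))) ha
  have tK : 𝓣 ∈ zpowers (F (i0, 1, 1, 0)) ⊔ K := mem_sup_right (k4 _
    (mem_centralizer_singleton_iff.mpr rfl) (Nat.Coprime.coprime_dvd_left (orderOf_dvd_of_pow_eq_one
      (n := 2) (by rw [pow_two, h.tt])) (by norm_num)))
  have key : ∀ g ∈ zpowers (F (i0, 1, 1, 0)) ⊔ K, g ∈ J → g ∈ zpowers (F (i0, 1, 1, 0)) :=
    fun g hg hJ => by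
      obtain ⟨c, hc, x, hx, rfl⟩ := (mem_sup_of_left_le_normalizer
        (zpowers_le.mpr (hYK eD.2))).mp hg
      exact mul_mem hc (k5 ⟨⟨(mul_mem_cancel_left (zpowers_le.mpr eD.1 hc)).mp hJ, k1 hx⟩, hx⟩)
  obtain ⟨L, -, -, l1, l2, ⟨l3, -⟩ | ⟨-, l3⟩⟩ := P43.sct_sec (D := J ⊓ Y) (h.ord (by decide))
    (mem_sup_left (mem_zpowers _)) tK h.tt (fun g hg => mem_centralizer_singleton_iff.mp (hM hg))
    (fun g hg e => by
      obtain ⟨y, hy, h4, rfl⟩ := h.stab_t (we.cent (le_normalizer eD.1) e) (hM hg)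
      refine (((cent_tX y h4).2.2.2.2 δ hy).2 ((h.act_eq hy).mp e)).imp
        (fun e => key _ hg ((h.mem_J hy).mpr e)) fun e => key _ (mul_mem hg tK) ?_
      rwa [← h.mul hy okt, h.mem_J (ok_mx hy okt)]) h.pgrp.to_inf_left (inf_le_right.trans hYM)
  · have l4 := h.gen_D hall l2 (inf_le_right.trans (hYM.trans l1))
    have l5 : K ≤ 𝓗 := fun g hg => we g (by
      rcases l3 g (mem_sup_right hg) with e | e
      · exact (mul_mem_cancel_right (inv_mem (le_normalizer eD.1))).mp (l4 e)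
      · exact (mul_mem_cancel_right (le_normalizer eD.1)).mp (l4 e))
    exact fun g hg => we g ((mul_mem_cancel_right (inv_mem (le_normalizer eD.1))).mp
      (l5 (k3 g hg _ eD.2)))
  · obtain ⟨d, hd, d1, g, -, e, h57⟩ := l3 (by rw [h.card_D])
    have := orderOf_dvd_of_pow_eq_one (h.exp (h.emb hall hd.1 d1 (g := g)
      (by rw [e, mul_inv_cancel_right]; exact hd.1)))
    rcases h57 with e | e <;> exact absurd (e.trans this) (by norm_num)

theorem M.cent_tD (hδ : δ = true) (hm : m = true) : centralizer {𝓣} ≤ 𝓗 := by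
  subst hδ hm
  set Y := centralizer ({𝓣} : Set G) with hY
  have hm' : ∀ g : Y, (g : G) * 𝓣 = 𝓣 * g := fun g => mem_centralizer_singleton_iff.mp g.2
  set τ : Y := ⟨𝓣, mem_centralizer_singleton_iff.mpr rfl⟩ with hτ
  have t1 : 𝓣 ≠ 1 := h.ne_one okt (by decide)
  obtain ⟨N, hN', hk⟩ := exists_quot_inv (u := τ) (fun g => Subtype.ext (hm' g)) (Subtype.ext h.tt)
  have hf := QuotientGroup.mk'_surjective N
  generalize QuotientGroup.mk' N = f at hk hf
  have eq3 : ∀ x y : Y, f x = f y → (x : G) ^ 3 = 1 → (y : G) ^ 3 = 1 → x = y := fun x y e hx hy => by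
    rcases eq_or_of_ker hk e with e | e
    · exact e
    · rw [e, coe_mul, Commute.mul_pow (hm' y), hy, one_mul, pow_three, h.tt, mul_one] at hx
      exact absurd hx t1
  have hp : ∀ v, F (i0, pl v) ∈ Y := fun v => ((h.mem_Cj okt).mpr rfl).2
  have c3 : ∀ v, F (i0, v) ^ 3 = 1 := h.par.cube V27_three
  have hH : ∀ g : Y, f g ∈ im' f 𝓗 ↔ (g : G) ∈ 𝓗 := fun g =>
    ⟨fun ⟨a, ha, e⟩ => by
      rcases eq_or_of_ker hk e with rfl | rfl
      · exact ha
      · exact (mul_mem_cancel_right (h.mem' okt)).mp ha, fun e => ⟨g, e, rfl⟩⟩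
  have par : Param (im' f J) fun v => f ⟨_, hp v⟩ := ⟨fun u v => by
      rw [← map_mul]; exact congrArg f (Subtype.ext (h.par.add (pl u) (pl v))),
    fun u v e => by
      have := h.par.inj (congrArg Subtype.val (eq3 _ _ e (c3 _) (c3 _)))
      clear * - this; revert u v; decide,
    fun g => ⟨fun ⟨a, ha, e⟩ => by
      obtain ⟨w, hw⟩ := (h.par.mem a).mp ha
      have h1 := (h.mem_Cj okt).mp (hw ▸ ⟨ha, a.2⟩ : F (i0, w) ∈ J ⊓ Y)
      obtain ⟨v, rfl⟩ := (by decide : ∀ w, act tI w = w → ∃ v, pl v = w) w h1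
      exact ⟨v, e ▸ congrArg f (Subtype.ext hw)⟩, fun ⟨v, e⟩ => ⟨_, h.par.mem' _, e⟩⟩⟩
  have emb : ∀ j ∈ im' f J, j ≠ 1 → ∀ g, g * j * g⁻¹ ∈ im' f 𝓗 → g ∈ im' f 𝓗 := by
    rintro _ ⟨j, hj, rfl⟩ h1 g hg
    obtain ⟨g, rfl⟩ := hf g
    rw [← map_inv, ← map_mul, ← map_mul, hH] at hg
    exact (hH g).mpr (h.emb hall hj (fun e => h1 (by rw [show j = 1 from Subtype.ext e, map_one]))
      (h.mem_J_of_t hg (g * j * g⁻¹).2 (k := 1) (by simp [conj_pow, h.cube (j := j) hj])))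
  have nm : ∀ j ∈ im' f J, ∀ g ∈ im' f 𝓗, g * j * g⁻¹ ∈ im' f J := by
    rintro _ ⟨j, hj, rfl⟩ _ ⟨g, hg, rfl⟩
    exact ⟨g * j * g⁻¹, conj_mem_of_mem_normalizer (G := G) hg hj, by simp⟩
  have hle : im' f J ≤ im' f 𝓗 := map_mono (comap_mono le_normalizer)
  have sc := sc3_of_conj_mem hle par.comm nm emb (par.mem' (1, 0)) (par.ne_one (by decide))
    (par.cube V9_three _)
  have hN : normalizer (im' f J : Set _) = im' f 𝓗 := le_antisymm (fun g hg => emb _ (par.mem' (1, 0))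
    (par.ne_one (by decide)) g (hle (conj_mem_of_mem_normalizer hg (par.mem' _))))
    fun g hg => mem_normalizer_of_conj_mem fun j hj => nm j hj g hg
  have hcls : ∀ u v, IsConj (f ⟨_, hp u⟩) (f ⟨_, hp v⟩) ↔ clsS u = clsS v := fun u v => by
    refine ⟨fun e => ?_, fun e => ?_⟩
    · by_cases hu : u = 0
      · subst hu
        rw [par.zero, isConj_one_right, ← par.zero] at e
        rw [par.inj e]
      obtain ⟨g, e⟩ := isConj_iff.mp e
      have h1 := emb _ (par.mem' u) (par.ne_one hu) g (e ▸ hle (par.mem' v))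
      obtain ⟨g, rfl⟩ := hf g
      rw [← map_inv, ← map_mul, ← map_mul] at e
      have h2 := congrArg Subtype.val (eq3 _ _ e (by simp [conj_pow, c3]) (c3 _))
      obtain ⟨y, hy, h4, e'⟩ := h.stab_t ((hH g).mp h1) g.2
      exact (cent_tX y h4).2.2.1 u v (h.par.inj ((h.conj_j hy _).symm.trans (e' ▸ h2)))
    · obtain ⟨i, h1, h2⟩ := pl_cls u v e
      have hi : ok true true i := by obtain ⟨_, _, _, _, _⟩ := i; rfl
      refine f.map_isConj (isConj_iff.mpr ⟨⟨F (i, 0), mem_centralizer_singleton_iff.mpr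
        ((h.cm (x := (i, 0)) (y := (tI, 0)) hi okt).mpr h1)⟩, Subtype.ext ?_⟩)
      exact (h.conj_j (x := (i, 0)) hi _).trans (by rw [h2])
  have c36 : Nat.card (im' f 𝓗) = 36 := by
    have h1 : f.ker = zpowers τ := by
      ext g
      rw [MonoidHom.mem_ker, hk, mem_zpowers_iff_of_sq (Subtype.ext h.tt)]
    have h2 := card_mul_relIndex (H := zpowers τ) (K := (𝓗).subgroupOf Y)
      (zpowers_le.mpr (h.mem' okt))
    rw [← h1, relIndex_ker, h1, Nat.card_zpowers, orderOf_eq_prime (p := 2)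
      (by rw [pow_two]; exact Subtype.ext h.tt) (fun e => t1 (congrArg Subtype.val e)),
      ← inf_subgroupOf_right, Nat.card_congr (subgroupOfEquivOfLe inf_le_right).toEquiv,
      show Nat.card (𝓗 ⊓ Y : Subgroup G) = 72 from (h.card_filter _ _ (fun _ hg => hg.1)
        fun z hz => by rw [mem_inf, and_iff_right (h.mem' hz), mem_centralizer_singleton_iff,
          h.cm hz okt]).trans card_cent_tX, inf_subgroupOf_right] at h2
    change 2 * Nat.card (im' f 𝓗) = 72 at h2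
    omega
  have h1 := card_le_352 sc par hcls fun i => by
    have := sc.card_centralizer par hcls (x := repS i) ((by decide : ∀ j, repS j ≠ 0) i)
    rw [hN, c36, (by decide : ∀ i, (Finset.univ.filter fun v => clsS (repS i) = clsS v).card =
      if i = 2 then 4 else 2)] at this
    split_ifs at this ⊢ <;> omega
  have h2 := sc.index_modEq hN.le
  have h3 := (im' f 𝓗).card_mul_index
  rw [par.card, show Nat.card V9 = 9 by simp] at h2
  rw [c36] at h3
  unfold Nat.ModEq at h2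
  have h4 : im' f 𝓗 = ⊤ := index_eq_one.mp (by omega)
  exact fun g hg => (hH ⟨g, hg⟩).mp (h4 ▸ mem_top _)

theorem M.cent_tt : centralizer {𝓣} ≤ 𝓗 := by
  cases m
  · exact h.cent_tC hall rfl
  · cases δ
    exacts [h.cent_tB hall rfl rfl, h.cent_tD hall rfl rfl]

end Cfsg.Agent.Char.B3
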