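import Mathlib

/-!
# A verified enumeration of the integral realisations of a Gram matrix
-/

set_option autoImplicit false

namespace Cfsg.Agent.Char.Lat

/-- The data carried along with a column. -/
abbrev St : Type := ℤ × ℤ × ℤ × ℤ

/-- Add a multiple of a weight vector. -/
def upd (p w : St) (y : ℤ) : St :=
  (p.1 + y * w.1, p.2.1 + y * w.2.1, p.2.2.1 + y * w.2.2.1, p.2.2.2 + y * w.2.2.2)

theorem upd_eq (p w : St) (y : ℤ) : upd p w y = p + y • w := rfl

/-- The greatest common divisor of the first components. -/
def gcdL : List St → ℕ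
  | [] => 0
  | p :: ps => Nat.gcd p.1.natAbs (gcdL ps)

/-- Enumerate the values of the next vector on the columns already met. -/
def go (w : St) : List St → ℕ → ℤ → (List St → ℕ → Bool) → Bool
  | [], rem, g, k => g != 0 || k [] rem
  | p :: ps, rem, g, k =>
    g.natAbs % gcdL (p :: ps) != 0 ||
    (go w ps rem g (fun L r => k (p :: L) r) &&
      (Nat.blt rem 1 || (go w ps (rem - 1) (g - p.1) (fun L r => k (upd p w 1 :: L) r) &&
        go w ps (rem - 1) (g + p.1) (fun L r => k (upd p w (-1) :: L) r))) &&
      (Nat.blt rem 4 || (go w ps (rem - 4) (g - 2 * p.1) (fun L r => k (upd p w 2 :: L) r) &&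
        go w ps (rem - 4) (g + 2 * p.1) (fun L r => k (upd p w (-2) :: L) r))))

theorem gcdL_dvd (l : List (St × ℤ)) :
    (gcdL (l.map Prod.fst) : ℤ) ∣ (l.map (fun q => q.2 * q.1.1)).sum := by
  have key : ∀ (l : List (St × ℤ)) (d : ℕ), d ∣ gcdL (l.map Prod.fst) →
      (d : ℤ) ∣ (l.map (fun q => q.2 * q.1.1)).sum := by
    intro l
    induction l with
    | nil => simp
    | cons q l ih =>
      intro d hd
      simp only [List.map_cons, List.sum_cons, gcdL] at hd ⊢
      exact dvd_add ((Int.natCast_dvd.mpr (hd.trans (Nat.gcd_dvd_left _ _))).mul_left _)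
        (ih d (hd.trans (Nat.gcd_dvd_right _ _)))
  exact key l _ dvd_rfl

theorem go_sound (w : St) (l : List (St × ℤ)) : ∀ (rem r : ℕ) (g : ℤ) (k : List St → ℕ → Bool),
    rem < 9 → g = (l.map (fun q => q.2 * q.1.1)).sum →
    (l.map (fun q => q.2 * q.2)).sum + r = rem → go w (l.map Prod.fst) rem g k = true →
    k (l.map (fun q => upd q.1 w q.2)) r = true := by
  induction l with
  | nil =>
    intro rem r g k _ hg hr h
    simp only [List.map_nil, List.sum_nil, zero_add, Nat.cast_inj] at hg hr ⊢
    simpa [go, hg, hr] using h
  | cons q l ih =>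
    intro rem r g k h9 hg hr h
    have hd := gcdL_dvd (q :: l)
    rw [← hg, Int.natCast_dvd, Nat.dvd_iff_mod_eq_zero] at hd
    obtain ⟨p, y⟩ := q
    simp only [List.map_cons, List.sum_cons] at hg hr hd h ⊢
    simp only [go, hd, bne_self_eq_false, Bool.false_or, Bool.and_eq_true, Bool.or_eq_true,
      Nat.blt_eq] at h
    have hs : 0 ≤ (l.map (fun q => q.2 * q.2)).sum := List.sum_nonneg (by
      intro x hx
      obtain ⟨q, -, rfl⟩ := List.mem_map.mp hx
      exact mul_self_nonneg _)
    obtain ⟨⟨h0, h1⟩, h2⟩ := h
    have b1 : -3 < y := by nlinarith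
    have b2 : y < 3 := by nlinarith
    interval_cases y
    · exact ih (rem - 4) r _ _ (by omega) (by linarith) (by omega) (h2.resolve_left (by omega)).2
    · exact ih (rem - 1) r _ _ (by omega) (by linarith) (by omega) (h1.resolve_left (by omega)).2
    · have := ih rem r _ _ h9 (by linarith) (by omega) h0
      simpa [upd] using this
    · exact ih (rem - 1) r _ _ (by omega) (by linarith) (by omega) (h1.resolve_left (by omega)).1
    · exact ih (rem - 4) r _ _ (by omega) (by linarith) (by omega) (h2.resolve_left (by omega)).1

/-- The search through all levels. -/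
def search (leaf : List St → Bool) : List (St × ℕ × ℤ) → List St → Bool
  | [], L => leaf L
  | (w, N, g) :: rest, L => Nat.blt N 9 &&
      go w L N g (fun L' r => Nat.blt r 4 && search leaf rest (L' ++ List.replicate r w))

/-- The state of a column after `k` levels. -/
def st (W : ℕ → St) (k : ℕ) (c : ℕ → ℤ) : St := ∑ j ∈ Finset.range k, c j • W j

/-- The data of the levels. -/
def levels (W : ℕ → St) (R : ℕ → ℕ → ℤ) : ℕ → ℕ → List (St × ℕ × ℤ)
  | _, 0 => []
  | k, m + 1 => (W k, (R k k).toNat, ((List.range k).map (fun l => R k l * (W l).1)).sum) ::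
      levels W R (k + 1) m

theorem sum_map_range (f : ℕ → ℤ) (k : ℕ) :
    ((List.range k).map f).sum = ∑ l ∈ Finset.range k, f l := by
  induction k with
  | zero => simp
  | succ k ih => rw [List.range_succ, List.map_append, List.sum_append, ih,
      Finset.sum_range_succ]; simp

theorem search_sound (W : ℕ → St) (R : ℕ → ℕ → ℤ) (leaf : List St → Bool) (n : ℕ) :
    ∀ (m k : ℕ), k + m = n → ∀ (cs : List (ℕ → ℤ)) (rest : Multiset (ℕ → ℤ)),
    (∀ j < n, ∀ l < n, (cs.map (fun c => c j * c l)).sum + (rest.map (fun c => c j * c l)).sum =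
      R j l) → (∀ c ∈ rest, ∀ j < k, c j = 0) →
    search leaf (levels W R k m) (cs.map (st W k)) = true →
    ∃ cs' : List (ℕ → ℤ), leaf (cs'.map (st W n)) = true ∧
      ∀ c, (c ∈ cs ∨ c ∈ rest) → c ∈ cs' ∨ -c ∈ cs' ∨ ∀ j < n, c j = 0 := by
  classical
  intro m
  induction m with
  | zero =>
    rintro k rfl cs rest _ h0 h
    exact ⟨cs, h, fun c hc => hc.elim Or.inl fun hc => Or.inr (Or.inr (h0 c hc))⟩
  | succ m ih =>
    intro k hk cs rest hG h0 h
    simp only [levels, search, Bool.and_eq_true, Nat.blt_eq] at h
    obtain ⟨h9, h⟩ := h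
    have hkn : k < n := by omega
    have hr0 : 0 ≤ (rest.map (fun c => c k * c k)).sum := Multiset.sum_nonneg (by
      intro x hx
      obtain ⟨c, -, rfl⟩ := Multiset.mem_map.mp hx
      exact mul_self_nonneg _)
    have hc0 : 0 ≤ (cs.map (fun c => c k * c k)).sum := List.sum_nonneg (by
      intro x hx
      obtain ⟨c, -, rfl⟩ := List.mem_map.mp hx
      exact mul_self_nonneg _)
    obtain ⟨r, hr⟩ := Int.eq_ofNat_of_zero_le hr0
    have h1 := go_sound (W k) (cs.map (fun c => (st W k c, c k))) _ r _ _ h9 ?_ ?_
      (by simpa [Function.comp_def] using h)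
    · simp only [Bool.and_eq_true, Nat.blt_eq, List.map_map, Function.comp_def] at h1
      obtain ⟨h4, h1⟩ := h1
      have hb : ∀ c ∈ rest, c k * c k = if c k = 0 then 0 else 1 := by
        intro c hc
        have : c k * c k ≤ r := hr ▸ Multiset.single_le_sum (by
          intro x hx
          obtain ⟨c, -, rfl⟩ := Multiset.mem_map.mp hx
          exact mul_self_nonneg _) _ (Multiset.mem_map_of_mem _ hc)
        have b1 : -2 < c k := by nlinarith
        have b2 : c k < 2 := by nlinarith
        generalize c k = y at *
        interval_cases y <;> simp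
      set nz := rest.filter (fun c => ¬ c k = 0) with hnz
      have hsq : ∀ c ∈ nz, c k * c k = 1 := fun c hc => by
        rw [Multiset.mem_filter] at hc
        rw [hb c hc.1, if_neg hc.2]
      have hcard : nz.card = r := by
        rw [← Multiset.filter_add_not (fun c => c k = 0) rest, Multiset.map_add, Multiset.sum_add,
          Multiset.sum_eq_zero (by
            intro x hx
            obtain ⟨c, hc, rfl⟩ := Multiset.mem_map.mp hx
            simp [(Multiset.mem_filter.mp hc).2]), ← hnz, Multiset.map_congr rfl hsq] at hr
        simpa using hr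
      obtain ⟨cs', e1, e2⟩ := ih (k + 1) (by omega) (cs ++ (nz.map (fun c => c k • c)).toList)
        (rest.filter (fun c => c k = 0)) (fun j hj l hl => by
          rw [← hG j hj l hl]
          conv_rhs => rw [← Multiset.filter_add_not (fun c => c k = 0) rest]
          rw [List.map_append, List.sum_append, Multiset.map_add, Multiset.sum_add, ← hnz,
            ← Multiset.sum_coe (List.map _ (Multiset.toList _)), ← Multiset.map_coe,
            Multiset.coe_toList, Multiset.map_map, Multiset.map_congr rfl (g := fun c => c j * c l)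
              (fun c hc => by
                simp only [Function.comp, Pi.smul_apply, smul_eq_mul]
                linear_combination c j * c l * hsq c hc)]
          ring)
        (fun c hc j hj => by
          rw [Multiset.mem_filter] at hc
          rcases Nat.lt_succ_iff_lt_or_eq.mp hj with e | rfl
          exacts [h0 c hc.1 j e, hc.2])
        (by
          rw [List.map_append]
          have e1 : List.map (st W (k + 1)) cs = cs.map (fun c => upd (st W k c) (W k) (c k)) :=
            List.map_congr_left fun c _ => by rw [upd_eq, st, st, Finset.sum_range_succ]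
          have e2 : List.map (st W (k + 1)) (nz.map (fun c => c k • c)).toList =
              List.replicate r (W k) := by
            rw [List.eq_replicate_iff]
            refine ⟨by simp [hcard], fun s hs => ?_⟩
            simp only [List.mem_map, Multiset.mem_toList, Multiset.mem_map] at hs
            obtain ⟨_, ⟨c, hc, rfl⟩, rfl⟩ := hs
            rw [st, Finset.sum_range_succ, Finset.sum_eq_zero (fun j hj => by
              simp [h0 c (Multiset.mem_filter.mp hc).1 j (Finset.mem_range.mp hj)])]
            simp [hsq c hc]
          rw [e1, e2]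
          exact h1)
      refine ⟨cs', e1, fun c hc => ?_⟩
      rcases hc with hc | hc
      · exact e2 c (Or.inl (List.mem_append_left _ hc))
      by_cases e : c k = 0
      · exact e2 c (Or.inr (Multiset.mem_filter.mpr ⟨hc, e⟩))
      have hc' : c ∈ nz := Multiset.mem_filter.mpr ⟨hc, e⟩
      have := e2 (c k • c) (Or.inl (List.mem_append_right _ (by
        rw [Multiset.mem_toList]; exact Multiset.mem_map_of_mem _ hc')))
      rcases mul_self_eq_one_iff.mp (hsq c hc') with e' | e'
      · simpa [e'] using this
      · rw [e'] at this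
        simp only [neg_smul, one_smul, neg_neg, Pi.neg_apply, neg_eq_zero] at this
        tauto
    · have : ∀ l ∈ List.range k, R k l * (W l).1 = (cs.map (fun c => c k * c l)).sum * (W l).1 := by
        intro l hl
        rw [List.mem_range] at hl
        rw [← hG k hkn l (by omega), Multiset.sum_eq_zero (by
          intro x hx
          obtain ⟨c, hc, rfl⟩ := Multiset.mem_map.mp hx
          simp [h0 c hc l hl]), add_zero]
      rw [List.map_congr_left this, sum_map_range]
      simp only [List.map_map, Function.comp_def, st, Prod.fst_sum, Prod.smul_fst, smul_eq_mul]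
      clear h hG hc0 this
      induction cs with
      | nil => simp
      | cons c cs ih =>
        simp only [List.map_cons, List.sum_cons, add_mul, Finset.sum_add_distrib, ih,
          Finset.mul_sum, mul_assoc]
    · have := hG k hkn k hkn
      simp only [List.map_map, Function.comp_def]
      omega

/-- The form used in applications. -/
theorem exists_leaf {ι : Type*} (s : Finset ι) (c : ι → ℕ → ℤ) (W : ℕ → St) (R : ℕ → ℕ → ℤ)
    (leaf : List St → Bool) (n : ℕ) (hG : ∀ j < n, ∀ l < n, ∑ i ∈ s, c i j * c i l = R j l)
    (h : search leaf (levels W R 0 n) [] = true) :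
    ∃ L : List St, leaf L = true ∧
      ∀ i ∈ s, st W n (c i) ∈ L ∨ -st W n (c i) ∈ L ∨ st W n (c i) = 0 := by
  obtain ⟨cs, h1, h2⟩ := search_sound W R leaf n n 0 (zero_add n) [] (s.val.map c)
    (fun j hj l hl => by rw [← hG j hj l hl]; simp) (by simp) h
  refine ⟨_, h1, fun i hi => ?_⟩
  rcases h2 (c i) (Or.inr (Multiset.mem_map_of_mem _ hi)) with e | e | e
  · exact Or.inl (List.mem_map_of_mem e)
  · refine Or.inr (Or.inl ?_)
    have := List.mem_map_of_mem (f := st W n) e
    simpa [st] using this
  · exact Or.inr (Or.inr (Finset.sum_eq_zero fun j hj => by simp [e j (Finset.mem_range.mp hj)]))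

end Cfsg.Agent.Char.Lat
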