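import Cfsg.Agent.Mat.Model

/-! Embeddings of `S₅` in `S₆`. -/

set_option autoImplicit false
set_option maxRecDepth 100000
set_option synthInstance.maxSize 4096

namespace Cfsg.Agent.Char.S6

open Cfsg.Agent.Mat

instance fact6 : Fact (6 ≤ 256) := ⟨by decide⟩

/-- The involutions of `S₆`. -/
def invs : List (CP 6) := cpL 6 [0x40503020100, 0x50304020100, 0x30405020100, 0x50402030100, 0x40502030100, 0x50203040100, 0x30205040100, 0x20403050100, 0x20304050100, 0x50403010200, 0x40503010200, 0x50304010200, 0x30405010200, 0x50401020300, 0x40501020300, 0x50201040300, 0x20401050300, 0x50103020400, 0x30105020400, 0x50102030400, 0x20103050400, 0x10403020500, 0x10304020500, 0x10402030500, 0x10203040500, 0x50403020001, 0x40503020001, 0x50304020001, 0x30405020001, 0x50402030001, 0x40502030001, 0x50203040001, 0x30205040001, 0x20403050001, 0x20304050001, 0x50403000102, 0x40503000102, 0x50304000102, 0x30405000102, 0x50401000302, 0x40501000302, 0x50103000402, 0x30105000402, 0x10403000502, 0x10304000502, 0x50400020103, 0x40500020103,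 0x50200040103, 0x20400050103, 0x50400010203, 0x40500010203, 0x50100020403, 0x20100050403, 0x10400020503, 0x10200040503, 0x50003020104, 0x30005020104, 0x50002030104, 0x20003050104, 0x50003010204, 0x30005010204, 0x50001020304, 0x20001050304, 0x10003020504, 0x10002030504, 0x403020105, 0x304020105, 0x402030105, 0x203040105, 0x403010205, 0x304010205, 0x401020305, 0x201040305, 0x103020405, 0x102030405] (by decide +kernel)

theorem mem_invs : ∀ σ : Equiv.Perm (Fin 6), σ * σ = 1 → σ ≠ 1 → CP.of σ ∈ invs := by
  decide +kernel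

/-- The braid relation. -/
def br (a b : CP 6) : Bool := decide (a * b * a = b * a * b)

/-- Commutation. -/
def cm (a b : CP 6) : Bool := decide (a * b = b * a)

theorem ext_chk : allL (fun a => allL (fun b => !(br a b) || decide (a = b) ||
    allL (fun c => !(cm a c) || !(br b c) || allL (fun d => !(cm a d) || !(cm b d) || !(br c d) ||
      anyL (fun x => cm x b && cm x c && cm x d && br x a) invs) invs) invs) invs) invs = true := by
  decide +kernel

theorem exists_ext {a b c d : Equiv.Perm (Fin 6)} (ha : a * a = 1) (hb : b * b = 1) (hc : c * c = 1)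
    (hd : d * d = 1) (a1 : a ≠ 1) (b1 : b ≠ 1) (c1 : c ≠ 1) (d1 : d ≠ 1) (hab : a ≠ b)
    (h1 : a * b * a = b * a * b) (h2 : b * c * b = c * b * c) (h3 : c * d * c = d * c * d)
    (h4 : a * c = c * a) (h5 : a * d = d * a) (h6 : b * d = d * b) :
    ∃ x : Equiv.Perm (Fin 6), x * a * x = a * x * a ∧ x * b = b * x ∧ x * c = c * x ∧ x * d = d * x := by
  have e : ∀ {x y : Equiv.Perm (Fin 6)}, CP.of x = CP.of y ↔ x = y := CP.equiv.injective.eq_iff
  have hbr : ∀ {x y}, br (CP.of x) (CP.of y) = true ↔ x * y * x = y * x * y := by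
    intro x y; simp only [br, decide_eq_true_eq, ← CP.of_mul, e]
  have hcm : ∀ {x y}, cm (CP.of x) (CP.of y) = true ↔ x * y = y * x := by
    intro x y; simp only [cm, decide_eq_true_eq, ← CP.of_mul, e]
  have k1 := allL_iff.mp (allL_iff.mp ext_chk _ (mem_invs a ha a1)) _ (mem_invs b hb b1)
  simp only [hbr.mpr h1, e, hab, decide_false, Bool.not_true, Bool.false_or] at k1
  have k2 := allL_iff.mp k1 _ (mem_invs c hc c1)
  simp only [hbr.mpr h2, hcm.mpr h4, Bool.not_true, Bool.false_or] at k2
  have k3 := allL_iff.mp k2 _ (mem_invs d hd d1)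
  simp only [hbr.mpr h3, hcm.mpr h5, hcm.mpr h6, Bool.not_true, Bool.false_or] at k3
  obtain ⟨x, -, hx⟩ := anyL_iff.mp k3
  obtain ⟨x, rfl⟩ := CP.of_surjective x
  simp only [Bool.and_eq_true, hbr, hcm] at hx
  exact ⟨x, hx.2, hx.1.1.1, hx.1.1.2, hx.1.2⟩

end Cfsg.Agent.Char.S6
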