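import Mathlib

/-!
# Commuting pairs in `S₆`
-/

set_option autoImplicit false
set_option synthInstance.maxSize 8192

namespace Cfsg.Agent.Char.S6

open Equiv

/-- The facts about a commuting pair in `S₆`. -/
def Six (θ : Perm (Fin 6)) : Prop := ∀ α : Perm (Fin 6), α * θ = θ * α → α ^ 3 = 1 → α ≠ 1 →
  ∃ π : Perm (Fin 6), (π * θ = θ * π ∧ π * π = 1 ∧ (π * α) ^ 3 = 1 ∧ π ≠ 1 ∧ π ≠ θ ∧
    (∀ β, β = π * (α * π * α⁻¹) → β * α * β⁻¹ ≠ 1 ∧ β * α * β⁻¹ ≠ α ∧ β * α * β⁻¹ ≠ α⁻¹) ∧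
    ∀ i < 3, (α ^ i * (α ^ i * π * (α ^ i)⁻¹) * (α ^ i)⁻¹ = π ∨
      α ^ i * (α ^ i * π * (α ^ i)⁻¹) * (α ^ i)⁻¹ = π * θ) → i = 0) ∧
    ∀ x, x * θ = θ * x → (x * x = 1 ∨ x * x = θ) → ((x * α) ^ 3 = 1 ∨ (x * α) ^ 3 = θ) →
      x = 1 ∨ x = θ ∨ ∃ i < 3, x = α ^ i * π * (α ^ i)⁻¹ ∨ x = α ^ i * π * (α ^ i)⁻¹ * θ

/-- A product of transpositions. -/
def wd (l : List (Fin 6 × Fin 6)) : Perm (Fin 6) := l.foldr (fun x y => swap x.1 x.2 * y) 1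

def L1 : List (Perm (Fin 6)) := List.map wd [[], [(4, 5)], [(3, 4)], [(3, 4), (4, 5)], [(3, 5),
  (4, 5)], [(3, 5)], [(2, 3)], [(2, 3), (4, 5)], [(2, 3), (3, 4)], [(2, 3), (3, 4), (4, 5)], [(2,
  3), (3, 5), (4, 5)], [(2, 3), (3, 5)], [(2, 4), (3, 4)], [(2, 4), (3, 4), (4, 5)], [(2, 4)],
  [(2, 4), (4, 5)], [(2, 4), (3, 5)], [(2, 4), (3, 5), (4, 5)], [(2, 5), (3, 5), (4, 5)], [(2, 5),
  (3, 5)], [(2, 5), (4, 5)], [(2, 5)], [(2, 5), (3, 4), (4, 5)], [(2, 5), (3, 4)], [(0, 1)], [(0,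
  1), (4, 5)], [(0, 1), (3, 4)], [(0, 1), (3, 4), (4, 5)], [(0, 1), (3, 5), (4, 5)], [(0, 1), (3,
  5)], [(0, 1), (2, 3)], [(0, 1), (2, 3), (4, 5)], [(0, 1), (2, 3), (3, 4)], [(0, 1), (2, 3), (3,
  4), (4, 5)], [(0, 1), (2, 3), (3, 5), (4, 5)], [(0, 1), (2, 3), (3, 5)], [(0, 1), (2, 4), (3,
  4)], [(0, 1), (2, 4), (3, 4), (4, 5)], [(0, 1), (2, 4)], [(0, 1), (2, 4), (4, 5)], [(0, 1), (2,
  4), (3, 5)], [(0, 1), (2, 4), (3, 5), (4, 5)], [(0, 1), (2, 5), (3, 5), (4, 5)], [(0, 1), (2,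
  5), (3, 5)], [(0, 1), (2, 5), (4, 5)], [(0, 1), (2, 5)], [(0, 1), (2, 5), (3, 4), (4, 5)], [(0,
  1), (2, 5), (3, 4)]]

def L3 : List (Perm (Fin 6)) := List.map wd [[], [(4, 5)], [(2, 3)], [(2, 3), (4, 5)], [(2, 4),
  (3, 5)], [(2, 4), (3, 5), (4, 5)], [(2, 5), (3, 4), (4, 5)], [(2, 5), (3, 4)], [(0, 1)], [(0,
  1), (4, 5)], [(0, 1), (2, 3)], [(0, 1), (2, 3), (4, 5)], [(0, 1), (2, 4), (3, 5)], [(0, 1), (2,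
  4), (3, 5), (4, 5)], [(0, 1), (2, 5), (3, 4), (4, 5)], [(0, 1), (2, 5), (3, 4)], [(0, 2), (1,
  3)], [(0, 2), (1, 3), (4, 5)], [(0, 2), (1, 3), (2, 3)], [(0, 2), (1, 3), (2, 3), (4, 5)], [(0,
  2), (1, 3), (2, 4), (3, 5)], [(0, 2), (1, 3), (2, 4), (3, 5), (4, 5)], [(0, 2), (1, 3), (2, 5),
  (3, 4), (4, 5)], [(0, 2), (1, 3), (2, 5), (3, 4)], [(0, 3), (1, 2), (2, 3)], [(0, 3), (1, 2),
  (2, 3), (4, 5)], [(0, 3), (1, 2)], [(0, 3), (1, 2), (4, 5)], [(0, 3), (1, 2), (2, 4), (3, 5),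
  (4, 5)], [(0, 3), (1, 2), (2, 4), (3, 5)], [(0, 3), (1, 2), (2, 5), (3, 4)], [(0, 3), (1, 2),
  (2, 5), (3, 4), (4, 5)], [(0, 4), (1, 5), (2, 4), (3, 5)], [(0, 4), (1, 5), (2, 4), (3, 5), (4,
  5)], [(0, 4), (1, 5), (2, 5), (3, 4), (4, 5)], [(0, 4), (1, 5), (2, 5), (3, 4)], [(0, 4), (1,
  5)], [(0, 4), (1, 5), (4, 5)], [(0, 4), (1, 5), (2, 3)], [(0, 4), (1, 5), (2, 3), (4, 5)], [(0,
  5), (1, 4), (2, 5), (3, 4), (4, 5)], [(0, 5), (1, 4), (2, 5), (3, 4)], [(0, 5), (1, 4), (2, 4),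
  (3, 5)], [(0, 5), (1, 4), (2, 4), (3, 5), (4, 5)], [(0, 5), (1, 4), (4, 5)], [(0, 5), (1, 4)],
  [(0, 5), (1, 4), (2, 3), (4, 5)], [(0, 5), (1, 4), (2, 3)]]

theorem memL1 : ∀ x : Perm (Fin 6), x * swap 0 1 = swap 0 1 * x → x ∈ L1 := by decide +kernel

theorem memL3 : ∀ x : Perm (Fin 6), x * (swap 0 1 * swap 2 3 * swap 4 5) =
    swap 0 1 * swap 2 3 * swap 4 5 * x → x ∈ L3 := by decide +kernel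

theorem six_of {θ π : Perm (Fin 6)} {L : List (Perm (Fin 6))} (h1 : ∀ x, x * θ = θ * x → x ∈ L)
    (h2 : ∀ α ∈ L, α ^ 3 = 1 → α ≠ 1 →
      (π * θ = θ * π ∧ π * π = 1 ∧ (π * α) ^ 3 = 1 ∧ π ≠ 1 ∧ π ≠ θ ∧
    (∀ β, β = π * (α * π * α⁻¹) → β * α * β⁻¹ ≠ 1 ∧ β * α * β⁻¹ ≠ α ∧ β * α * β⁻¹ ≠ α⁻¹) ∧
    ∀ i < 3, (α ^ i * (α ^ i * π * (α ^ i)⁻¹) * (α ^ i)⁻¹ = π ∨
      α ^ i * (α ^ i * π * (α ^ i)⁻¹) * (α ^ i)⁻¹ = π * θ) → i = 0) ∧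
    ∀ x ∈ L, (x * x = 1 ∨ x * x = θ) → ((x * α) ^ 3 = 1 ∨ (x * α) ^ 3 = θ) →
      x = 1 ∨ x = θ ∨ ∃ i < 3, x = α ^ i * π * (α ^ i)⁻¹ ∨ x = α ^ i * π * (α ^ i)⁻¹ * θ) : Six θ :=
  fun α e1 e2 e3 => ⟨π, (h2 α (h1 α e1) e2 e3).1, fun x e => (h2 α (h1 α e1) e2 e3).2 x (h1 x e)⟩

theorem six1 : Six (swap 0 1) := six_of (π := swap 2 3 * swap 4 5) memL1 (by
  simp only [forall_eq]
  decide +kernel)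

theorem six2 : Six (swap 0 1 * swap 2 3) := fun α h1 h2 h3 => absurd h2 (by
  revert α
  decide +kernel)

theorem six3 : Six (swap 0 1 * swap 2 3 * swap 4 5) := six_of (π := swap 2 3 * swap 4 5) memL3 (by
  simp only [forall_eq]
  decide +kernel)

end Cfsg.Agent.Char.S6
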