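import Cfsg.Agent.Char.AltMod

/-!
# A subgroup isomorphic to `S₈` or `S₉` controlling its elements of order three
-/

set_option autoImplicit false

namespace Cfsg.Agent.Char

open Subgroup Local Equiv

theorem isConj_of_support {α : Type*} [Fintype α] [DecidableEq α] {x y : Perm α} (hx : x * x = 1)
    (hy : y * y = 1) (h : x.support.card = y.support.card) : IsConj x y := by
  have key : ∀ x : Perm α, x * x = 1 → ∃ k, x.cycleType = Multiset.replicate k 2 ∧
      x.support.card = 2 * k := fun x h => by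
    by_cases h1 : x = 1
    · exact ⟨0, by simp [h1]⟩
    have h2 := Block.orderOf_eq_two h h1
    obtain ⟨k, hk⟩ := Perm.cycleType_prime_order (σ := x) (h2 ▸ Nat.prime_two)
    refine ⟨k + 1, h2 ▸ hk, ?_⟩
    rw [← Perm.sum_cycleType, hk, h2, Multiset.sum_replicate, smul_eq_mul, mul_comm]
  obtain ⟨k, h2, h3⟩ := key x hx
  obtain ⟨l, h4, h5⟩ := key y hy
  obtain rfl : k = l := by omega
  exact Perm.isConj_iff_cycleType_eq.mpr (h2.trans h4.symm)

theorem even_support {α : Type*} [Fintype α] [DecidableEq α] {x : Perm α} (hx : x * x = 1) :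
    2 ∣ x.support.card := by
  have : Fact (Nat.Prime 2) := ⟨Nat.prime_two⟩
  exact Perm.two_dvd_card_support (by rw [pow_two, hx])

theorem exists_three_comm {m : ℕ} (hm : m ≤ 1) {w : Perm (Fin (m + 8))} (hw : w * w = 1) :
    ∃ x, x ^ 3 = 1 ∧ x ≠ 1 ∧ x * w = w * x := by
  have key : ∀ r x : Perm (Fin (m + 8)), r * r = 1 → r.support.card = w.support.card →
      x ^ 3 = 1 ∧ x ≠ 1 ∧ x * r = r * x → ∃ x, x ^ 3 = 1 ∧ x ≠ 1 ∧ x * w = w * x :=
    fun r x h1 h2 ⟨h3, h4, h5⟩ => by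
      obtain ⟨g, rfl⟩ := isConj_iff.mp (isConj_of_support h1 hw h2)
      exact ⟨g * x * g⁻¹, by rw [conj_pow, h3]; group, fun e => h4 (conj_eq_one_iff.mp e),
        by rw [conj_mul, conj_mul, h5]⟩
  have h1 := even_support hw
  have h2 := w.support.card_le_univ
  rw [Fintype.card_fin] at h2
  obtain e | e | e | e | e : w.support.card = 0 ∨ w.support.card = 2 ∨ w.support.card = 4 ∨
    w.support.card = 6 ∨ w.support.card = 8 := by omega
  · refine key 1 (swap 4 5 * swap 5 6) ?_ (Eq.trans ?_ e.symm) ?_ <;> interval_cases m <;> decide +kernel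
  · refine key (swap 0 1) (swap 4 5 * swap 5 6) ?_ (Eq.trans ?_ e.symm) ?_ <;> interval_cases m <;>
      decide +kernel
  · refine key (swap 0 1 * swap 2 3) (swap 4 5 * swap 5 6) ?_ (Eq.trans ?_ e.symm) ?_ <;> interval_cases m <;>
      decide +kernel
  · refine key (swap 0 1 * swap 2 3 * swap 4 5) (swap 0 2 * swap 2 4 * (swap 1 3 * swap 3 5)) ?_
      (Eq.trans ?_ e.symm) ?_ <;> interval_cases m <;> decide +kernel
  · refine key (swap 0 1 * swap 2 3 * swap 4 5 * swap 6 7)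
      (swap 0 2 * swap 2 4 * (swap 1 3 * swap 3 5)) ?_ (Eq.trans ?_ e.symm) ?_ <;> interval_cases m <;>
      decide +kernel

theorem sym_eq_top {m : ℕ} (hm : m ≤ 1) {G : Type*} [Group G] [Finite G]
    (ψ : Perm (Fin (m + 8)) →* G) (hψ : Function.Injective ψ)
    (h3 : ∀ x ∈ ψ.range, orderOf x = 3 → WC ψ.range x)
    (hC : ∀ g, g * ψ (swap 0 1) = ψ (swap 0 1) * g → g ∈ ψ.range) : ψ.range = ⊤ := by
  have h01 : (0 : Fin (m + 8)) ≠ 1 := by interval_cases m <;> decide
  have tt : ψ (swap 0 1) * ψ (swap 0 1) = 1 := by rw [← map_mul, swap_mul_self, map_one]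
  have hw : WC ψ.range (ψ (swap 0 1)) := fun g ⟨w, e⟩ => by
    obtain ⟨x, h1, h2, h4⟩ := exists_three_comm hm (w := w) (hψ (by
      rw [map_mul, e, conj_mul, tt, map_one]; group))
    have : Fact (Nat.Prime 3) := ⟨Nat.prime_three⟩
    refine inv_mem_iff.mp (h3 _ ⟨x, rfl⟩ (orderOf_eq_prime (by rw [← map_pow, h1, map_one])
      fun e => h2 ((map_eq_one_iff ψ hψ).mp e)) g⁻¹ (hC _ ?_))
    have h5 := congrArg ψ h4
    rw [map_mul, map_mul, e] at h5
    calc _ = g⁻¹ * (ψ x * (g * ψ (swap 0 1) * g⁻¹)) * g := by group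
      _ = _ := by rw [h5]; group
  let χ : ψ.range →* ℤˣ := Perm.sign.comp (MonoidHom.ofInjective hψ).symm.toMonoidHom
  have hτ : MonoidHom.transfer χ (ψ (swap 0 1)) = -1 := by
    rw [transfer_of_conj_mem χ ⟨_, rfl⟩ fun k g h1 h2 => ?_]
    · have : Fact (Nat.Prime 2) := ⟨Nat.prime_two⟩
      have h1 := hw.relIndex_modEq (p := 2) ⟨_, rfl⟩ (by rw [pow_two, tt]) (mem_top _)
      rw [relIndex_top_right] at h1
      have h2 : χ ⟨_, ⟨swap 0 1, rfl⟩⟩ = -1 := by
        rw [← Perm.sign_swap h01]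
        exact congrArg Perm.sign ((MonoidHom.ofInjective hψ).symm_apply_apply _)
      rw [h2]
      exact Odd.neg_one_pow (Nat.odd_iff.mpr h1)
    · rw [pow_eq_pow_mod k ((pow_two _).trans tt)] at h1 h2
      rcases Nat.mod_two_eq_zero_or_one k with e | e <;> rw [e] at h1 h2
      · exact absurd (pow_zero _) h1
      · exact hw g (by simpa using h2)
  generalize MonoidHom.transfer χ = f at hτ
  have hs : ∀ σ, f (ψ σ) = Perm.sign σ := fun σ => by
    induction σ using Perm.swap_induction_on with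
    | one => simp
    | swap_mul σ x y hxy ih =>
      obtain ⟨g, e⟩ := isConj_iff.mp (Perm.isConj_swap h01 hxy)
      rw [map_mul, map_mul, map_mul, ih, Perm.sign_swap hxy, ← e]
      simp [hτ]
  let ψ' : AltM.Al m →* f.ker := (ψ.comp (alternatingGroup _).subtype).codRestrict _
    fun x => (hs x).trans x.2
  have hr : ∀ g : f.ker, g ∈ ψ'.range ↔ (g : G) ∈ ψ.range := fun g =>
    ⟨fun ⟨x, e⟩ => ⟨x, congrArg Subtype.val e⟩, fun ⟨x, e⟩ =>
      ⟨⟨x, (hs x).symm.trans (e ▸ g.2)⟩, Subtype.ext e⟩⟩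
  have top := AltM.eq_top_of_wc hm ψ' (fun x y e => Subtype.ext (hψ (congrArg Subtype.val e)))
    fun x hx o g hg => (hr g).mpr (h3 x ((hr x).mp hx) (by rw [orderOf_coe, o]) g ((hr _).mp hg))
  rw [eq_top_iff]
  rintro g -
  rcases Int.units_eq_one_or (f g) with e | e
  · exact (hr ⟨g, e⟩).mp (top ▸ mem_top _)
  · have := (hr ⟨g * ψ (swap 0 1), by rw [MonoidHom.mem_ker, map_mul, e, hτ]; simp⟩).mp
      (top ▸ mem_top _)
    exact (mul_mem_cancel_right (ψ.mem_range.mpr ⟨_, rfl⟩)).mp this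

end Cfsg.Agent.Char
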