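import Cfsg.Agent.Char.S8Loc
import Cfsg.Agent.Char.S6Ext
import Cfsg.Agent.Char.SymEnd
import Cfsg.Agent.Pres.Sym

/-!
# The `3`-local structure of `S₈`
-/

set_option autoImplicit false
set_option synthInstance.maxSize 4096

namespace Cfsg.Agent.Char.S8

open Subgroup Local Equiv
open scoped Pointwise

variable {G : Type*} [Group G] {φ : P →* G} {u : G}

/-- Adjacent transpositions in the second factor. -/
def b (i : Fin 4) : P := (1, Pres.adj 4 i)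

theorem relb : ((∃ k : P, k * c * k⁻¹ = s) ∧ b 1 = s ∧ b 1 * b 2 = a ∧
      b 3 * b 2 * b 1 * b 0 * (b 3 * b 2 * b 1)⁻¹ = c ∧ c * b 3 ≠ b 3 * c) ∧
    (∀ i, b i * b i = 1 ∧ b i * t = t * b i ∧ b i ≠ 1 ∧ b i ≠ t ∧ (t * b i) ^ 2 = 1 ∧
      (t * z * b i) ^ 2 = 1) ∧
    (b 0 ≠ b 1 ∧ b 0 ≠ b 1 * t ∧ b 1 * b 2 ≠ 1 ∧ b 1 * b 2 ≠ t) ∧
    (b 0 * b 1 * b 0 = b 1 * b 0 * b 1 ∧ b 1 * b 2 * b 1 = b 2 * b 1 * b 2 ∧
      b 2 * b 3 * b 2 = b 3 * b 2 * b 3 ∧ b 0 * b 2 = b 2 * b 0 ∧ b 0 * b 3 = b 3 * b 0 ∧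
      b 1 * b 3 = b 3 * b 1) ∧
    ((b 0 * b 1) ^ 3 = 1 ∧ (b 1 * b 2) ^ 3 = 1 ∧ (b 2 * b 3) ^ 3 = 1 ∧ (b 0 * b 2) ^ 2 = 1 ∧
      (b 0 * b 3) ^ 2 = 1 ∧ (b 1 * b 3) ^ 2 = 1) ∧
    ((t * (t * z)) ^ 3 = 1 ∧ t * z * (t * z) = 1 ∧ t * (t * z) = z ∧ t = (Pres.adj 2 0, 1) ∧
      t * z = (Pres.adj 2 1, 1)) := by
  refine ⟨⟨⟨(1, swap 0 1 * swap 4 2), ?_⟩, ?_⟩, ?_⟩ <;> decide +kernel

attribute [local irreducible] z a c t s h

theorem range_le {H : Subgroup G} (h0 : φ t ∈ H) (h1 : φ (t * z) ∈ H) (h2 : ∀ i, φ (b i) ∈ H)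
    (l : P) : φ l ∈ H := by
  have e1 : ∀ x, φ (x, 1) ∈ H := fun x => by
    have : closure (Set.range (Pres.adj 2)) ≤ (H.comap φ).comap (MonoidHom.inl _ _) := by
      rw [closure_le]
      rintro _ ⟨i, rfl⟩
      fin_cases i
      · exact (congrArg φ relb.2.2.2.2.2.2.2.2.1).subst (motive := (· ∈ H)) h0
      · exact (congrArg φ relb.2.2.2.2.2.2.2.2.2).subst (motive := (· ∈ H)) h1
    exact this (Pres.adj_closure 2 ▸ mem_top x)
  have e2 : ∀ x, φ (1, x) ∈ H := fun x => by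
    have : closure (Set.range (Pres.adj 4)) ≤ (H.comap φ).comap (MonoidHom.inr _ _) := by
      rw [closure_le]
      rintro _ ⟨i, rfl⟩
      exact h2 i
    exact this (Pres.adj_closure 4 ▸ mem_top x)
  simpa [← map_mul] using mul_mem (e1 l.1) (e2 l.2)

attribute [local irreducible] b

theorem Hyp.s6q [Finite G] (hh : Hyp φ u) (hu : u * φ t * u⁻¹ = φ s)
    (hd : (∀ g, g * φ c = φ c * g → g ∈ normalizer (D φ : Set G)) ∨ ∃ F, S6Q (φ c) F) :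
    ∃ F, S6Q (φ t) F := by
  obtain ⟨k, hk⟩ := relb.1.1
  have e : u * φ k * φ c * (u * φ k)⁻¹ = φ t := by
    rw [← hh.back hu, ← cj φ hk]; group
  rcases hd with hd | ⟨F, hF⟩
  · obtain ⟨h1, h2, -, h3⟩ := rel.2.2.2
    have := hh.no5 (hd ((u * φ k)⁻¹ * φ h * (u * φ k)) (by
      calc _ = (u * φ k)⁻¹ * (φ h * (u * φ k * φ c * (u * φ k)⁻¹)) * (u * φ k) := by group
        _ = _ := by rw [e, cm φ h3, ← e]; group)) (by
      have := conj_pow (a := (u * φ k)⁻¹) (b := φ h) (i := 5)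
      rw [inv_inv] at this
      rw [this, ← map_pow, h1, map_one]; group)
    exact absurd (hh.loc.eq1.mp (conj_eq_one_iff (a := (u * φ k)⁻¹).mp (by rwa [inv_inv]))) h2
  · exact ⟨_, e ▸ hF.conj _⟩

theorem exists_x {F : G → Perm (Fin 6)} (hl : Loc φ) (hF : S6Q (φ t) F) :
    ∃ x, x * x = 1 ∧ x * φ t = φ t * x ∧ (x * φ (b 0)) ^ 3 = 1 ∧ x * φ (b 1) = φ (b 1) * x ∧
      x * φ (b 2) = φ (b 2) * x ∧ x * φ (b 3) = φ (b 3) * x := by
  obtain ⟨-, r1, ⟨r2, r3, -⟩, ⟨r4, r5, r6, r7, r8, r9⟩, ⟨-, r10, r11, -⟩, -⟩ := relb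
  have bt : ∀ i, φ (b i) * φ t = φ t * φ (b i) := fun i => cm φ (r1 i).2.1
  have bb : ∀ i, φ (b i) * φ (b i) = 1 := fun i => sq φ (r1 i).1
  have F1 : F 1 = 1 := (hF.ker 1 (by simp)).mpr (Or.inl rfl)
  have m2 : ∀ {x y}, x * φ t = φ t * x → y * φ t = φ t * y → x * y * φ t = φ t * (x * y) :=
    fun h1 h2 => Commute.mul_left h1 h2
  have n1 : ∀ i, F (φ (b i)) ≠ 1 := fun i e => ((hF.ker _ (bt i)).mp e).elim
    (fun e => (r1 i).2.2.1 (hl.eq1.mp e)) fun e => (r1 i).2.2.2.1 (hl.inj e)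
  have s1 : ∀ i, F (φ (b i)) * F (φ (b i)) = 1 := fun i => by
    rw [← hF.mul _ _ (bt i) (bt i), bb, F1]
  have br : ∀ {i j}, b i * b j * b i = b j * b i * b j → F (φ (b i)) * F (φ (b j)) * F (φ (b i)) =
      F (φ (b j)) * F (φ (b i)) * F (φ (b j)) := fun e => by
    rw [← hF.mul _ _ (bt _) (bt _), ← hF.mul _ _ (m2 (bt _) (bt _)) (bt _),
      ← hF.mul _ _ (bt _) (bt _), ← hF.mul _ _ (m2 (bt _) (bt _)) (bt _), ← map_mul, ← map_mul, e,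
      map_mul, map_mul]
  have co : ∀ {i j}, b i * b j = b j * b i → F (φ (b i)) * F (φ (b j)) =
      F (φ (b j)) * F (φ (b i)) := fun e => by
    rw [← hF.mul _ _ (bt _) (bt _), ← hF.mul _ _ (bt _) (bt _), cm φ e]
  obtain ⟨y, y1, y2, y3, y4⟩ := S6.exists_ext (s1 0) (s1 1) (s1 2) (s1 3) (n1 0) (n1 1) (n1 2) (n1 3)
    (fun e => (hF.eq (bt 0) (bt 1) e).elim (fun e => r2 (hl.inj e))
      fun e => r3 (hl.inj (by rw [e, map_mul]))) (br r4) (br r5) (br r6) (co r7) (co r8) (co r9)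
  obtain ⟨x0, c0, rfl⟩ := hF.surj y
  have ci : ∀ {x}, x * φ t = φ t * x → F x⁻¹ = (F x)⁻¹ := fun h1 => by
    rw [eq_inv_iff_mul_eq_one, ← hF.mul _ _ (Commute.inv_left h1) h1, inv_mul_cancel, F1]
  obtain ⟨x1, c1, q1, e1⟩ : ∃ x, x * φ t = φ t * x ∧ x * x = 1 ∧ F x = F x0 := by
    have h1 := m2 (bt 0) c0
    refine ⟨φ (b 0) * x0 * φ (b 0) * (φ (b 0) * x0)⁻¹, m2 (m2 h1 (bt 0)) (Commute.inv_left h1),
      by rw [conj_mul, bb]; group, ?_⟩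
    rw [hF.mul _ _ (m2 h1 (bt 0)) (Commute.inv_left h1), ci h1, hF.mul _ _ h1 (bt 0),
      hF.mul _ _ (bt 0) c0, ← y1]
    group
  rw [← e1] at y1 y2 y3 y4
  obtain ⟨x, c2, q2, e2, q3⟩ : ∃ x, x * φ t = φ t * x ∧ x * x = 1 ∧ F x = F x1 ∧
      (x * φ (b 0)) ^ 3 = 1 := by
    have h1 := m2 c1 (bt 0)
    rcases (hF.ker ((x1 * φ (b 0)) ^ 3) (Commute.pow_left h1 3)).mp (by
      rw [pow_three, hF.mul _ _ h1 (m2 h1 h1), hF.mul _ _ h1 h1, hF.mul _ _ c1 (bt 0)]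
      calc _ = F x1 * F (φ (b 0)) * F x1 * (F (φ (b 0)) * F x1 * F (φ (b 0))) := by group
        _ = F (φ (b 0)) * (F x1 * (F (φ (b 0)) * F (φ (b 0))) * F x1) * F (φ (b 0)) := by
          rw [y1]; group
        _ = _ := by rw [s1, mul_one, ← hF.mul _ _ c1 c1, q1, F1, mul_one, s1]) with e | e
    · exact ⟨x1, c1, q1, rfl, e⟩
    · refine ⟨x1 * φ t, m2 c1 rfl, by rw [mul_assoc, ← mul_assoc (φ t), ← c1, mul_assoc x1, tt,
        mul_one, q1], by rw [hF.mul _ _ c1 rfl, (hF.ker _ rfl).mpr (Or.inr rfl), mul_one], ?_⟩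
      rw [mul_assoc, ← bt, ← mul_assoc, Commute.mul_pow h1, e, pow_three, tt, mul_one, tt]
  rw [← e2] at y2 y3 y4
  have cs : ∀ i, F x * F (φ (b i)) = F (φ (b i)) * F x → ∃ e, (e = 1 ∨ e = φ t) ∧
      x * φ (b i) = φ (b i) * x * e := fun i e => by
    rcases hF.eq (m2 c2 (bt i)) (m2 (bt i) c2) (by
      rw [hF.mul _ _ c2 (bt i), hF.mul _ _ (bt i) c2, e]) with e | e
    exacts [⟨1, Or.inl rfl, by simpa using e⟩, ⟨_, Or.inr rfl, e⟩]
  have ce : ∀ {e}, (e = 1 ∨ e = φ t) → e * e = 1 ∧ ∀ y, y * φ t = φ t * y → y * e = e * y := by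
    rintro _ (rfl | rfl)
    exacts [by simp, ⟨tt, fun _ h => h⟩]
  have same : ∀ i j e e', (e = 1 ∨ e = φ t) → (e' = 1 ∨ e' = φ t) → (b i * b j) ^ 3 = 1 →
      x * φ (b i) = φ (b i) * x * e → x * φ (b j) = φ (b j) * x * e' → e = e' := by
    intro i j e e' h1 h2 h3 h4 h5
    have h6 : x * (φ (b i) * φ (b j)) * x⁻¹ = φ (b i) * φ (b j) * (e * e') := by
      rw [← mul_assoc, h4, mul_assoc _ e, ← (ce h1).2 _ (bt j), mul_assoc (φ (b i)),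
        ← mul_assoc x, h5, mul_assoc _ e', ← mul_assoc (φ (b i)), ← mul_assoc (φ (b i)),
        mul_assoc _ x, (ce h2).2 e ((ce h1).2 _ rfl).symm |>.symm, ← mul_assoc x,
        (ce h1).2 _ c2, mul_assoc e, (ce h2).2 _ c2]
      group
    have h7 := congrArg (· ^ 3) h6
    simp only [conj_pow] at h7
    rw [Commute.mul_pow (Commute.mul_right ((ce h1).2 _ (m2 (bt i) (bt j)))
      ((ce h2).2 _ (m2 (bt i) (bt j)))), ← map_mul, ← map_pow, h3, map_one] at h7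
    rcases h1 with rfl | rfl <;> rcases h2 with rfl | rfl
    · rfl
    · simpa [pow_three, tt] using h7
    · simpa [pow_three, tt] using h7.symm
    · rfl
  obtain ⟨e, h1, h2⟩ := cs 1 y2
  obtain ⟨e', h3, h4⟩ := cs 2 y3
  obtain ⟨e'', h5, h6⟩ := cs 3 y4
  obtain rfl := same 1 2 _ _ h1 h3 r10 h2 h4
  obtain rfl := same 2 3 _ _ h1 h5 r11 h4 h6
  obtain ⟨ee, ec⟩ := ce h1
  have k0 : x * φ (b 0) * x = φ (b 0) * x * φ (b 0) := by
    calc _ = (x * φ (b 0)) ^ 3 * (φ (b 0) * x * φ (b 0))⁻¹ := by rw [pow_three]; group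
      _ = _ := by
        rw [q3, mul_inv_rev, mul_inv_rev, inv_eq_of_mul_eq_one_right q2,
          inv_eq_of_mul_eq_one_right (bb 0)]; group
  have h2' : φ (b 1) * x = x * φ (b 1) * e := by rw [h2, mul_assoc _ e, ee, mul_one]
  have h4' : φ (b 2) * x = x * φ (b 2) * e := by rw [h4, mul_assoc _ e, ee, mul_one]
  have k1 : x * φ (b 0) * φ (b 1) * φ (b 2) * x = φ (b 0) * (x * φ (b 0) * φ (b 1) * φ (b 2)) := by
    calc _ = x * φ (b 0) * (φ (b 1) * x) * φ (b 2) * e := by rw [mul_assoc _ _ x, h4']; group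
      _ = x * φ (b 0) * x * φ (b 1) * (e * φ (b 2) * e) := by rw [h2']; group
      _ = _ := by rw [← ec _ (bt 2), mul_assoc _ e, ee, k0]; group
  have k2 : x * φ (b 0) * φ (b 1) * φ (b 2) * φ (b 1) =
      φ (b 2) * (x * φ (b 0) * φ (b 1) * φ (b 2)) * e := by
    calc _ = x * φ (b 0) * φ (b 1 * b 2 * b 1) := by simp only [map_mul, mul_assoc]
      _ = x * φ (b 0 * b 2) * φ (b 1) * φ (b 2) := by rw [r5]; simp only [map_mul, mul_assoc]
      _ = φ (b 2) * x * (e * (φ (b 0) * φ (b 1) * φ (b 2))) := by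
        rw [r7, map_mul, ← mul_assoc, h4]; group
      _ = _ := by rw [← ec _ (m2 (m2 (bt 0) (bt 1)) (bt 2))]; group
  have k3 : e = 1 := by
    have k4 := ec _ (m2 (m2 (m2 c2 (bt 0)) (bt 1)) (bt 2))
    generalize x * φ (b 0) * φ (b 1) * φ (b 2) = w at k1 k2 k4
    have k5 : w * (x * φ (b 1)) = φ (b 0) * φ (b 2) * w * e := by
      rw [← mul_assoc, k1, mul_assoc, k2]; group
    have k6 : w * (φ (b 1) * x * e) = φ (b 2) * φ (b 0) * w := by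
      calc _ = φ (b 2) * w * (e * x * e) := by rw [← mul_assoc, ← mul_assoc, k2]; group
        _ = _ := by rw [← ec _ c2, mul_assoc x, ee, mul_one, mul_assoc, k1, mul_assoc]
    rw [← h2, k5, cm φ r7] at k6
    simpa using k6
  subst k3
  exact ⟨x, q2, c2, q3, by simpa using h2, by simpa using h4, by simpa using h6⟩

theorem Hyp.braid [Finite G] (hh : Hyp φ u) (hu : u * φ t * u⁻¹ = φ s) {x : G} (h1 : x * x = 1)
    (h2 : x * φ t = φ t * x) (h3 : (x * φ (b 0)) ^ 3 = 1) (h4 : x * φ (b 1) = φ (b 1) * x)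
    (h5 : x * φ (b 2) = φ (b 2) * x) (h6 : x * φ (b 3) = φ (b 3) * x) :
    (φ (t * z) * x) ^ 3 = 1 := by
  obtain ⟨-, r1, r2, r3, r4⟩ := relb.1
  obtain ⟨ψ, hψ, e⟩ := hh.exists_conj
  have pz : ψ z = φ a := (e z).trans hh.uz
  have pa : ψ a = φ z := (e a).trans hh.ua
  have pc : ψ c = φ c := (e c).trans hh.uc
  have pt : ψ t = φ s := (e t).trans hu
  have ps : ψ s = φ t := (e s).trans (hh.back hu)
  have h7 : x * ψ z = ψ z * x := by rw [pz, ← r2, map_mul]; exact Commute.mul_right h4 h5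
  obtain ⟨l, rfl⟩ := hψ.cent h7
  have h8 : (ψ l * φ c) ^ 3 = 1 := by
    have : φ (b 3 * b 2 * b 1) * ψ l * (φ (b 3 * b 2 * b 1))⁻¹ = ψ l := by
      rw [mul_inv_eq_iff_eq_mul, map_mul, map_mul]
      exact (Commute.mul_right (Commute.mul_right h6 h5) h4).symm
    rw [← cj φ r3, ← this, conj_mul, conj_pow, h3]; group
  rw [map_mul, ← ps, ← pa, ← map_mul, ← map_mul, ← map_pow, xi l (hψ.cm.mp h7)
    (hψ.cm.mp (by rw [pt, ← r1, h4])) (hψ.eq1.mp (by rw [map_mul, h1])) (hψ.cm.mp (ps ▸ h2))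
    (hψ.eq1.mp (by rw [map_pow, map_mul, pc, h8]))
    fun e => r4 (hh.loc.cm.mp (by rw [← pc, ← e, h6])), map_one]

theorem Hyp.sym8 [Finite G] (hh : Hyp φ u) (hu : u * φ t * u⁻¹ = φ s)
    (hd : (∀ g, g * φ c = φ c * g → g ∈ normalizer (D φ : Set G)) ∨ ∃ F, S6Q (φ c) F) :
    Nonempty (G ≃* Perm (Fin 8)) := by
  have hl := hh.loc
  obtain ⟨F, hF⟩ := hh.s6q hu hd
  obtain ⟨x, h1, h2, h3, h4, h5, h6⟩ := exists_x hl hF
  have h7 := hh.braid hu h1 h2 h3 h4 h5 h6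
  obtain ⟨⟨-, -, r0, -⟩, r1, ⟨-, -, r2, r3⟩, -, ⟨r4, r5, r6, r7, r8, r9⟩, r10, r11, r12, -⟩ := relb
  have pw : ∀ {x y : P} {n : ℕ}, (x * y) ^ n = 1 → (φ x * φ y) ^ n = 1 := fun e => by
    rw [← map_mul, ← map_pow, e, map_one]
  have pc : ∀ {y : G}, y * y = 1 → x * y = y * x → (x * y) ^ 2 = 1 ∧ (y * x) ^ 2 = 1 :=
    fun e e' => by
      rw [← e', Commute.mul_pow e', pow_two, pow_two, h1, e]; simp
  have bb : ∀ i, φ (b i) * φ (b i) = 1 := fun i => sq φ (r1 i).1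
  set f : Fin 7 → G := ![φ t, φ (t * z), x, φ (b 0), φ (b 1), φ (b 2), φ (b 3)] with hf
  have f2 : ∀ i, f i * f i = 1 := fun i => by
    fin_cases i
    exacts [tt, sq φ r11, h1, bb 0, bb 1, bb 2, bb 3]
  have f3 : ∀ i j : Fin 7, j.val = i.val + 1 → (f i * f j) ^ 3 = 1 := fun i j hi => by
    fin_cases i <;> fin_cases j <;> simp at hi
    exacts [pw r10, h7, h3, pw r4, pw r5, pw r6]
  have fc : ∀ i j : Fin 7, i.val + 1 < j.val → (f i * f j) ^ 2 = 1 := fun i j hi => by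
    fin_cases i <;> fin_cases j <;> simp at hi
    exacts [(pc tt h2).2, pw (r1 0).2.2.2.2.1, pw (r1 1).2.2.2.2.1, pw (r1 2).2.2.2.2.1,
      pw (r1 3).2.2.2.2.1, pw (r1 0).2.2.2.2.2, pw (r1 1).2.2.2.2.2, pw (r1 2).2.2.2.2.2,
      pw (r1 3).2.2.2.2.2, (pc (bb 1) h4).1, (pc (bb 2) h5).1, (pc (bb 3) h6).1, pw r7, pw r8, pw r9]
  obtain ⟨ψ, hψ⟩ := Pres.exists_hom_perm 7 f f2 f3 fc
  obtain ⟨ι, hι⟩ := Pres.exists_hom_perm 5 (fun i => f i.succ.succ) (fun _ => f2 _)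
    (fun i j e => f3 _ _ (by simp [e])) fun i j e => fc _ _ (by simpa using e)
  have h0 : ψ (Pres.adj 7 0 * Pres.adj 7 1) = φ z := by
    rw [map_mul, hψ, hψ, ← r12, map_mul φ t]; rfl
  have h8 : ψ (Pres.adj 7 4 * Pres.adj 7 5) = φ a := by
    rw [map_mul, hψ, hψ, ← r0, map_mul φ]; rfl
  have inj : Function.Injective ψ := (MonoidHom.ker_eq_bot_iff ψ).mp (by
    by_contra hn
    exact rel.1.2.2.1 (hl.eq1.mp (h0 ▸ Perm.alternatingGroup_le_of_normal (by simp)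
      ((nontrivial_iff_ne_bot _).mpr hn) (Perm.mem_alternatingGroup.mpr (by decide +kernel)))))
  have hM : ∀ l, φ l ∈ ψ.range := range_le ⟨_, hψ 0⟩ ⟨_, hψ 1⟩ fun i => by
    fin_cases i
    exacts [⟨_, hψ 3⟩, ⟨_, hψ 4⟩, ⟨_, hψ 5⟩, ⟨_, hψ 6⟩]
  have uH : u ∈ ψ.range := by
    obtain ⟨n, d1⟩ : ∃ n : Perm (Fin 8),
        n * (Pres.adj 7 0 * Pres.adj 7 1) * n⁻¹ = Pres.adj 7 4 * Pres.adj 7 5 :=
      ⟨swap 0 4 * swap 1 5 * swap 2 6, by decide +kernel⟩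
    have e1 := congrArg ψ d1
    rw [map_mul, map_mul, map_inv, h0, h8] at e1
    obtain ⟨l, e⟩ := hl.cent (g := u⁻¹ * ψ n) (by
      rw [← mul_inv_eq_iff_eq_mul]
      calc _ = u⁻¹ * (ψ n * φ z * (ψ n)⁻¹) * u := by group
        _ = _ := by rw [e1, ← hh.uz]; group)
    have := mul_mem (⟨n, rfl⟩ : ψ n ∈ ψ.range) (inv_mem (e ▸ hM l))
    rwa [mul_inv_rev, inv_inv, mul_inv_cancel_left] at this
  obtain ⟨-, h9⟩ := hh.wc3 hM uH
  have top := sym_eq_top (m := 0) (by norm_num) ψ inj h9 (by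
    have e0 : ψ (swap 0 1) = φ t := hψ 0
    rw [e0]
    have i1 : ∀ σ, ι σ ∈ ψ.range ⊓ centralizer {φ t} := fun σ => by
      have : closure (Set.range (Pres.adj 5)) ≤ (ψ.range ⊓ centralizer {φ t}).comap ι := by
        rw [closure_le]
        rintro _ ⟨i, rfl⟩
        rw [SetLike.mem_coe, mem_comap, hι]
        refine ⟨⟨_, hψ _⟩, mem_centralizer_singleton_iff.mpr ?_⟩
        fin_cases i
        exacts [h2, cm φ (r1 0).2.1, cm φ (r1 1).2.1, cm φ (r1 2).2.1, cm φ (r1 3).2.1]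
      exact this (Pres.adj_closure 5 ▸ mem_top σ)
    have i2 : ∀ σ, ι σ * φ t = φ t * ι σ := fun σ => mem_centralizer_singleton_iff.mp (i1 σ).2
    let θ : Perm (Fin 6) →* Perm (Fin 6) := MonoidHom.mk' (fun σ => F (ι σ)) fun σ ρ => by
      rw [map_mul, hF.mul _ _ (i2 σ) (i2 ρ)]
    have i3 : Function.Injective θ := (MonoidHom.ker_eq_bot_iff θ).mp (by
      by_contra hn
      have := (hF.ker _ (i2 _)).mp (Perm.alternatingGroup_le_of_normal (by simp)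
        ((nontrivial_iff_ne_bot _).mpr hn)
        (Perm.mem_alternatingGroup (f := Pres.adj 5 2 * Pres.adj 5 3).mpr (by decide +kernel)))
      rw [map_mul, hι, hι] at this
      exact this.elim (fun e => r2 (hl.eq1.mp ((map_mul _ _ _).trans e)))
        fun e => r3 (hl.inj ((map_mul _ _ _).trans e)))
    intro g hg
    obtain ⟨σ, e⟩ := Finite.injective_iff_surjective.mp i3 (F g)
    rcases hF.eq hg (i2 σ) e.symm with e | e <;> rw [e]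
    exacts [(i1 σ).1, mul_mem (i1 σ).1 (hM t)])
  exact ⟨(MulEquiv.ofBijective ψ ⟨inj, MonoidHom.range_eq_top.mp top⟩).symm⟩

end Cfsg.Agent.Char.S8
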