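import Cfsg.Agent.Char.A8Loc

/-!
# Computations in `S₃ × S₅`
-/

set_option autoImplicit false
set_option synthInstance.maxSize 4096

namespace Cfsg.Agent.Char

open Equiv

namespace S8

/-- The model. -/
abbrev P := Perm (Fin 3) × Perm (Fin 5)

def z : P := (swap 0 1 * swap 1 2, 1)
def a : P := (1, swap 1 2 * swap 2 3)
def c : P := (1, swap 0 4)
def t : P := (swap 0 1, 1)
def s : P := (1, swap 1 2)
def h : P := (1, swap 0 1 * swap 1 2 * swap 2 3 * swap 3 4)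

theorem rel : (z ^ 3 = 1 ∧ a ^ 3 = 1 ∧ z ≠ 1 ∧ a ≠ 1 ∧ z * a = a * z ∧ a ≠ z ∧ a ≠ z⁻¹ ∧ z * a ≠ 1) ∧
    (c * c = 1 ∧ c ≠ 1 ∧ c * z = z * c ∧ c * a = a * c ∧ c * t = t * c ∧ c * s = s * c) ∧
    (t * t = 1 ∧ t * z * t⁻¹ = z⁻¹ ∧ t * a * t⁻¹ = a ∧ s * s = 1 ∧ s * z * s⁻¹ = z ∧
      s * a * s⁻¹ = a⁻¹ ∧ s * t = t * s) ∧
    (h ^ 5 = 1 ∧ h ≠ 1 ∧ h * z = z * h ∧ h * t = t * h) := by decide +kernel

theorem norm_z : ∀ l : P, l * z * l⁻¹ = z ∨ l * z * l⁻¹ = z⁻¹ := by decide +kernel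

theorem eq_z : ∀ l : P, l ^ 3 = 1 → l ≠ 1 → (h * l * h⁻¹ = l ∨ h * l * h⁻¹ = l⁻¹) →
    l = z ∨ l = z⁻¹ := by decide +kernel

theorem conj_a : ∀ l : P, l ^ 3 = 1 → l ≠ 1 → l ≠ z → l ≠ z⁻¹ → ∃ k : Perm (Fin 5),
    ((1, k) * a * (1, k)⁻¹ = l ∨ (1, k) * (z * a) * (1, k)⁻¹ = l ∨
      (1, k) * (z⁻¹ * a) * (1, k)⁻¹ = l) := by
  decide +kernel

theorem cent_D : ∀ l : P, l * z = z * l → l * a = a * l → (l * l = 1 → l = 1 ∨ l = c) ∧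
    ∃ i < 3, ∃ j < 3, l = z ^ i * a ^ j ∨ l * c = z ^ i * a ^ j := by
  decide +kernel

theorem norm_D : ∀ l : P, l * a * l⁻¹ * a = a * (l * a * l⁻¹) →
    (l * a * l⁻¹ = a ∨ l * a * l⁻¹ = a⁻¹) ∧ (l ^ 5 = 1 → l = 1) := by
  decide +kernel

theorem cls_D : ∀ i < 3, ∀ j < 3, z ^ i * a ^ j = 1 ∨ ∃ k < 2, ∃ l < 2,
    (t ^ k * s ^ l * z * (t ^ k * s ^ l)⁻¹ = z ^ i * a ^ j ∨
      t ^ k * s ^ l * a * (t ^ k * s ^ l)⁻¹ = z ^ i * a ^ j ∨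
      t ^ k * s ^ l * (z * a) * (t ^ k * s ^ l)⁻¹ = z ^ i * a ^ j) := by
  decide +kernel

theorem fix_s : ∀ i < 3, ∀ j < 3, (s * (z ^ i * a ^ j) = z ^ i * a ^ j * s → j = 0) ∧
    ((s * (z ^ i * a ^ j) * s⁻¹ = 1 ∨ s * (z ^ i * a ^ j) * s⁻¹ = z ^ i * a ^ j ∨
      s * (z ^ i * a ^ j) * s⁻¹ = (z ^ i * a ^ j)⁻¹) → j = 0 ∨ z ^ i * a ^ j = a ∨
        z ^ i * a ^ j = a⁻¹) := by
  decide +kernel

theorem eq_s : ∀ l : P, l * l = 1 → l * z = z * l → l * a * l⁻¹ = a⁻¹ → ∃ i < 3,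
    a ^ i * l * (a ^ i)⁻¹ = s ∨ a ^ i * l * (a ^ i)⁻¹ = s * c := by
  decide +kernel

theorem cent_cz : ∀ l : P, l * c = c * l → l * a * l⁻¹ * a = a * (l * a * l⁻¹) := by
  decide +kernel

theorem xi : ∀ l : P, l * z = z * l → l * t = t * l → l * l = 1 → l * s = s * l →
    (l * c) ^ 3 = 1 → l ≠ c → (s * a * l) ^ 3 = 1 := by
  decide +kernel

end S8

end Cfsg.Agent.Char
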