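import Cfsg.Agent.Char.S8Dec

/-!
# More computations in `S₃ × S₅`, `S₅` and `S₆`
-/

set_option autoImplicit false
set_option synthInstance.maxSize 8192

namespace Cfsg.Agent.Char.S8

open Equiv

def p : P := (1, swap 1 2 * swap 3 4)
def q : P := (1, swap 2 3 * swap 1 4)
def v : P := (1, swap 0 1 * swap 2 4)
def e : P := (1, swap 1 2 * swap 2 4)
def m : P := (1, swap 0 3 * swap 1 2)
def d : P := (1, swap 1 2 * swap 0 4)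

theorem relE : (p * p = 1 ∧ q * q = 1 ∧ p * q = q * p ∧ a * p * a⁻¹ = q ∧ a * q * a⁻¹ = p * q ∧
      z * p = p * z ∧ z * q = q * z ∧ t * p = p * t ∧ t * q = q * t ∧ c * p ≠ p * c ∧ p ≠ 1 ∧ p ≠ t) ∧
    (m * p * m⁻¹ = d ∧ m * q * m⁻¹ = v ∧ m * z = z * m ∧ m * t = t * m ∧ s * c = d ∧ d * c = s) ∧
    (v * v = 1 ∧ d * d = 1 ∧ d * v = v * d ∧ v * c * v⁻¹ = c * d ∧ c * v * c⁻¹ = d * v ∧
      v * z = z * v ∧ v * t = t * v ∧ d * c = c * d ∧ d * t = t * d ∧ d * z = z * d) ∧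
    (e ^ 3 = 1 ∧ e * d * e⁻¹ = v ∧ e * v * e⁻¹ = d * v ∧ e * t = t * e ∧ e * z = z * e ∧
      e * (d * v) * e⁻¹ = d) ∧
    ((∃ k : P, k * c * k⁻¹ = s) ∧ (1, Pres.altGen 3 0) = a * d * p * d * a ∧
      (1, Pres.altGen 3 1) = a * d * p * a * d ∧ (1, Pres.altGen 3 2) = a * d * p * d * a * p) ∧
    (t ≠ 1 ∧ d ≠ 1 ∧ d ≠ t ∧ t * d ≠ 1 ∧ v ≠ 1 ∧ v ≠ d ∧ t ≠ c ∧ t * d ≠ c) := by
  refine ⟨?_, ?_, ?_, ?_, ⟨⟨(1, swap 0 1 * swap 4 2), ?_⟩, ?_⟩, ?_⟩ <;> decide +kernel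

theorem cent_d (l : P) (hl : l * d = d * l) : (l ^ 3 = 1 → l = 1 ∨ l = z ∨ l = z⁻¹) ∧
    (l * z = z * l → (l ^ 2) ^ 2 = 1 ∨ (l ^ 2) ^ 2 = z ∨ (l ^ 2) ^ 2 = z⁻¹) ∧
    (l * t = t * l → (l * c = c * l → ∃ i < 2, ∃ j < 2, ∃ k < 2, l = t ^ i * d ^ j * c ^ k) ∧
      (l * v = v * l → ∃ i < 2, ∃ j < 2, ∃ k < 2, l = t ^ i * d ^ j * v ^ k)) := by
  obtain ⟨x, y⟩ := l
  replace hl : y * d.2 = d.2 * y := congrArg Prod.snd hl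
  revert x
  revert y
  decide +kernel

theorem cent_V (l : P) (h1 : l * p = p * l) (h2 : l * q = q * l) :
    (l ^ 3 = 1 → l = 1 ∨ l = z ∨ l = z⁻¹) ∧ (l * z = z * l → ∃ i < 3,
      l = z ^ i ∨ l = z ^ i * p ∨ l = z ^ i * q ∨ l = z ^ i * (p * q)) := by
  obtain ⟨x, y⟩ := l
  replace h1 : y * p.2 = p.2 * y := congrArg Prod.snd h1
  replace h2 : y * q.2 = q.2 * y := congrArg Prod.snd h2
  revert x
  revert y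
  decide +kernel

theorem ne_conj (l : P) : l * t * l⁻¹ ≠ d ∧ l * c * l⁻¹ ≠ c * t :=
  ⟨fun e => absurd (congrArg Prod.snd e) (by simp [t]; decide +kernel),
    fun e => absurd (congrArg Prod.fst e) (by simp [c]; decide +kernel)⟩

theorem sel1 : ∀ x : Perm (Fin 3), x * z.1 = z.1 * x → x ^ 40 = 1 → x = 1 := by decide +kernel

theorem sel : ∀ y : Perm (Fin 5), y ≠ 1 → y ≠ c.2 →
    (((y * (a.2 * y * a.2⁻¹)) ^ 2) ^ 3 = 1 → (y * (a.2 * y * a.2⁻¹)) ^ 2 = 1) →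
    (((y * y * (a.2 * y * a.2⁻¹)) ^ 2) ^ 3 = 1 → (y * y * (a.2 * y * a.2⁻¹)) ^ 2 = 1) →
    (((y * (a.2 * y * a.2⁻¹) * y * (a.2⁻¹ * y * a.2)) ^ 2) ^ 3 = 1 →
      (y * (a.2 * y * a.2⁻¹) * y * (a.2⁻¹ * y * a.2)) ^ 2 = 1) →
    ∃ i < 3, ∃ j < 2, (d ^ j * a ^ i)⁻¹ * (1, y) * (d ^ j * a ^ i) = p := by
  decide +kernel

theorem inv5 : ∀ σ : Perm (Fin 5), σ * σ = 1 → σ = 1 ∨
    ∃ k, Perm.sign k = 1 ∧ (k * c.2 * k⁻¹ = σ ∨ k * d.2 * k⁻¹ = σ) := by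
  decide +kernel

theorem four5 : ∀ σ : Perm (Fin 5), σ * d.2 = d.2 * σ → σ * σ = 1 → Perm.sign σ = 1 →
    σ = 1 ∨ σ = d.2 ∨ σ = v.2 ∨ σ = d.2 * v.2 := by
  decide +kernel

end Cfsg.Agent.Char.S8
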