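import Cfsg.Agent.Char.S8Loc
import Cfsg.Agent.Char.S8Dec2
import Cfsg.Agent.Char.S6Six
import Cfsg.Agent.Char.SymEnd

/-!
# The exceptional configuration with a `3`-local subgroup `S₃ × S₅`, first part
-/

set_option autoImplicit false

namespace Cfsg.Agent.Char

open Subgroup Local Equiv
open scoped Pointwise

variable {G : Type*} [Group G]

theorem S6Q.post {c : G} {F : G → Perm (Fin 6)} (h : S6Q c F) (k : Perm (Fin 6)) :
    S6Q c fun g => k * F g * k⁻¹ :=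
  ⟨fun g l hg hl => by rw [h.mul g l hg hl, conj_mul], fun σ => by
    obtain ⟨g, h1, h2⟩ := h.surj (k⁻¹ * σ * k)
    exact ⟨g, h1, by rw [h2]; group⟩, fun g hg => conj_eq_one_iff.trans (h.ker g hg)⟩

theorem exists_six {θ : Perm (Fin 6)} (h : θ * θ = 1) (h1 : θ ≠ 1) :
    ∃ k, S6.Six (k * θ * k⁻¹) := by
  have key : ∀ r, r * r = 1 → θ.support.card = r.support.card → S6.Six r →
      ∃ k, S6.Six (k * θ * k⁻¹) := fun r e1 e2 e3 => by
    obtain ⟨k, rfl⟩ := isConj_iff.mp (isConj_of_support h e1 e2)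
    exact ⟨k, e3⟩
  have h2 := even_support h
  have h3 := θ.support.card_le_univ
  have h4 : θ.support.card ≠ 0 := fun e => h1 (Perm.support_eq_empty_iff.mp (Finset.card_eq_zero.mp e))
  rw [Fintype.card_fin] at h3
  obtain e | e | e : θ.support.card = 2 ∨ θ.support.card = 4 ∨ θ.support.card = 6 := by omega
  · exact key _ (by decide +kernel) (e.trans (by decide +kernel)) S6.six1
  · exact key _ (by decide +kernel) (e.trans (by decide +kernel)) S6.six2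
  · exact key _ (by decide +kernel) (e.trans (by decide +kernel)) S6.six3

theorem S6Q.exists_cent [Finite G] {c t a v : G} {F : G → Perm (Fin 6)} (hF : S6Q c F) (kl : Kl c t)
    (t1 : t ≠ 1) (tc : t ≠ c) (nc : ¬ IsConj t (t * c)) (ha : orderOf a = 3) (ac : a * c = c * a)
    (at' : a * t = t * a) (vv : v * v = 1) (va : v * a = a * v) (vt : v * t = t * v)
    (vc : v * c * v⁻¹ = c * t) :
    ∃ w, w * t = t * w ∧ w * v = v * w ∧ w * c = c * w ∧ w * a * w⁻¹ ∉ zpowers a := by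
  have tc' : t * c = c * t := kl.comm.symm
  have a3 : a ^ 3 = 1 := ha ▸ pow_orderOf_eq_one a
  obtain ⟨k, hk⟩ := exists_six (θ := F t) (by
    rw [← hF.mul _ _ tc' tc', kl.qq]; exact (hF.ker 1 (by simp)).mpr (Or.inl rfl))
    fun e => ((hF.ker _ tc').mp e).elim t1 tc
  replace hF := hF.post k
  obtain ⟨F, hF, hk⟩ : ∃ F, S6Q c F ∧ S6.Six (F t) := ⟨_, hF, hk⟩
  let f : centralizer ({c} : Set G) →* Perm (Fin 6) := MonoidHom.mk' (fun g => F g) fun g k =>
    hF.mul _ _ (mem_centralizer_singleton_iff.mp g.2) (mem_centralizer_singleton_iff.mp k.2)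
  have hm : ∀ {g}, g * c = c * g → g ∈ centralizer {c} := mem_centralizer_singleton_iff.mpr
  have hm' : ∀ g : centralizer ({c} : Set G), (g : G) * c = c * g :=
    fun g => mem_centralizer_singleton_iff.mp g.2
  let t' : centralizer ({c} : Set G) := ⟨t, hm tc'⟩
  let a' : centralizer ({c} : Set G) := ⟨a, hm ac⟩
  have fe : ∀ x y, f x = f y → (x : G) = y ∨ (x : G) = y * c := fun x y e => hF.eq (hm' x) (hm' y) e
  have fV : ∀ x, (f x = 1 ∨ f x = f t') ↔ (x : G) ∈ kl.V := fun x => by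
    refine ⟨?_, ?_⟩
    · rintro (e | e)
      · rcases (hF.ker _ (hm' x)).mp e with e | e <;> simp [Kl.mem_V, e]
      · rcases fe _ _ e with e | e <;> simp [Kl.mem_V, e, t', tc']
    · have fc : ∀ y, (x : G) = y * c → ∀ hy, f x = f ⟨y, hy⟩ := fun y e hy => by
        rw [show x = ⟨y, hy⟩ * ⟨c, hm rfl⟩ from Subtype.ext e, map_mul,
          show f ⟨c, hm rfl⟩ = 1 from (hF.ker _ rfl).mpr (Or.inr rfl), mul_one]
      rintro (e | e | e | e)
      · exact Or.inl (by rw [show x = 1 from Subtype.ext e, map_one])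
      · exact Or.inl ((fc 1 (by simpa using e) (one_mem _)).trans (map_one f))
      · exact Or.inr (congrArg f (Subtype.ext e))
      · exact Or.inr (fc t (e.trans kl.comm) _)
  obtain ⟨π, ⟨p1, p2, p3, p4, p5, p6, p7⟩, p8⟩ := hk (f a')
    (show f a' * f t' = f t' * f a' by
      rw [← map_mul, ← map_mul]; exact congrArg f (Subtype.ext at'))
    (by rw [← map_pow, ← map_one f]; exact congrArg f (Subtype.ext a3)) fun e => by
      rcases (hF.ker _ ac).mp e with e | e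
      · exact ne_one_of_orderOf_eq_prime Nat.prime_three ha e
      · rw [e, pow_three, kl.pp, mul_one] at a3
        exact ne_one_of_orderOf_eq_prime Nat.prime_three ha (e.trans a3)
  obtain ⟨x, xc, rfl⟩ := hF.surj π
  obtain ⟨x, rfl⟩ : ∃ y : centralizer ({c} : Set G), (y : G) = x := ⟨⟨x, hm xc⟩, rfl⟩
  change f x * f t' = f t' * f x at p1
  change f x * f x = 1 at p2
  change (f x * f a') ^ 3 = 1 at p3
  change f x ≠ 1 at p4
  change f x ≠ f t' at p5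
  have xt : (x : G) * t = t * x := by
    rcases fe (x * t' * x⁻¹) t' (by simp [p1]) with e | e
    · exact mul_inv_eq_iff_eq_mul.mp e
    · exact absurd (isConj_iff.mpr ⟨_, e⟩) nc
  have vN : v ∈ normalizer (kl.V : Set G) :=
    kl.mem_norm (by simp [vc, Kl.mem_V]) (by simp [vt, Kl.mem_V])
  have cj : ∀ {y}, y * t = t * y → y * c = c * y → v * y * v⁻¹ * t = t * (v * y * v⁻¹) ∧
      v * y * v⁻¹ * c = c * (v * y * v⁻¹) := fun h1 h2 => by
    have := kl.mem_cent.mp (conj_mem_of_mem_normalizer (normalizer_le_normalizer_centralizer _ vN)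
      (kl.mem_cent.mpr ⟨h2, h1⟩))
    exact ⟨this.2, this.1⟩
  have vb : ∀ y, v * (v * y * v⁻¹) * v⁻¹ = y := fun y => by
    calc _ = (v * v) * y * (v * v)⁻¹ := by group
      _ = _ := by rw [vv]; group
  have aV : ∀ i : ℕ, ∀ y ∈ kl.V, a ^ i * y = y * a ^ i := fun i y hy =>
    Commute.pow_left (kl.mem_cent.mpr ⟨ac, at'⟩ y hy).symm i
  let y : centralizer ({c} : Set G) := ⟨_, hm (cj xt xc).2⟩
  obtain ⟨i, hi, e0, he, e1⟩ : ∃ i < 3, ∃ e ∈ kl.V, v * x * v⁻¹ = a ^ i * x * (a ^ i)⁻¹ * e := by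
    have h0 : (y : G) ∉ kl.V := fun e => by
      have := conj_mem_of_mem_normalizer vN e
      rw [vb, ← fV] at this
      exact this.elim p4 p5
    rcases p8 (f y) (show f y * f t' = f t' * f y by
        rw [← map_mul, ← map_mul]; exact congrArg f (Subtype.ext (cj xt xc).1))
      (by
        rw [← map_mul]
        refine (fV _).mpr ?_
        simpa [y] using conj_mem_of_mem_normalizer vN ((fV (x * x)).mp (Or.inl (by simp [p2]))))
      (by
        rw [← map_mul, ← map_pow]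
        refine (fV _).mpr ?_
        have := conj_mem_of_mem_normalizer vN ((fV ((x * a') ^ 3)).mp (Or.inl (by simp [p3])))
        rw [SubmonoidClass.coe_pow, ← conj_pow, coe_mul, ← conj_mul, va, mul_inv_cancel_right] at this
        exact this) with e | e | ⟨i, hi, e⟩
    · exact absurd ((fV y).mp (Or.inl e)) h0
    · exact absurd ((fV y).mp (Or.inr e)) h0
    · refine ⟨i, hi, _, (fV ((a' ^ i * x * (a' ^ i)⁻¹)⁻¹ * y)).mp ?_, by simp [a', y, mul_assoc]⟩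
      simp only [map_mul, map_inv, map_pow]
      exact e.imp (fun e => by rw [e]; exact inv_mul_cancel _) fun e => by
        rw [e]; exact inv_mul_cancel_left _ _
  have vai : ∀ i : ℕ, v * a ^ i = a ^ i * v := fun i => Commute.pow_right va i
  obtain rfl : i = 0 := by
    have e2 : (x : G)⁻¹ * (a ^ i * (a ^ i * x * (a ^ i)⁻¹) * (a ^ i)⁻¹) ∈ kl.V := by
      have e3 : (x : G) = a ^ i * (a ^ i * x * (a ^ i)⁻¹) * (a ^ i)⁻¹ * (e0 * (v * e0 * v⁻¹)) := by
        calc (x : G) = v * (a ^ i * x * (a ^ i)⁻¹ * e0) * v⁻¹ := by rw [← e1, vb]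
          _ = (v * a ^ i) * x * (v * a ^ i)⁻¹ * (v * e0 * v⁻¹) := by group
          _ = a ^ i * (v * x * v⁻¹) * (a ^ i)⁻¹ * (v * e0 * v⁻¹) := by rw [vai]; group
          _ = a ^ i * (a ^ i * x * (a ^ i)⁻¹ * (a ^ i)⁻¹ * (a ^ i * e0)) * (a ^ i)⁻¹ *
              (v * e0 * v⁻¹) := by rw [e1]; group
          _ = _ := by rw [aV i e0 he]; group
      have := inv_mem (mul_mem he (conj_mem_of_mem_normalizer vN he))
      generalize e0 * (v * e0 * v⁻¹) = w at this e3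
      generalize a ^ i * (a ^ i * x * (a ^ i)⁻¹) * (a ^ i)⁻¹ = w' at e3
      rw [e3]; simpa using this
    refine p7 i hi ?_
    have := (fV (x⁻¹ * (a' ^ i * (a' ^ i * x * (a' ^ i)⁻¹) * (a' ^ i)⁻¹))).mpr e2
    simp only [map_mul, map_inv, map_pow, inv_mul_eq_iff_eq_mul, mul_one] at this
    exact this
  rw [pow_zero, one_mul, inv_one, mul_one] at e1
  have h1 : a * x * a⁻¹ * t = t * (a * x * a⁻¹) :=
    Commute.mul_left (Commute.mul_left at' xt) (Commute.inv_left at')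
  have h2 : a * x * a⁻¹ * c = c * (a * x * a⁻¹) :=
    Commute.mul_left (Commute.mul_left ac xc) (Commute.inv_left ac)
  refine ⟨x * (a * x * a⁻¹), Commute.mul_left xt h1, ?_, Commute.mul_left xc h2, fun h => ?_⟩
  · rw [eq_comm, ← mul_inv_eq_iff_eq_mul, ← conj_mul, ← conj_mul, ← conj_mul, ← conj_inv, e1, va,
      mul_inv_cancel_right, ← mul_assoc a, mul_assoc _ e0 a⁻¹, (Commute.inv_left (show Commute a e0 from
        pow_one a ▸ aV 1 e0 he)).symm.eq, ← mul_assoc (a * x), mul_assoc (x : G),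
      ← mul_assoc e0, kl.mem_cent.mpr ⟨h2, h1⟩ e0 he, mul_assoc _ e0, kl.sq he, mul_one]
  · obtain ⟨q1, q2, q3⟩ := p6 _ rfl
    have e2 : ∀ b : centralizer ({c} : Set G), x * (a * x * a⁻¹) * a * (x * (a * x * a⁻¹))⁻¹ = (b : G) →
        f x * (f a' * f x * (f a')⁻¹) * f a' * (f x * (f a' * f x * (f a')⁻¹))⁻¹ = f b := fun b e => by
      simp only [← map_mul, ← map_inv]
      exact congrArg f (Subtype.ext e)
    rcases mem_zpowers_three ha h with e | e | e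
    · exact q1 ((e2 1 e).trans (map_one f))
    · exact q2 (e2 a' e)
    · exact q3 ((e2 a'⁻¹ e).trans (map_inv f _))

namespace S8

attribute [local irreducible] z a c t s h p q v e m d

variable {φ ψ : P →* G} {u : G}

/-- The hypotheses in the exceptional case. -/
structure HE (φ ψ : P →* G) (u : G) : Prop where
  hyp : Hyp φ u
  ut : u * φ t * u⁻¹ = φ d
  up : ∀ l, u * φ l * u⁻¹ = ψ l
  loc : Loc ψ

theorem HE.pz (h : HE φ ψ u) : ψ z = φ a := (h.up z).symm.trans h.hyp.uz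
theorem HE.pa (h : HE φ ψ u) : ψ a = φ z := (h.up a).symm.trans h.hyp.ua
theorem HE.pc [Finite G] (h : HE φ ψ u) : ψ c = φ c := (h.up c).symm.trans h.hyp.uc
theorem HE.pt (h : HE φ ψ u) : ψ t = φ d := (h.up t).symm.trans h.ut
theorem HE.pd (h : HE φ ψ u) : ψ d = φ t := (h.up d).symm.trans (h.hyp.back h.ut)
theorem HE.uq (h : HE φ ψ u) (l : P) : u * ψ l * u⁻¹ = φ l := h.hyp.back (h.up l)

theorem icj (φ : P →* G) {x y w : P} (e : x * y * x⁻¹ = w) : IsConj (φ y) (φ w) :=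
  isConj_iff.mpr ⟨_, cj φ e⟩

theorem HE.nc [Finite G] (h : HE φ ψ u) : ¬ IsConj (φ c) (φ t) := fun e => by
  have : Fact (Nat.Prime 3) := ⟨Nat.prime_three⟩
  obtain ⟨g, e⟩ := isConj_iff.mp e
  have h0 : φ a * φ t = φ t * φ a := (cm φ (mul_inv_eq_iff_eq_mul.mp rel.2.2.1.2.2.1)).symm
  obtain ⟨k, hk, h1⟩ := (h.hyp.syl.of_le (M := centralizer {φ c}) (fun x hx =>
    mem_centralizer_singleton_iff.mpr (c_comm hx).symm) le_top).exists_le_conj
    (isPGroup_zpowers_of_orderOf_eq (((MulAut.conj g⁻¹).orderOf_eq _).trans h.hyp.loc.oa))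
    (zpowers_le.mpr (mem_centralizer_singleton_iff.mpr (by
      calc _ = g⁻¹ * (φ a * (g * φ c * g⁻¹)) * g := by simp [mul_assoc]
        _ = _ := by rw [e, h0, ← e]; simp [mul_assoc])))
  have h2 := Local.mem_conj_smul_iff.mp (h1 (mem_zpowers _))
  have h3 : g * k * φ c * (g * k)⁻¹ = φ t := by
    rw [mul_assoc g, mem_centralizer_singleton_iff.mp hk, ← e]; group
  replace h2 : (g * k)⁻¹ * φ a * (g * k) ∈ D φ := by simpa [mul_assoc] using h2
  generalize g * k = n at h2 h3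
  have key : ∀ x : P, φ x ∈ D φ → x ≠ 1 → n * φ x * n⁻¹ = ψ z ∨ n * φ x * n⁻¹ = ψ z⁻¹ := by
    intro x hx x1
    obtain ⟨l, e⟩ := h.loc.cent (g := n * φ x * n⁻¹) (by
      rw [h.pz]
      calc _ = n * (φ x * (n⁻¹ * φ a * n)) * n⁻¹ := by group
        _ = _ := by rw [D_comm hx h2]; group)
    rcases (cent_d l (h.loc.cm.mp (by rw [e, h.pd, ← h3, conj_mul, conj_mul, c_comm hx]))).1
      (h.loc.eq1.mp (by rw [map_pow, e, conj_pow, D_cube hx]; group)) with rfl | rfl | rfl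
    · exact absurd (h.hyp.loc.eq1.mp (conj_eq_one_iff.mp (e.symm.trans (map_one ψ)))) x1
    · exact Or.inl e.symm
    · exact Or.inr e.symm
  obtain ⟨-, -, r1, r2, -, r3, r4, -⟩ := rel.1
  have k1 : ∀ {x y}, n * φ x * n⁻¹ = n * φ y * n⁻¹ → x = y := fun e =>
    h.hyp.loc.inj (by simpa using e)
  have k2 : ∀ {x y w}, n * φ x * n⁻¹ = ψ w → n * φ y * n⁻¹ = ψ w⁻¹ → y = x⁻¹ := fun e e' =>
    k1 (by rw [e', map_inv, map_inv, ← e, conj_inv])
  rcases key z zD r1 with e1 | e1 <;> rcases key a aD r2 with e2 | e2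
  exacts [r3 (k1 (e2.trans e1.symm)), r4 (k2 e1 e2), r4 (k2 e1 (by rw [inv_inv, e2])),
    r3 (k1 (e2.trans e1.symm))]

theorem HE.cent_c [Finite G] (h : HE φ ψ u)
    (hd : (∀ g, g * φ c = φ c * g → g ∈ normalizer (D φ : Set G)) ∨ ∃ F, S6Q (φ c) F)
    (hw : ∀ w, w * φ t = φ t * w → w * ψ v = ψ v * w → w * φ c = φ c * w →
      w * φ a * w⁻¹ ∈ zpowers (φ a)) (g : G) (hg : g * φ c = φ c * g) :
    g ∈ normalizer (D φ : Set G) := by
  refine hd.elim (fun hd => hd g hg) fun ⟨F, hF⟩ => ?_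
  obtain ⟨-, ⟨-, -, -, -, -, r0⟩, ⟨r1, -, r2, r3, -, r4, -⟩, -, ⟨⟨k, r5⟩, -⟩, r6, -, -, -, -, -, r7, -⟩ :=
    relE
  have hl := h.hyp.loc
  obtain ⟨w, h1, h2, h3, h4⟩ := hF.exists_cent (t := φ t) (a := φ a) (v := ψ v)
    ⟨cc, tt, cm φ rel.2.1.2.2.2.2.1⟩ (fun e => r6 (hl.eq1.mp e)) (fun e => r7 (hl.inj e))
    (fun e => h.nc (by
      rw [← h.pd, ← h.pc, ← map_mul, r0] at e
      rw [← h.pd, ← h.pc]
      exact (icj ψ r5).trans e.symm)) hl.oa (cm φ rel.2.1.2.2.2.1.symm)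
    (cm φ (mul_inv_eq_iff_eq_mul.mp rel.2.2.1.2.2.1)).symm (sq ψ r1) (h.pz ▸ cm ψ r4)
    (h.pd ▸ cm ψ r2.symm) (by rw [← h.pd, ← h.pc, cj ψ r3, map_mul])
  exact absurd (hw w h1 h2 h3) h4

theorem HE.not_bad [Finite G] (h : HE φ ψ u)
    (hd : (∀ g, g * φ c = φ c * g → g ∈ normalizer (D φ : Set G)) ∨ ∃ F, S6Q (φ c) F)
    (hB : ∀ g, g * ψ d = ψ d * g → g * ψ v = ψ v * g → ∃ l, ψ l = g) : False := by
  have hl := h.hyp.loc
  have hc := h.cent_c hd fun w h1 h2 _ => by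
    obtain ⟨l, rfl⟩ := hB w (h.pd ▸ h1) h2
    rcases norm_z l with e | e <;> rw [← h.pz, cj ψ e] <;> simp
  obtain ⟨-, -, ⟨r1, r2, r3, r4, r5, -, r6, r7, r8, -⟩, ⟨-, e1, e2, e3, -, e4⟩, -, n1, n2, n3, n4, -⟩ :=
    relE
  have ct := rel.2.1.2.2.2.2.1
  have pd := h.pd
  have pt := h.pt
  have pc := h.pc
  have kl : Kl (φ t) (φ d) := ⟨tt, sq φ r2, (cm φ r8).symm⟩
  have v11 := sq ψ r1
  have v22 := sq φ r1
  have v1t : ψ v * φ t = φ t * ψ v := pd ▸ (cm ψ r3).symm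
  have v1d : ψ v * φ d = φ d * ψ v := pt ▸ cm ψ r6
  have v2t : φ v * φ t = φ t * φ v := cm φ r6
  have v2d : φ v * φ d = φ d * φ v := (cm φ r3).symm
  have v1c : ψ v * φ c * (ψ v)⁻¹ = φ c * φ t := by rw [← pc, ← pd, cj ψ r4, map_mul]
  have v2c : φ v * φ c * (φ v)⁻¹ = φ c * φ d := by rw [cj φ r4, map_mul]
  have cv1 : φ c * ψ v * (φ c)⁻¹ = φ t * ψ v := by rw [← pc, ← pd, cj ψ r5, map_mul]
  have ctt : φ c * φ t = φ t * φ c := cm φ ct
  have cd : φ c * φ d = φ d * φ c := (cm φ r7).symm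
  have i1 := inv_eq_of_mul_eq_one_right v11
  have i2 := inv_eq_of_mul_eq_one_right v22
  have fx : ∀ {x y : G}, x * y = y * x → x * y * x⁻¹ = y := fun e => by rw [e, mul_inv_cancel_right]
  have wt : ψ v * φ v * φ t = φ t * (ψ v * φ v) := Commute.mul_left v1t v2t
  have wd : ψ v * φ v * φ d = φ d * (ψ v * φ v) := Commute.mul_left v1d v2d
  have wc : ψ v * φ v * φ c * (ψ v * φ v)⁻¹ = φ c * φ t * φ d := by
    calc _ = ψ v * (φ v * φ c * (φ v)⁻¹) * (ψ v)⁻¹ := by group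
      _ = _ := by rw [v2c, ← conj_mul, v1c, fx v1d]
  have kt : ψ v * φ v * (ψ v * φ v) * φ t = φ t * (ψ v * φ v * (ψ v * φ v)) :=
    Commute.mul_left wt wt
  have kc : ψ v * φ v * (ψ v * φ v) * φ c = φ c * (ψ v * φ v * (ψ v * φ v)) := by
    rw [← mul_inv_eq_iff_eq_mul]
    calc _ = ψ v * φ v * (ψ v * φ v * φ c * (ψ v * φ v)⁻¹) * (ψ v * φ v)⁻¹ := by group
      _ = _ := by
        rw [wc, ← conj_mul, ← conj_mul, wc, fx wt, fx wd, mul_assoc, mul_assoc, mul_assoc,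
          kl.comm', kl.qq, mul_one, tt, mul_one]
  obtain ⟨i, hi, j, hj, k, hk, ek⟩ : ∃ i < 2, ∃ j < 2, ∃ k < 2,
      ψ v * φ v * (ψ v * φ v) = φ t ^ i * φ d ^ j * φ c ^ k := by
    rcases h.hyp.key (hc _ kc) with ⟨l, e⟩ | ⟨l, e⟩
    · have := ((cent_d l (hl.cm.mp (e ▸ Commute.mul_left wd wd))).2.2 (hl.cm.mp (e ▸ kt))).1
        (hl.cm.mp (e ▸ kc))
      simpa only [← e, ← map_pow, ← map_mul, hl.inj.eq_iff] using this
    · refine absurd (hl.cj' ?_) (ne_conj l).1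
      rw [e, ← h.ut]
      calc _ = u * (ψ v * φ v * (ψ v * φ v) * φ t * (ψ v * φ v * (ψ v * φ v))⁻¹) * u⁻¹ := by group
        _ = _ := by rw [fx kt]
  have kk : ψ v * φ v * (ψ v * φ v) * (ψ v * φ v * (ψ v * φ v)) = 1 := by
    rw [ek, ← pow_two, Commute.mul_pow (Commute.mul_left (Commute.pow_pow ctt.symm i k)
      (Commute.pow_pow cd.symm j k)), Commute.mul_pow (Commute.pow_pow kl.comm i j),
      pow_right_comm, pow_right_comm _ j, pow_right_comm _ k, pow_two, pow_two, pow_two, tt, kl.qq, cc]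
    simp
  have ki : φ v * ψ v * (φ v * ψ v) = ψ v * φ v * (ψ v * φ v) := by
    rw [← inv_eq_of_mul_eq_one_right kk]; simp [i1, i2, mul_assoc]
  have k1 : ψ v * (φ t ^ i * φ d ^ j * φ c ^ k) * (ψ v)⁻¹ = φ t ^ i * φ d ^ j * φ c ^ k := by
    rw [← ek]
    calc _ = (ψ v * ψ v) * (φ v * ψ v * (φ v * (ψ v)⁻¹)) := by group
      _ = _ := by rw [v11, one_mul, i1, ki]
  have k2 : u * (φ t ^ i * φ d ^ j * φ c ^ k) * u⁻¹ = φ t ^ i * φ d ^ j * φ c ^ k := by
    rw [← ek, ← conj_mul, ← conj_mul, h.up, h.uq, ki]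
  rw [← conj_mul, ← conj_mul, ← conj_pow, ← conj_pow, ← conj_pow, fx v1t, fx v1d, v1c] at k1
  rw [← conj_mul, ← conj_mul, ← conj_pow, ← conj_pow, ← conj_pow, h.ut, h.hyp.back h.ut,
    h.hyp.uc] at k2
  obtain rfl : k = 0 := by
    by_contra hn
    obtain rfl : k = 1 := by omega
    exact n1 (hl.eq1.mp (by simpa using k1))
  have k3 : ψ v * φ v * (ψ v * φ v) = φ t * φ d := by
    interval_cases i <;> interval_cases j
    · obtain ⟨l, e⟩ := hB (φ v) (pd ▸ v2t) (by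
        rw [← mul_inv_eq_one, mul_inv_rev, i1, i2, mul_assoc, ← mul_assoc (φ v), ki]
        simpa using ek)
      exact absurd (h.loc.cj' (by rw [e, pc, v2c, map_mul, pc, pt])) (ne_conj l).2
    · exact absurd (hl.inj (by simpa using k2.symm)) n3
    · exact absurd (hl.inj (by simpa using k2)) n3
    · simpa using ek
  have k4 : φ v * ψ v * (φ v)⁻¹ = φ t * φ d * ψ v := by
    rw [← k3, ← ki, i2]; simp [mul_assoc, v11]
  obtain ⟨w, w1, w2, w3⟩ : ∃ w, w * φ t * w⁻¹ = φ t * φ d ∧ w * φ d * w⁻¹ = φ d ∧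
      w * ψ v * w⁻¹ = ψ v := by
    have f1 : ψ e * φ t * (ψ e)⁻¹ = ψ v := pd ▸ cj ψ e1
    have f2 : ψ e * ψ v * (ψ e)⁻¹ = φ t * ψ v := by rw [cj ψ e2, map_mul, pd]
    have f3 : ψ e * φ d * (ψ e)⁻¹ = φ d := pt ▸ fx (cm ψ e3)
    have g1 : φ v * φ c * φ t * (φ v * φ c)⁻¹ = φ t := fx (Commute.mul_left v2t ctt)
    have g2 : φ v * φ c * φ d * (φ v * φ c)⁻¹ = φ d := fx (Commute.mul_left v2d cd)
    have g3 : φ v * φ c * ψ v * (φ v * φ c)⁻¹ = φ d * ψ v := by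
      calc _ = φ v * (φ c * ψ v * (φ c)⁻¹) * (φ v)⁻¹ := by group
        _ = _ := by rw [cv1, ← conj_mul, k4, fx v2t, mul_assoc, kl.pp']
    have g4 : ∀ {x y x' y'}, φ v * φ c * x * (φ v * φ c)⁻¹ = y → ψ e * x * (ψ e)⁻¹ = x' →
        ψ e * y * (ψ e)⁻¹ = y' →
        ψ e * (φ v * φ c) * (ψ e)⁻¹ * x' * (ψ e * (φ v * φ c) * (ψ e)⁻¹)⁻¹ = y' := by
      rintro _ _ _ _ rfl rfl rfl; group
    have g5 := g4 g1 f1 f1
    have g6 := g4 g3 f2 (by rw [← conj_mul, f3, f2])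
    rw [← conj_mul, g5, ← mul_assoc (φ d), mul_left_inj, ← kl.comm] at g6
    exact ⟨_, g6, g4 g2 f3 f3, g5⟩
  have c1 : w * φ c * w⁻¹ * φ d = φ d * (w * φ c * w⁻¹) := by
    rw [← w2, conj_mul, conj_mul, cd]
  have c2 : w * φ c * w⁻¹ * φ t = φ t * (w * φ c * w⁻¹) := by
    have : w * φ c * w⁻¹ * (φ t * φ d) = φ t * φ d * (w * φ c * w⁻¹) := by
      rw [← w1, conj_mul, conj_mul, ctt]
    rwa [← mul_assoc, mul_assoc (φ t), ← c1, ← mul_assoc, mul_left_inj] at this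
  have c3 : w * φ c * w⁻¹ * ψ v * (w * φ c * w⁻¹)⁻¹ = φ t * φ d * ψ v := by
    rw [← w1, ← w3, conj_mul, conj_inv, conj_mul, cv1, conj_mul]
  have c4 : w * φ c * w⁻¹ * (w * φ c * w⁻¹) = 1 := by rw [conj_mul, cc]; group
  have c5 : IsConj (φ c) (w * φ c * w⁻¹) := isConj_iff.mpr ⟨w, rfl⟩
  generalize w * φ c * w⁻¹ = y at c1 c2 c3 c4 c5
  obtain ⟨l, el⟩ := hB ((φ v)⁻¹ * y) (pd ▸ Commute.mul_left (Commute.inv_left v2t) c2) (by
    rw [← mul_inv_eq_iff_eq_mul]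
    calc _ = (φ v)⁻¹ * (y * ψ v * y⁻¹) * φ v := by group
      _ = _ := by rw [c3, ← k4]; group)
  obtain ⟨i, hi, j, hj, k, hk, rfl⟩ := ((cent_d l (h.loc.cm.mp (by
    rw [el, pd]; exact Commute.mul_left (Commute.inv_left v2t) c2))).2.2 (h.loc.cm.mp (by
      rw [el, pt]; exact Commute.mul_left (Commute.inv_left v2d) c1))).2 (h.loc.cm.mp (by
        rw [el, ← mul_inv_eq_iff_eq_mul]
        calc _ = (φ v)⁻¹ * (y * ψ v * y⁻¹) * φ v := by group
          _ = _ := by rw [c3, ← k4]; group))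
  rw [eq_inv_mul_iff_mul_eq, map_mul, map_mul, map_pow, map_pow, map_pow, pt, pd] at el
  obtain rfl : k = 0 := by
    by_contra hn
    obtain rfl : k = 1 := by omega
    have c6 : φ v * (φ d ^ i * φ t ^ j * ψ v) * (φ v)⁻¹ = (φ d ^ i * φ t ^ j * ψ v)⁻¹ := by
      rw [eq_inv_iff_mul_eq_one, i2, ← c4, ← el, pow_one]; group
    rw [← conj_mul, ← conj_mul, ← conj_pow, ← conj_pow, fx v2t, fx v2d, k4, mul_inv_rev, mul_inv_rev,
      ← inv_pow, ← inv_pow, kl.ip, kl.iq, i1, (Commute.mul_right (Commute.pow_right v1t j)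
        (Commute.pow_right v1d i)).eq, ← mul_assoc _ _ (ψ v), mul_left_inj,
      (Commute.pow_pow kl.comm j i).eq, mul_eq_left, ← map_mul] at c6
    exact n4 (hl.eq1.mp c6)
  have t1 : IsConj (φ t) (φ d) := isConj_iff.mpr ⟨u, h.ut⟩
  have t2 : IsConj (φ t) (φ t * φ d) := isConj_iff.mpr ⟨w, w1⟩
  have t3 : ∀ x, e * d * e⁻¹ = x ∨ e * x * e⁻¹ = d → IsConj (φ t) (φ x) ∧
      IsConj (φ t) (φ x * φ t) := by
    have et := fx (cm φ e3)
    rintro x (e | e)
    · exact ⟨t1.trans (icj φ e), t2.trans (isConj_iff.mpr ⟨_, by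
        rw [kl.comm, ← conj_mul, et, cj φ e]⟩)⟩
    · exact ⟨t1.trans (icj φ e).symm, t2.trans (isConj_iff.mpr ⟨_, by
        rw [kl.comm, ← conj_mul, et, cj φ e]⟩).symm⟩
  refine h.nc (c5.trans (IsConj.symm ?_))
  rw [← el, pow_zero, mul_one, ← mul_assoc]
  interval_cases i <;> interval_cases j <;> simp only [pow_zero, pow_one, mul_one]
  · exact (t3 v (Or.inl e1)).1
  · exact (t3 v (Or.inl e1)).2
  · rw [v2d, ← map_mul]; exact (t3 _ (Or.inr e4)).1
  · rw [v2d, ← map_mul]; exact (t3 _ (Or.inr e4)).2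

end S8

end Cfsg.Agent.Char
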