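import Cfsg.Agent.Char.S8E1

/-!
# The exceptional configuration with a `3`-local subgroup `S₃ × S₅`, second part
-/

set_option autoImplicit false

namespace Cfsg.Agent.Char.S8

open Subgroup Local Equiv
open scoped Pointwise

variable {G : Type*} [Group G] {φ ψ : P →* G} {u : G}

attribute [local irreducible] z a c t s h p q v e m d

theorem gen_A5 {J : Subgroup P} (ha : a ∈ J) (hd : d ∈ J) (hp : p ∈ J) {y : Perm (Fin 5)}
    (hy : Perm.sign y = 1) : ((1, y) : P) ∈ J := by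
  obtain ⟨-, r1, r2, r3⟩ := relE.2.2.2.2.1
  have : closure (Set.range (Pres.altGen 3)) ≤ J.comap (MonoidHom.inr _ _) := by
    rw [closure_le]
    rintro _ ⟨i, rfl⟩
    have h1 := mul_mem (mul_mem ha hd) hp
    fin_cases i
    · exact r1.symm.subst (motive := (· ∈ J)) (mul_mem (mul_mem h1 hd) ha)
    · exact r2.symm.subst (motive := (· ∈ J)) (mul_mem (mul_mem h1 ha) hd)
    · exact r3.symm.subst (motive := (· ∈ J)) (mul_mem (mul_mem (mul_mem h1 hd) ha) hp)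
  exact this (Pres.closure_altGen 3 ▸ hy)

theorem klV (φ : P →* G) : Kl (φ p) (φ q) :=
  (⟨relE.1.1, relE.1.2.1, relE.1.2.2.1⟩ : Kl p q).map φ

theorem zV : φ z ∈ centralizer ((klV φ).V : Set G) :=
  (klV φ).mem_cent.mpr ⟨cm φ relE.1.2.2.2.2.2.1, cm φ relE.1.2.2.2.2.2.2.1⟩

theorem aV [Finite G] : φ a ∈ normalizer ((klV φ).V : Set G) :=
  (klV φ).mem_norm (by simp [cj φ relE.1.2.2.2.1, Kl.mem_V])
    (by simp [cj φ relE.1.2.2.2.2.1, Kl.mem_V])

theorem Loc.cent_V (hl : Loc φ) : ∀ g ∈ centralizer ((klV φ).V : Set G), g * φ z = φ z * g →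
    g ∈ zpowers (φ z) ⊔ (klV φ).V := by
  intro g hg e
  obtain ⟨l, rfl⟩ := hl.cent e
  rw [Kl.mem_cent, hl.cm, hl.cm] at hg
  obtain ⟨i, -, e | e | e | e⟩ := (S8.cent_V l hg.1 hg.2).2 (hl.cm.mp e) <;> rw [e]
  · exact mem_sup_left (by simpa using npow_mem_zpowers _ i)
  all_goals
    rw [map_mul, map_pow]
    exact mul_mem_sup (npow_mem_zpowers _ i) (by simp [Kl.mem_V])

theorem Loc.not_mem (hl : Loc φ) : φ a ∉ zpowers (φ z) := fun e => by
  rcases mem_zpowers_three hl.oz e with e | e | e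
  · exact rel.1.2.2.2.1 (hl.eq1.mp e)
  · exact rel.1.2.2.2.2.2.1 (hl.inj e)
  · exact rel.1.2.2.2.2.2.2.1 (hl.inj (e.trans (map_inv φ z).symm))

theorem HE.back (h : HE φ ψ u) {g : G} (h1 : g * ψ d = ψ d * g) (h2 : g * ψ v = ψ v * g) :
    (u * φ m)⁻¹ * g * (u * φ m) ∈ centralizer ((klV φ).V : Set G) := by
  have key : ∀ x y, m * x * m⁻¹ = y → g * ψ y = ψ y * g →
      (u * φ m)⁻¹ * g * (u * φ m) * φ x = φ x * ((u * φ m)⁻¹ * g * (u * φ m)) := fun x y e e' => by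
    calc _ = (u * φ m)⁻¹ * (g * (u * (φ m * φ x * (φ m)⁻¹) * u⁻¹)) * (u * φ m) := by group
      _ = _ := by rw [cj φ e, h.up, e', ← h.up, ← cj φ e]; group
  exact (klV φ).mem_cent.mpr ⟨key _ _ relE.2.1.1 h1, key _ _ relE.2.1.2.1 h2⟩

theorem HE.comm_p [Finite G] (h : HE φ ψ u)
    (hd : (∀ g, g * φ c = φ c * g → g ∈ normalizer (D φ : Set G)) ∨ ∃ F, S6Q (φ c) F)
    {y : Perm (Fin 5)} (hy : Perm.sign y = 1) : ψ (1, y) * φ p = φ p * ψ (1, y) := by
  have hl := h.hyp.loc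
  have kl := klV φ
  obtain ⟨K, k1, k2, k3, k4, k5, -⟩ := tri (D := D φ) kl.not_dvd kl.le_cent hl.oz zV hl.cent_V
    (fun e => ⟨1, Subtype.ext (by simpa using D_cube e.2)⟩) (by
      rw [D, closure_le]; rintro x (rfl | rfl)
      exacts [centralizer_le_normalizer _ zV, aV])
  have hK : ∀ {k}, k ∈ K → k ^ 3 = 1 → k = 1 := fun hk e => eq_one_of_pow_eq_one_of_coprime
    ((Nat.Prime.coprime_iff_not_dvd Nat.prime_three).mpr k4) e
    (orderOf_dvd_iff_pow_eq_one.mp (orderOf_dvd_card_of_mem hk))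
  have cK : φ c ∉ K := fun e => relE.1.2.2.2.2.2.2.2.2.2.1 (hl.cm.mp (kl.mem_cent.mp (k2 e)).1)
  obtain ⟨k, hk, ka, k0⟩ : ∃ k ∈ K, k * φ a = φ a * k ∧ k ≠ 1 := by
    by_contra hn
    push Not at hn
    have hB := k5 (le_antisymm (le_of_centralizer_le_of_rank_two Nat.prime_three
      (k3 aD) (k3 zD) za.symm a3 hl.oz hl.not_mem k4 fun e he e1 k hk => ?_) k1)
    · refine h.not_bad hd fun g h1 h2 => ?_
      obtain ⟨l, e⟩ := hl.mem _ (hB _ (h.back h1 h2))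
      exact ⟨m * l * m⁻¹, by rw [← h.up, ← cj φ rfl, e]; group⟩
    rw [Set.pair_comm] at he
    have h1 := mem_centralizer_singleton_iff.mp hk.2
    have hkK : k ∈ K := hk.1
    have inv : ∀ {d x : G}, k * d = d * k → d = x ∨ d = x⁻¹ → k * x = x * k := by
      rintro d x e (rfl | rfl)
      exacts [e, Commute.inv_right_iff.mp e]
    obtain ⟨l, lN, e | e | e⟩ := cls he e1
    · obtain ⟨_, ⟨n, rfl⟩, v, hv, e'⟩ := (mem_sup_of_left_le_normalizer
        (zpowers_le.mpr (centralizer_le_normalizer _ zV))).mp (hl.cent_V k (k2 hkK) (inv h1 (by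
          rw [← e, ← map_inv φ z]; exact (norm_z l).imp (cj φ) (cj φ))))
      replace e' : φ z ^ n * v = k := e'
      have h2 : φ z ^ n = 1 := hK (by simpa [← e'] using mul_mem hkK (inv_mem (k1 hv))) (by
        rw [← zpow_natCast, ← zpow_mul, mul_comm, zpow_mul, zpow_natCast, z3, one_zpow])
      rwa [← e', h2, one_mul]
    · rw [hn k hkK (inv h1 (by
        rw [← e, ← map_inv φ a]; exact (norm_D l (hl.of_norm lN)).1.imp (cj φ) (cj φ)))]
      exact one_mem _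
    · have h2 : k ∈ normalizer (D φ : Set G) := by
        have h3 := h.hyp.cy ((φ l)⁻¹ * k * φ l) (by
          calc _ = (φ l)⁻¹ * (k * (φ l * φ (z * a) * (φ l)⁻¹)) * φ l := by group
            _ = _ := by rw [e, h1, ← e]; group)
        simpa [mul_assoc] using mul_mem (mul_mem lN h3) (inv_mem lN)
      have h3 : k * φ a = φ a * k := by
        rw [← mul_inv_eq_iff_eq_mul, ← mul_inv_eq_one]
        have := mul_mem hkK (conj_mem_of_mem_normalizer (k3 aD) (inv_mem hkK))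
        exact hK (by simpa [mul_assoc] using this)
          (D_cube (mul_mem (conj_mem_of_mem_normalizer h2 aD) (inv_mem aD)))
      rw [hn k hkK h3]
      exact one_mem _
  obtain ⟨⟨x, w⟩, rfl⟩ := h.loc.cent (g := k) (h.pz ▸ ka)
  obtain rfl : x = 1 := by
    refine sel1 x (congrArg Prod.fst (h.loc.cm.mp (h.pz ▸ ka))) ?_
    have := h.loc.eq1.mp (map_pow ψ _ _ ▸ hK (pow_mem hk 40) (by
      rw [← pow_mul, ← map_pow, h.loc.eq1, Prod.pow_mk, Prod.mk_eq_one]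
      refine ⟨?_, ?_⟩ <;> refine orderOf_dvd_iff_pow_eq_one.mp (orderOf_dvd_card.trans ?_) <;>
        simp [Fintype.card_perm, Nat.factorial]))
    exact congrArg Prod.fst this
  have a1 : a = (1, a.2) := by decide +kernel
  have K1 : ψ (1, a.2 * w * a.2⁻¹) ∈ K := by
    have := conj_mem_of_mem_normalizer (k3 zD) hk
    rwa [← h.pa, cj ψ rfl, a1] at this
  have K2 : ψ (1, a.2⁻¹ * w * a.2) ∈ K := by
    have := inv_conj_mem_of_mem_normalizer (k3 zD) hk
    rwa [← h.pa, ← map_inv, ← map_mul, ← map_mul, a1] at this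
  have m1 : ∀ {x y}, ψ (1, x) ∈ K → ψ (1, y) ∈ K → ψ (1, x * y) ∈ K := fun h1 h2 => by
    simpa [← map_mul] using mul_mem h1 h2
  have h6 : ∀ w, ψ (1, w) ∈ K → (w ^ 2) ^ 3 = 1 → w ^ 2 = 1 := fun w hw e => by
    have := h.loc.eq1.mp (map_pow ψ _ _ ▸ hK (pow_mem hw 2) (by
      rw [← map_pow, ← map_pow, Prod.pow_mk, Prod.pow_mk, e, one_pow, one_pow]; exact map_one ψ))
    exact congrArg Prod.snd this
  obtain ⟨i, -, j, -, hs⟩ := sel w (fun e => k0 (by rw [e]; exact map_one ψ))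
    (fun e => cK (by rw [← h.pc, show c = (1, c.2) by decide +kernel, ← e]; exact hk))
    (h6 _ (m1 hk K1)) (h6 _ (m1 (m1 hk hk) K1)) (h6 _ (m1 (m1 (m1 hk K1) hk) K2))
  have hJ : ∀ {l}, ψ l * φ p = φ p * ψ l → l ∈ (centralizer {φ p}).comap ψ :=
    mem_centralizer_singleton_iff.mpr
  have J1 := hJ (h.pa ▸ cm φ relE.1.2.2.2.2.2.1)
  have J2 := hJ (h.pd ▸ cm φ relE.1.2.2.2.2.2.2.2.1)
  have J3 := mul_mem (pow_mem J2 j) (pow_mem J1 i)
  exact mem_centralizer_singleton_iff.mp (gen_A5 J1 J2 (by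
    have := mul_mem (mul_mem (inv_mem J3) (hJ (kl.mem_cent.mp (k2 hk)).1)) J3
    rwa [hs] at this) hy)

theorem HE.comm [Finite G] (h : HE φ ψ u)
    (hd : (∀ g, g * φ c = φ c * g → g ∈ normalizer (D φ : Set G)) ∨ ∃ F, S6Q (φ c) F)
    {x y : Perm (Fin 5)} (hx : Perm.sign x = 1) (hy : Perm.sign y = 1) :
    φ (1, y) * ψ (1, x) = ψ (1, x) * φ (1, y) := by
  have hJ : ∀ {l}, φ l * ψ (1, x) = ψ (1, x) * φ l → l ∈ (centralizer {ψ (1, x)}).comap φ :=
    mem_centralizer_singleton_iff.mpr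
  have d : z.2 = 1 ∧ t.2 = 1 := by decide +kernel
  exact mem_centralizer_singleton_iff.mp (gen_A5
    (hJ (h.pz ▸ cm ψ (Prod.ext (by simp) (by simp [d.1]))))
    (hJ (h.pt ▸ cm ψ (Prod.ext (by simp) (by simp [d.2])))) (hJ (h.comm_p hd hx).symm) hy)

end Cfsg.Agent.Char.S8
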