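import Cfsg.Agent.Char.S8E2
import Cfsg.Agent.Char.S8A
import Cfsg.Agent.Char.ZCent

/-!
# The exceptional configuration with a `3`-local subgroup `S₃ × S₅`, third part
-/

set_option autoImplicit false

namespace Cfsg.Agent.Char.S8

open Subgroup Local Equiv
open scoped Pointwise

variable {G : Type*} [Group G] {φ ψ : P →* G} {u : G}

/-- Pairs of permutations with the same sign. -/
def M : Subgroup (Perm (Fin 5) × Perm (Fin 5)) where
  carrier := {x | Perm.sign x.1 = Perm.sign x.2}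
  one_mem' := rfl
  mul_mem' := fun {x y} hx hy => by
    change Perm.sign (x.1 * y.1) = Perm.sign (x.2 * y.2)
    rw [map_mul, map_mul, hx, hy]
  inv_mem' := fun {x} hx => by
    change Perm.sign x.1⁻¹ = Perm.sign x.2⁻¹
    rw [map_inv, map_inv, hx]

theorem sgn : Perm.sign c.2 = -1 ∧ Perm.sign d.2 = 1 ∧ Perm.sign v.2 = 1 ∧ Perm.sign a.2 = 1 ∧
    c.2 * c.2 = 1 ∧ d.2 * d.2 = 1 ∧ d.2 ≠ 1 ∧ c = (1, c.2) ∧ d = (1, d.2) ∧ v = (1, v.2) ∧
    a = (1, a.2) := by decide +kernel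

/-- The pair of even permutations. -/
def ev (x y : Perm (Fin 5)) (hx : Perm.sign x = 1) (hy : Perm.sign y = 1) : M :=
  ⟨(x, y), hx.trans hy.symm⟩

def T1 : M := ev d.2 1 sgn.2.1 (map_one _)
def T2 : M := ev 1 d.2 (map_one _) sgn.2.1
def Cc : M := ⟨(c.2, c.2), rfl⟩

/-- Interchanging the factors. -/
def sw (x : M) : M := ⟨(x.1.2, x.1.1), Eq.symm x.2⟩

attribute [local irreducible] z a c t s h p q v e m d

theorem clsM (x : M) (hx : x * x = 1) : x = 1 ∨ ∃ k, k * T1 * k⁻¹ = x ∨ k * T2 * k⁻¹ = x ∨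
    k * (T1 * T2) * k⁻¹ = x ∨ k * Cc * k⁻¹ = x := by
  obtain ⟨⟨x, y⟩, h⟩ := x
  replace h : Perm.sign x = Perm.sign y := h
  obtain ⟨s1, s2, -⟩ := sgn
  rcases inv5 x (congrArg (·.1.1) hx) with rfl | ⟨k, hk, rfl | rfl⟩ <;>
    rcases inv5 y (congrArg (·.1.2) hx) with rfl | ⟨l, hl, rfl | rfl⟩
  · exact Or.inl rfl
  · simp [s1] at h
  · exact Or.inr ⟨ev l l hl hl, Or.inr (Or.inl (Subtype.ext (by simp [ev, T2])))⟩
  · simp [s1] at h
  · exact Or.inr ⟨ev k l hk hl, Or.inr (Or.inr (Or.inr (Subtype.ext (by simp [ev, Cc]))))⟩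
  · simp [s1, s2, hk, hl] at h
  · exact Or.inr ⟨ev k k hk hk, Or.inl (Subtype.ext (by simp [ev, T1]))⟩
  · simp [s1, s2, hk, hl] at h
  · exact Or.inr ⟨ev k l hk hl, Or.inr (Or.inr (Or.inl (Subtype.ext (by simp [ev, T1, T2]))))⟩

theorem ev_or (x : M) : ∃ y w hy hw, x = ev y w hy hw ∨ x = ev y w hy hw * Cc := by
  obtain ⟨⟨x, y⟩, h⟩ := x
  replace h : Perm.sign x = Perm.sign y := h
  rcases Int.units_eq_one_or (Perm.sign x) with e | e
  · exact ⟨x, y, e, h ▸ e, Or.inl rfl⟩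
  · exact ⟨x * c.2, y * c.2, by simp [e, sgn.1], by simp [← h, e, sgn.1],
      Or.inr (Subtype.ext (by simp [ev, Cc, mul_assoc, sgn.2.2.2.2.1]))⟩

theorem exists_R {α β : Perm (Fin 5) →* G} (hc : α c.2 = β c.2)
    (h : ∀ x y, Perm.sign x = 1 → Perm.sign y = 1 → β y * α x = α x * β y) :
    ∃ R : M →* G, (∀ x y hx hy, R (ev x y hx hy) = α x * β y) ∧ R Cc = β c.2 := by
  obtain ⟨s1, -, -, -, s2, -⟩ := sgn
  have s3 : ∀ x, c.2 * (c.2 * x) = x := fun x => by rw [← mul_assoc, s2, one_mul]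
  refine ⟨MonoidHom.mk' (fun x => α x.1.1 * β (if Perm.sign x.1.1 = 1 then x.1.2 else c.2 * x.1.2))
    ?_, fun x y hx hy => ?_, ?_⟩
  rotate_left
  · exact congrArg (α x * β ·) (if_pos hx)
  · refine (congrArg (α c.2 * β ·) (if_neg (by simp [Cc, s1]))).trans ?_
    simp [Cc, s2, hc]
  rintro ⟨⟨x, y⟩, h1⟩ ⟨⟨x', y'⟩, h2⟩
  replace h1 : Perm.sign x = Perm.sign y := h1
  replace h2 : Perm.sign x' = Perm.sign y' := h2
  have h3 : ∀ w, Perm.sign w = 1 → Perm.sign x' = -1 →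
      β w * α x' * β (c.2 * y') = α x' * β (c.2 * w * y') := fun w hw e => by
    have e1 : α x' = α (x' * c.2) * β c.2 := by rw [← hc, ← map_mul, mul_assoc, s2, mul_one]
    rw [e1, ← mul_assoc, h _ _ (by simp [e, s1]) hw]
    simp only [mul_assoc, ← map_mul, s3]
  simp only [MulMemClass.mk_mul_mk, Prod.mk_mul_mk, map_mul Perm.sign]
  rcases Int.units_eq_one_or (Perm.sign x) with e | e <;>
    rcases Int.units_eq_one_or (Perm.sign x') with e' | e' <;>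
    simp only [e, e', mul_one, mul_neg, neg_neg, if_true, show ¬ (-1 : ℤˣ) = 1 by decide, if_false,
      map_mul α, mul_assoc, mul_right_inj]
  · rw [← mul_assoc, h _ _ e' (h1 ▸ e), mul_assoc, map_mul]
  · rw [← mul_assoc (β y), h3 y (h1 ▸ e) e', mul_assoc]
  · rw [← mul_assoc (β _), h _ _ e' (by simp [s1, ← h1, e]), mul_assoc, ← map_mul, mul_assoc]
  · rw [← mul_assoc (β _), h3 _ (by simp [s1, ← h1, e]) e', s3]

/-- The description of the exceptional group. -/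
structure WR (φ ψ : P →* G) (u : G) (R : M →* G) : Prop where
  he : HE φ ψ u
  ev : ∀ x y hx hy, R (ev x y hx hy) = ψ (1, x) * φ (1, y)
  cc : R Cc = φ c

variable {R : M →* G}

theorem HE.exists_WR [Finite G] (h : HE φ ψ u)
    (hd : (∀ g, g * φ c = φ c * g → g ∈ normalizer (D φ : Set G)) ∨ ∃ F, S6Q (φ c) F) :
    ∃ R, WR φ ψ u R := by
  have e := sgn.2.2.2.2.2.2.2.1
  obtain ⟨R, h1, h2⟩ := exists_R (α := ψ.comp (MonoidHom.inr _ _)) (β := φ.comp (MonoidHom.inr _ _))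
    (by change ψ (1, c.2) = φ (1, c.2); rw [← e, h.pc]) fun x y hx hy => h.comm hd hx hy
  exact ⟨R, h, h1, h2.trans (congrArg φ e.symm)⟩

theorem WR.t1 (h : WR φ ψ u R) : R T1 = φ t := by
  rw [T1, h.ev, ← sgn.2.2.2.2.2.2.2.2.1, h.he.pd]; exact mul_eq_left.mpr (map_one φ)

theorem WR.t2 (h : WR φ ψ u R) : R T2 = φ d := by
  rw [T2, h.ev, ← sgn.2.2.2.2.2.2.2.2.1]; exact mul_eq_right.mpr (map_one ψ)

theorem WR.e1 (h : WR φ ψ u R) (x hx) : R (S8.ev x 1 hx (map_one _)) = ψ (1, x) := by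
  rw [h.ev]; exact mul_eq_left.mpr (map_one φ)

theorem WR.e2 (h : WR φ ψ u R) (x hx) : R (S8.ev 1 x (map_one _) hx) = φ (1, x) := by
  rw [h.ev]; exact mul_eq_right.mpr (map_one ψ)

theorem WR.swap [Finite G] (h : WR φ ψ u R) (x : M) : u * R x * u⁻¹ = R (sw x) := by
  have key : ∀ y w hy hw, u * R (S8.ev y w hy hw) * u⁻¹ = R (S8.ev w y hw hy) := fun y w hy hw => by
    rw [h.ev, ← conj_mul, h.he.up, h.he.uq, ← h.e1 w hw, ← h.e2 y hy, ← map_mul]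
    exact congrArg R (Subtype.ext (by simp [S8.ev]))
  obtain ⟨y, w, hy, hw, rfl | rfl⟩ := ev_or x
  · exact key _ _ _ _
  · rw [map_mul, ← conj_mul, key, h.cc, h.he.hyp.uc, ← h.cc, ← map_mul]; rfl

theorem WR.inj [Finite G] (h : WR φ ψ u R) : Function.Injective R := by
  have key : ∀ x, R x = 1 → x.1.1 = 1 := fun x e => by
    have d : ∀ x : Perm (Fin 5), x * d.2 = d.2 * x → x * a.2 = a.2 * x → x * v.2 = v.2 * x →
      x = 1 := by decide +kernel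
    have h1 : ∀ y, Perm.sign y = 1 → x.1.1 * y = y * x.1.1 := fun y hy => by
      have h2 : Perm.sign (x.1.1 * y * x.1.1⁻¹) = 1 := by simp [hy]
      have h3 : S8.ev _ 1 h2 (map_one _) = x * S8.ev y 1 hy (map_one _) * x⁻¹ :=
        Subtype.ext (Prod.ext rfl (by simp [S8.ev]))
      have : ((1, x.1.1 * y * x.1.1⁻¹) : P) = (1, y) := h.he.loc.inj (by
        rw [← h.e1 _ h2, h3, map_mul, map_mul, map_inv, e, h.e1]; simp)
      exact mul_inv_eq_iff_eq_mul.mp (congrArg Prod.snd this)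
    exact d _ (h1 _ sgn.2.1) (h1 _ sgn.2.2.2.1) (h1 _ sgn.2.2.1)
  rw [injective_iff_map_eq_one]
  intro x e
  exact Subtype.ext (Prod.ext (key x e) (key (sw x) (by rw [← h.swap, e]; simp)))

/-- The subgroup generated by the image of `R` and `u`. -/
def WR.H [Finite G] (h : WR φ ψ u R) : Subgroup G where
  carrier := {g | ∃ x, g = R x ∨ g = R x * u}
  one_mem' := ⟨1, Or.inl (map_one R).symm⟩
  mul_mem' := by
    have e : ∀ y, u * R y = R (sw y) * u := fun y => by rw [← h.swap]; group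
    rintro _ _ ⟨x, rfl | rfl⟩ ⟨y, rfl | rfl⟩
    · exact ⟨x * y, Or.inl (map_mul R x y).symm⟩
    · exact ⟨x * y, Or.inr (by rw [map_mul, mul_assoc])⟩
    · exact ⟨x * sw y, Or.inr (by rw [map_mul, mul_assoc, e, mul_assoc])⟩
    · exact ⟨x * sw y, Or.inl (by
        rw [map_mul, mul_assoc, ← mul_assoc u, e, mul_assoc, h.he.hyp.uu, mul_one])⟩
  inv_mem' := by
    rintro _ ⟨x, rfl | rfl⟩
    · exact ⟨x⁻¹, Or.inl (map_inv R x).symm⟩
    · exact ⟨sw x⁻¹, Or.inr (by rw [← h.swap, map_inv, mul_inv_rev, h.he.hyp.ui, mul_assoc,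
        h.he.hyp.uu, mul_one])⟩

variable [Finite G]

theorem WR.rH (h : WR φ ψ u R) (x : M) : R x ∈ h.H := ⟨x, Or.inl rfl⟩

theorem WR.uH (h : WR φ ψ u R) : u ∈ h.H := ⟨1, Or.inr (by simp)⟩

theorem WR.fH (h : WR φ ψ u R) (l : P) : φ l ∈ h.H := by
  have tH : φ t ∈ h.H := h.t1 ▸ h.rH _
  refine range_le tH ?_ (fun i => ?_) l
  · rw [map_mul, ← h.he.pa, sgn.2.2.2.2.2.2.2.2.2.2, ← h.e1 _ sgn.2.2.2.1]
    exact mul_mem tH (h.rH _)
  · have := mul_mem (h.rH (S8.ev 1 (Pres.adj 4 i * c.2) (map_one _) (by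
      simp [Pres.sign_adj, sgn.1]))) (h.rH Cc)
    rwa [h.e2, h.cc, sgn.2.2.2.2.2.2.2.1, ← map_mul, Prod.mk_mul_mk, mul_assoc, sgn.2.2.2.2.1,
      mul_one, mul_one] at this

theorem WR.pH (h : WR φ ψ u R) (l : P) : ψ l ∈ h.H :=
  h.he.up l ▸ mul_mem (mul_mem h.uH (h.fH l)) (inv_mem h.uH)

theorem WR.cent_t (h : WR φ ψ u R) {g : G} (hg : g ∈ h.H) (e : g * φ t = φ t * g) :
    ∃ x, g = R x := by
  obtain ⟨x, rfl | rfl⟩ := hg
  · exact ⟨x, rfl⟩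
  have e1 : R (x * T2 * x⁻¹) = R T1 := by
    rw [map_mul, map_mul, map_inv, h.t1, h.t2, ← h.he.ut]
    calc _ = R x * u * φ t * (R x * u)⁻¹ := by group
      _ = _ := by rw [e]; group
  exact absurd (by simpa [T1, T2, S8.ev] using (congrArg (·.1.1) (h.inj e1)).symm) sgn.2.2.2.2.2.2.1

theorem WR.clsR (h : WR φ ψ u R) {x : M} (e : R x * R x = 1) : R x = 1 ∨ HC h.H (φ t) (R x) ∨
    HC h.H (φ t * φ d) (R x) ∨ HC h.H (φ c) (R x) := by
  have key : ∀ {k y}, k * y * k⁻¹ = x → HC h.H (R y) (R x) := fun {k y} e =>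
    ⟨_, h.rH k, by rw [← map_inv, ← map_mul, ← map_mul, e]⟩
  rcases clsM x (h.inj (by rw [map_mul, e, map_one])) with rfl | ⟨k, e | e | e | e⟩
  · exact Or.inl (map_one R)
  · exact Or.inr (Or.inl (h.t1 ▸ key e))
  · exact Or.inr (Or.inl (HC.trans ⟨u, h.uH, h.he.ut⟩ (h.t2 ▸ key e)))
  · exact Or.inr (Or.inr (Or.inl (by have := key e; rwa [map_mul, h.t1, h.t2] at this)))
  · exact Or.inr (Or.inr (Or.inr (h.cc ▸ key e)))

theorem WR.cls (h : WR φ ψ u R) {w : G} (hw : w ∈ h.H) (e : w * w = 1) :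
    (w = 1 ∨ HC h.H (φ t) w ∨ HC h.H (φ t * φ d) w ∨ HC h.H (φ c) w) ∨
      HC h.H u w ∨ HC h.H (φ c * u) w := by
  obtain ⟨x, rfl | rfl⟩ := hw
  · exact Or.inl (h.clsR e)
  have e1 : x * sw x = 1 := h.inj (by rw [map_mul, ← h.swap, h.he.hyp.ui, map_one, ← e]; group)
  have e2 : ∀ k : M, u * (R k)⁻¹ = R (sw k⁻¹) * u := fun k => by rw [← h.swap, map_inv]; group
  obtain ⟨y, w, hy, hw, rfl | rfl⟩ := ev_or x
  · refine Or.inr (Or.inl ⟨_, h.rH (S8.ev y 1 hy (map_one _)), ?_⟩)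
    rw [mul_assoc, e2, ← mul_assoc, ← map_mul]
    refine congrArg (R · * u) (Subtype.ext ?_)
    simpa [S8.ev, sw, inv_eq_iff_mul_eq_one] using congrArg (·.1.1) e1
  · refine Or.inr (Or.inr ⟨_, h.rH (S8.ev y 1 hy (map_one _)), ?_⟩)
    rw [mul_assoc, mul_assoc, e2, ← h.cc, ← mul_assoc, ← mul_assoc, ← map_mul, ← map_mul]
    refine congrArg (R · * u) (Subtype.ext ?_)
    have := congrArg (·.1.1) e1
    simp only [S8.ev, sw, Cc, coe_mul, Prod.mk_mul_mk, OneMemClass.coe_one, Prod.fst_one] at this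
    simp only [S8.ev, sw, Cc, coe_mul, Prod.mk_mul_mk, coe_inv, Prod.inv_mk, inv_one, mul_one,
      one_mul, Prod.mk.injEq, true_and]
    rw [eq_comm, ← mul_inv_eq_one, mul_inv_rev, inv_inv, inv_eq_of_mul_eq_one_right sgn.2.2.2.2.1,
      mul_eq_one_comm, this]

theorem WR.shape (h : WR φ ψ u R) {w : G} (e : HC h.H (φ t) w) :
    ∃ x, w = R x ∧ x * x = 1 ∧ x ≠ 1 ∧ (x.1.1 = 1 ∨ x.1.2 = 1) := by
  have key : ∀ k y : M, y * y = 1 ∧ y ≠ 1 ∧ (y.1.1 = 1 ∨ y.1.2 = 1) →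
      ∃ x, R k * R y * (R k)⁻¹ = R x ∧ x * x = 1 ∧ x ≠ 1 ∧ (x.1.1 = 1 ∨ x.1.2 = 1) :=
    fun k y ⟨h1, h2, h3⟩ => ⟨k * y * k⁻¹, by simp, by rw [conj_mul, h1]; group,
      fun e => h2 (conj_eq_one_iff.mp e), h3.imp (fun e => by simp [e]) fun e => by simp [e]⟩
  obtain ⟨_, ⟨k, rfl | rfl⟩, rfl⟩ := e
  · exact h.t1 ▸ key k T1 (by decide +kernel)
  · have := key k T2 (by decide +kernel)
    rw [h.t2, ← h.he.ut] at this
    simpa only [mul_inv_rev, mul_assoc] using this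

theorem WR.four (h : WR φ ψ u R) {w : G} (h1 : HC h.H (φ t) w) (h2 : HC h.H (φ t) (φ t * w))
    (h3 : w * φ t = φ t * w) : w = ψ v ∨ w = φ t * ψ v := by
  obtain ⟨x, rfl, e1, e2, e3⟩ := h.shape h1
  obtain ⟨y, e4, -, e5, e6⟩ := h.shape h2
  rw [← h.t1, ← map_mul, h.inj.eq_iff] at e4
  rw [← h.t1, ← map_mul, ← map_mul, h.inj.eq_iff] at h3
  subst e4
  obtain ⟨⟨x, y⟩, hx⟩ := x
  have d1 := sgn.2.2.2.2.2.2.1
  obtain rfl : y = 1 := by
    rcases e3 with rfl | e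
    · simpa [T1, S8.ev, d1] using e6
    · exact e
  rw [sgn.2.2.2.2.2.2.2.2.2.1, ← h.e1 _ sgn.2.2.1, ← h.t1, ← map_mul]
  rcases four5 x (congrArg (·.1.1) h3) (congrArg (·.1.1) e1) (hx.trans (map_one _)) with
    rfl | rfl | rfl | rfl
  · exact absurd rfl e2
  · exact absurd (Subtype.ext (by simp [T1, S8.ev, sgn.2.2.2.2.2.1])) e5
  · exact Or.inl rfl
  · exact Or.inr (congrArg R (Subtype.ext (by simp [T1, S8.ev])))

theorem WR.two (h : WR φ ψ u R) {w : G} (h1 : HC h.H (φ t) w)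
    (h2 : HC h.H (φ t) (φ t * φ d * w)) : w = φ t ∨ w = φ d := by
  obtain ⟨x, rfl, -, -, e3⟩ := h.shape h1
  obtain ⟨y, e4, -, -, e6⟩ := h.shape h2
  rw [← h.t1, ← h.t2, ← map_mul, ← map_mul, h.inj.eq_iff] at e4
  subst e4
  obtain ⟨⟨x, y⟩, hx⟩ := x
  have d1 := sgn.2.2.2.2.2.2.1
  have d2 := inv_eq_of_mul_eq_one_right sgn.2.2.2.2.2.1
  rw [← h.t1, ← h.t2]
  rcases e3 with rfl | rfl
  · obtain rfl : y = d.2 := by
      simpa [T1, T2, S8.ev, d1, mul_eq_one_iff_inv_eq, d2, eq_comm] using e6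
    exact Or.inr rfl
  · obtain rfl : x = d.2 := by
      simpa [T1, T2, S8.ev, d1, mul_eq_one_iff_inv_eq, d2, eq_comm] using e6
    exact Or.inl rfl

end Cfsg.Agent.Char.S8
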