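import Cfsg.Agent.Char.S8E3

/-!
# The exceptional configuration with a `3`-local subgroup `S₃ × S₅`, fourth part
-/

set_option autoImplicit false

namespace Cfsg.Agent.Char.S8

open Subgroup Local Equiv
open scoped Pointwise

variable {G : Type*} [Group G] [Finite G] {φ ψ : P →* G} {u : G} {R : M →* G}

attribute [local irreducible] z a c t s h p q v e m d

theorem HC.cent {H : Subgroup G} {x w g : G} (h1 : ∀ g, g * x = x * g → g ∈ H) (h2 : HC H x w)
    (e : g * w = w * g) : g ∈ H := by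
  obtain ⟨k, hk, rfl⟩ := h2
  have := h1 (k⁻¹ * g * k) (by
    calc _ = k⁻¹ * (g * (k * x * k⁻¹)) * k := by group
      _ = _ := by rw [e]; group)
  simpa [mul_assoc] using mul_mem (mul_mem hk this) (inv_mem hk)

theorem WR.top (h : WR φ ψ u R)
    (hd : (∀ g, g * φ c = φ c * g → g ∈ normalizer (D φ : Set G)) ∨ ∃ F, S6Q (φ c) F)
    (N3 : ∀ x ∈ normalizer (D φ : Set G), ∀ y ∈ normalizer (D φ : Set G),
      x ^ 2 ∈ D φ ∨ y ^ 2 ∈ D φ ∨ x ^ 2 * y ^ 2 ∈ D φ) : h.H = ⊤ := by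
  have he := h.he
  have hh := he.hyp
  have hl := hh.loc
  obtain ⟨hN, h3⟩ := hh.wc3 h.fH h.uH
  obtain ⟨⟨-, -, -, p1, p2, -, -, p3, p4, -, p5, -⟩, -, ⟨r1, r2, r3, r4, r5, -, r6, r7, r8, -⟩,
    ⟨-, e1, -, -, -, e4⟩, -, n1, n2, -⟩ := relE
  have ct := rel.2.1.2.2.2.2.1
  have pd := he.pd
  have pt := he.pt
  have pc := he.pc
  have kl : Kl (φ t) (φ d) := ⟨tt, sq φ r2, (cm φ r8).symm⟩
  have k1 : Kl (φ t) (ψ v) := ⟨tt, sq ψ r1, pd ▸ cm ψ r3⟩
  have v1d : ψ v * φ d = φ d * ψ v := pt ▸ cm ψ r6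
  have cv1 : φ c * ψ v * (φ c)⁻¹ = φ t * ψ v := by rw [← pc, ← pd, cj ψ r5, map_mul]
  have ctt : φ c * φ t = φ t * φ c := cm φ ct
  have cd : φ c * φ d = φ d * φ c := (cm φ r7).symm
  have cu : φ c * u = u * φ c := (mul_inv_eq_iff_eq_mul.mp hh.uc).symm
  have hV2 := cent_le_of_wc h3 (klV φ).not_dvd (klV φ).le_cent hl.oz zV hl.cent_V a3 aV za.symm
    hl.not_mem (h.fH z) (h.fH a)
  have hV1 : ∀ g, g * φ t = φ t * g → g * ψ v = ψ v * g → g ∈ h.H := fun g h1 h2 => by
    have h4 := mul_mem h.uH (h.fH m)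
    simpa [mul_assoc] using mul_mem (mul_mem h4 (hV2 (he.back (pd ▸ h1) h2))) (inv_mem h4)
  have hc := he.cent_c hd fun w h1 h2 h4 => by
    obtain ⟨x, rfl⟩ := h.cent_t (hV1 w h1 h2) h1
    rw [← h.cc, ← map_mul, ← map_mul, h.inj.eq_iff] at h4
    have h5 := (norm_D (1, x.1.2) (cent_cz _ (by
      rw [sgn.2.2.2.2.2.2.2.1]; exact Prod.ext rfl (congrArg (·.1.2) h4)))).1
    have h6 : Perm.sign (x.1.2 * a.2 * x.1.2⁻¹) = 1 := by simp [sgn.2.2.2.1]
    have h7 : S8.ev 1 _ (map_one _) h6 = x * S8.ev 1 a.2 (map_one _) sgn.2.2.2.1 * x⁻¹ :=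
      Subtype.ext (Prod.ext (by simp [S8.ev]) rfl)
    have h8 : R x * φ a * (R x)⁻¹ = φ ((1, x.1.2) * a * (1, x.1.2)⁻¹) := by
      rw [sgn.2.2.2.2.2.2.2.2.2.2, ← h.e2 _ sgn.2.2.2.1, ← map_inv, ← map_mul, ← map_mul, ← h7, h.e2]
      simp
    rcases h5 with e | e <;> rw [h8, e] <;> simp
  have inv3 : ∀ {x : G}, x ∈ D φ → x * x = 1 → x = 1 := fun hx e => by
    have := D_cube hx
    rwa [pow_three, e, mul_one] at this
  have wc : WC h.H (φ c) := fun g hg => by
    have key : ∀ r x, HC h.H r (g * φ c * g⁻¹) → x ^ 3 = 1 → x ≠ 1 → φ x * r = r * φ x → g ∈ h.H := by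
      rintro r x ⟨k, hk, e⟩ h1 h2 h4
      have := h3 _ (h.fH x) (hl.o3 h1 h2) (g⁻¹ * k) (hN (hc _ (by
        calc _ = g⁻¹ * (k * φ x * k⁻¹ * (g * φ c * g⁻¹)) * g := by group
          _ = g⁻¹ * ((g * φ c * g⁻¹) * (k * φ x * k⁻¹)) * g := by
            rw [← e, conj_mul, conj_mul, h4]
          _ = _ := by group)))
      simpa using mul_mem hk (inv_mem this)
    have z1 : (z * a) ^ 3 = 1 := by decide +kernel
    have z2 : φ (z * a) * u = u * φ (z * a) := by
      rw [eq_comm, ← mul_inv_eq_iff_eq_mul, map_mul, ← conj_mul, hh.uz, hh.ua, za]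
    rcases h.cls hg (by rw [conj_mul, S8.cc]; group) with (e | e | ⟨k, -, e⟩ | e) | e | e
    · exact absurd (hl.eq1.mp (conj_eq_one_iff.mp e)) rel.2.1.2.1
    · exact absurd ((isConj_iff.mpr ⟨g, rfl⟩).trans e.isConj.symm) he.nc
    · exfalso
      have h1 : ∀ x, x * φ t = φ t * x → x * φ d = φ d * x →
          g⁻¹ * k * x * (g⁻¹ * k)⁻¹ ∈ normalizer (D φ : Set G) := fun x h1 h2 => hc _ (by
        calc _ = g⁻¹ * (k * x * k⁻¹ * (g * φ c * g⁻¹)) * g := by group
          _ = g⁻¹ * ((g * φ c * g⁻¹) * (k * x * k⁻¹)) * g := by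
            rw [← e, conj_mul, conj_mul, (Commute.mul_right h1 h2).eq]
          _ = _ := by group)
      have h2 : (φ c * ψ v) ^ 2 = φ t := by
        calc _ = φ c * ψ v * (φ c)⁻¹ * ψ v := by
              rw [inv_eq_of_mul_eq_one_right S8.cc, pow_two]; group
          _ = _ := by rw [cv1, mul_assoc, k1.qq, mul_one]
      have h4 : (φ c * φ v) ^ 2 = φ d := by
        calc _ = φ c * φ v * (φ c)⁻¹ * φ v := by
              rw [inv_eq_of_mul_eq_one_right S8.cc, pow_two]; group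
          _ = _ := by rw [cj φ r5, map_mul, mul_assoc, sq φ r1, mul_one]
      rcases N3 _ (h1 (φ c * ψ v) (Commute.mul_left ctt k1.comm.symm) (Commute.mul_left cd v1d)) _
        (h1 (φ c * φ v) (Commute.mul_left ctt (cm φ r6)) (Commute.mul_left cd (cm φ r3).symm)) with
        e' | e' | e' <;> simp only [conj_pow, h2, h4, conj_mul] at e'
      · exact n1 (hl.eq1.mp (conj_eq_one_iff.mp (inv3 e' (by rw [conj_mul, tt]; group))))
      · exact n2 (hl.eq1.mp (conj_eq_one_iff.mp (inv3 e' (by rw [conj_mul, kl.qq]; group))))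
      · have : g⁻¹ * k * (φ t * φ d) * (g⁻¹ * k)⁻¹ = φ c := by
          calc _ = g⁻¹ * (k * (φ t * φ d) * k⁻¹) * g := by group
            _ = _ := by rw [e]; group
        exact rel.2.1.2.1 (hl.eq1.mp (inv3 (this ▸ e') S8.cc))
    · exact key _ z e rel.1.1 rel.1.2.2.1 (c_comm zD).symm
    · exact key _ _ e z1 rel.1.2.2.2.2.2.2.2 z2
    · exact key _ _ e z1 rel.1.2.2.2.2.2.2.2 (Commute.mul_right
        (c_comm (map_mul φ z a ▸ mul_mem zD aD)).symm z2)
  have fus : ∀ {w}, w ∈ h.H → IsConj (φ t) w → HC h.H (φ t) w := fun {w} hw e => by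
    have : Fact (Nat.Prime 2) := ⟨Nat.prime_two⟩
    have key : ∀ r, φ c * r = r * φ c → HC h.H r w → HC h.H (φ t) w := fun r h1 h2 =>
      (wc.hc_of_comm (p := 2) (h.fH c) (by rw [pow_two, S8.cc]) ctt h1 (e.trans h2.isConj.symm)).trans h2
    obtain ⟨g, rfl⟩ := isConj_iff.mp e
    rcases h.cls hw (by rw [conj_mul, tt]; group) with (e | e | e | e) | e | e
    · exact absurd (hl.eq1.mp (conj_eq_one_iff.mp e)) n1
    exacts [e, key _ (Commute.mul_right ctt cd) e, key _ rfl e, key _ cu e,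
      key _ (Commute.mul_right (Commute.refl _) cu) e]
  have c1 : HC h.H (φ t) (ψ v) := ⟨_, h.pH e, pd ▸ cj ψ e1⟩
  have c2 : HC h.H (φ t) (φ t * ψ v) := HC.symm ⟨_, h.pH e, by rw [← pd, ← map_mul, cj ψ e4]⟩
  have c3 : HC h.H (φ t) (φ d) := ⟨u, h.uH, he.ut⟩
  have odd : ∀ {Y : Type _} [Group Y] [Finite Y] {x : Y}, x ∈ Cfsg.pPrimeCore 2 Y → ∀ {k : ℕ},
      x ^ 2 ^ k = 1 → x = 1 := fun hx k e =>
    eq_one_of_pow_eq_one_of_coprime ((coprime_card_pPrimeCore 2).pow_right k)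
      (orderOf_dvd_iff_pow_eq_one.mp (orderOf_dvd_card_of_mem hx)) e
  have hm : ∀ {g x : G}, g * x = x * g → g ∈ centralizer {x} := mem_centralizer_singleton_iff.mpr
  have hCt : ∀ g, g * φ t = φ t * g → g ∈ h.H := fun g hg => by
    refine cent_le_of_zstar k1 (h.fH t) (h.pH v) (fun g hg e => ?_) (fun g hg e => ?_)
      (fun x hx => ?_) hg
    · rcases e with e | e
      · exact hV1 g hg (mul_inv_eq_iff_eq_mul.mp e)
      · have := hV1 ((φ c)⁻¹ * g) (Commute.mul_left (Commute.inv_left ctt) hg) (by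
          rw [← mul_inv_eq_iff_eq_mul]
          calc _ = (φ c)⁻¹ * (g * ψ v * g⁻¹) * φ c := by group
            _ = _ := by rw [e, ← cv1]; group)
        simpa using mul_mem (h.fH c) this
    · refine h.four (fus e (c1.isConj.trans (isConj_iff.mpr ⟨g, rfl⟩))) (fus (mul_mem (h.fH t) e)
        (c2.isConj.trans (isConj_iff.mpr ⟨g, by rw [← conj_mul, hg, mul_inv_cancel_right]⟩)))
        (Commute.mul_left (Commute.mul_left hg k1.comm.symm) (Commute.inv_left hg))
    · let p' : centralizer {φ t} := ⟨φ p, hm (cm φ p3).symm⟩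
      let q' : centralizer {φ t} := ⟨φ q, hm (cm φ p4).symm⟩
      let a' : centralizer {φ t} :=
        ⟨φ a, hm (cm φ (mul_inv_eq_iff_eq_mul.mp rel.2.2.1.2.2.1)).symm⟩
      have kl' : Kl p' q' := ⟨Subtype.ext (klV φ).pp, Subtype.ext (klV φ).qq,
        Subtype.ext (klV φ).comm⟩
      have f1 : a' * p' * a'⁻¹ = q' := Subtype.ext (cj φ p1)
      have f2 : a' * q' * a'⁻¹ = p' * q' := Subtype.ext ((cj φ p2).trans (map_mul _ _ _))
      have aO : a' ∉ Cfsg.pPrimeCore 2 _ := fun e => by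
        have e3 : q' * a' * q'⁻¹ * a'⁻¹ = p' := by
          calc _ = q' * (a' * q' * a'⁻¹) := by rw [kl'.iq]; group
            _ = _ := by rw [f2, kl'.comm', kl'.qq, mul_one]
        exact p5 (hl.eq1.mp (congrArg Subtype.val (odd (x := p')
          (e3 ▸ mul_mem (Normal.conj_mem inferInstance _ e _) (inv_mem e))
          (k := 1) (by rw [pow_one, pow_two, kl'.pp]))))
      obtain ⟨e3, e5⟩ := a4_centralizes (coprime_card_pPrimeCore 2) kl'
        (by rw [← orderOf_coe, hl.oa]) f1 f2 (fun k hk e => by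
          obtain ⟨l, el⟩ := he.loc.cent (g := k) (he.pz ▸ (congrArg Subtype.val e).symm)
          have e6 : ∀ w, (l ^ 2) ^ 2 = w → ((k ^ 2 ^ 2 : centralizer {φ t}) : G) = ψ w := by
            rintro _ rfl; simp [← el, ← pow_mul]
          rcases (cent_d l (he.loc.cm.mp (by
            rw [el, pd]; exact mem_centralizer_singleton_iff.mp k.2))).2.1 (he.loc.cm.mp (by
              rw [el, he.pz]; exact (congrArg Subtype.val e).symm)) with e | e | e
          · exact odd hk (Subtype.ext ((e6 _ e).trans (map_one ψ)))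
          · exact absurd ((Subtype.ext ((e6 _ e).trans he.pz) : _ = a') ▸ pow_mem hk _) aO
          · exact absurd (inv_mem_iff.mp ((Subtype.ext ((e6 _ e).trans (by
              rw [map_inv, he.pz]; rfl)) : _ = a'⁻¹) ▸ pow_mem hk _)) aO) hx
      exact hV2 ((klV φ).mem_cent.mpr ⟨congrArg Subtype.val e3, congrArg Subtype.val e5⟩)
  have td : φ t * φ d * φ t = φ d := by rw [kl.comm, mul_assoc, tt, mul_one]
  have hCd : ∀ g, g * (φ t * φ d) = φ t * φ d * g → g ∈ h.H := fun g hg => by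
    have k2 : Kl (φ t * φ d) (φ t) := ⟨by rw [← mul_assoc, td, kl.qq], tt, by rw [td, kl.pp']⟩
    refine cent_le_of_zstar k2 (mul_mem (h.fH t) (h.fH d)) (h.fH t) (fun g hg e => ?_)
      (fun g hg e => ?_) (fun x hx => ?_) hg
    · rcases e with e | e
      · exact hCt g (mul_inv_eq_iff_eq_mul.mp e)
      · have := hCt (u⁻¹ * g) (by
          rw [← mul_inv_eq_iff_eq_mul]
          calc _ = u⁻¹ * (g * φ t * g⁻¹) * u := by group
            _ = _ := by rw [e, td, ← he.ut]; group)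
        simpa using mul_mem h.uH this
    · rw [td]
      refine h.two (fus e (isConj_iff.mpr ⟨g, rfl⟩)) (fus (mul_mem (mul_mem (h.fH t) (h.fH d)) e)
        (c3.isConj.trans (isConj_iff.mpr ⟨g, ?_⟩)))
      rw [← td, ← conj_mul, hg, mul_inv_cancel_right, td]
    · let t' : centralizer {φ t * φ d} := ⟨φ t, hm k2.comm.symm⟩
      let v' : centralizer {φ t * φ d} := ⟨ψ v, hm (Commute.mul_right k1.comm.symm v1d)⟩
      have kl' : Kl t' v' := ⟨Subtype.ext k1.pp, Subtype.ext k1.qq, Subtype.ext k1.comm⟩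
      have o2 : orderOf t' = 2 := Block.orderOf_eq_two kl'.pp fun e =>
        n1 (hl.eq1.mp (congrArg Subtype.val e))
      refine le_of_centralizer_le_of_rank_two (N := Cfsg.pPrimeCore 2 _) (H := h.H.subgroupOf _)
        (a := v') (b := t') Nat.prime_two (by rw [normalizer_eq_top]; trivial)
        (by rw [normalizer_eq_top]; trivial) kl'.comm.symm (by rw [pow_two, kl'.qq]) o2 (fun e => ?_)
        (Nat.prime_two.coprime_iff_not_dvd.mp (coprime_card_pPrimeCore 2).symm)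
        (fun w hw w1 g hg => ?_) hx
      · obtain ⟨n, e⟩ := mem_powers_iff_mem_zpowers.mpr e
        replace e : φ t ^ n = ψ v := congrArg Subtype.val e
        rw [pow_eq_pow_mod n ((pow_two _).trans tt), ← pd, ← map_pow, he.loc.inj.eq_iff] at e
        rcases Nat.mod_two_eq_zero_or_one n with e' | e' <;> rw [e'] at e <;> revert e <;>
          decide +kernel
      · have h1 := congrArg Subtype.val (mem_centralizer_singleton_iff.mp hg.2)
        rcases (closure_le kl'.V).mpr (by rintro _ (rfl | rfl) <;> simp [Kl.mem_V]) hw with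
          rfl | rfl | rfl | rfl
        exacts [absurd rfl w1, hCt _ h1, HC.cent (G := G) hCt c1 h1, HC.cent (G := G) hCt c2 h1]
  rw [eq_top_iff]
  rintro g -
  have h1 : g * φ c * g⁻¹ * (g * φ c * g⁻¹) = 1 := by rw [conj_mul, S8.cc]; group
  have h2 : 2 ∣ orderOf (φ t * (g * φ c * g⁻¹)) := by
    by_contra hn
    obtain ⟨i, hi⟩ := Block.exists_conj_of_odd tt h1
      ((Nat.prime_two.coprime_iff_not_dvd.mpr hn).symm)
    exact he.nc (isConj_iff.mpr ⟨((φ t * (g * φ c * g⁻¹)) ^ i)⁻¹ * g,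
      Eq.trans (by generalize (φ t * (g * φ c * g⁻¹)) ^ i = c; group) hi⟩)
  obtain ⟨n, f1, f2, f3⟩ := Block.exists_central_involution tt h1 h2
  obtain ⟨x, f4⟩ := h.cent_t (hCt _ f2.symm) f2.symm
  rw [f4] at f1 f3
  refine wc g ?_
  rcases h.clsR (Block.mul_self_of_orderOf f1) with e | e | e | e
  · rw [e, orderOf_one] at f1; omega
  exacts [HC.cent hCt e f3, HC.cent hCd e f3, HC.cent (fun g hg => hN (hc g hg)) e f3]

end Cfsg.Agent.Char.S8
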