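import Cfsg.Agent.Char.S8E4
import Cfsg.Prelude.Def_Local

/-!
# The exceptional configuration with a `3`-local subgroup `S₃ × S₅`, conclusion
-/

set_option autoImplicit false

namespace Cfsg.Agent.Char

open Subgroup Local Equiv
open scoped Pointwise

variable {G : Type*} [Group G] [Finite G]

theorem prod_struct {A : Type*} [Group A] [IsSimpleGroup A] (hZ : center A = ⊥) (θ : A × A →* G)
    (inj : Function.Injective θ) {u : G} (hu : ∀ x y, u * θ (x, y) * u⁻¹ = θ (y, x))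
    (hN : θ.range.Normal) (hC : ∀ g, (∀ x, g * θ x = θ x * g) → g = 1)
    (hsq : ∀ g, g ^ 2 ∈ θ.range) : Cfsg.generalizedFittingSubgroup G = θ.range ∧
      ∀ K : Subgroup G, K.Normal → K ≤ θ.range → K = ⊥ ∨ K = θ.range := by
  have sp : ∀ x : A × A, θ x = θ (x.1, 1) * θ (1, x.2) := fun x => by simp [← map_mul]
  have hmin : ∀ K : Subgroup G, K.Normal → K ≤ θ.range → K = ⊥ ∨ K = θ.range := fun K hK h1 => by
    rcases (hK.comap (θ.comp (MonoidHom.inl A A))).eq_bot_or_eq_top with e | e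
    · have key : ∀ x y, θ (x, y) ∈ K → x = 1 := fun x y h => by
        rw [← mem_bot, ← hZ, mem_center_iff]
        intro w
        have h2 : w * x * w⁻¹ * x⁻¹ ∈ K.comap (θ.comp (MonoidHom.inl A A)) := by
          have := mul_mem (hK.conj_mem _ h (θ (w, 1))) (inv_mem h)
          simpa [← map_mul, ← map_inv] using this
        rwa [e, mem_bot, mul_inv_eq_one, mul_inv_eq_iff_eq_mul] at h2
      refine Or.inl (eq_bot_iff.mpr fun g hg => ?_)
      obtain ⟨⟨x, y⟩, rfl⟩ := h1 hg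
      rw [key x y hg, key y x (hu x y ▸ hK.conj_mem _ hg u)]
      exact map_one θ
    · refine Or.inr (le_antisymm h1 ?_)
      rintro _ ⟨x, rfl⟩
      rw [sp, ← hu x.2]
      exact mul_mem (e.ge (mem_top x.1) :) (hK.conj_mem _ (e.ge (mem_top x.2) :) u)
  refine ⟨le_antisymm (sup_le (sSup_le fun K hK g hg => ?_) (sSup_le fun K hK => ?_)) ?_, hmin⟩
  · have h1 : commutator K ≤ θ.range.subgroupOf K := commutator_le.mpr fun x _ y _ => by
      have := mul_mem (mul_mem (hsq x) (hsq ((x : G)⁻¹ * y))) (hsq (y : G)⁻¹)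
      rw [mem_subgroupOf, commutatorElement_def]
      convert this using 1
      simp only [pow_two, coe_mul, coe_inv]; group
    exact h1 (hK.2.1.commutator_eq_top ▸ mem_top (⟨g, hg⟩ : K))
  · have := hK.1
    have := hK.2
    rcases hmin (K ⊓ θ.range) inferInstance inf_le_right with e | e
    · intro g hg
      rw [hC g fun x => commute_of_normal_of_disjoint K θ.range hK.1 hN (disjoint_iff.mpr e) _ _ hg
        ⟨x, rfl⟩]
      exact one_mem _
    · have : Group.IsNilpotent θ.range := Group.nilpotent_of_mulEquiv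
        (subgroupOfEquivOfLe (e.ge.trans inf_le_left))
      have : Nontrivial θ.range := (MonoidHom.ofInjective inj).symm.toEquiv.nontrivial
      obtain ⟨g, h1⟩ := ne_bot_iff_exists_ne_one.mp (Group.IsNilpotent.center_ne_bot θ.range)
      exact absurd (Subtype.ext (Subtype.ext (hC _ fun x =>
        (congrArg Subtype.val (mem_center_iff.mp g.2 ⟨_, x, rfl⟩)).symm))) h1
  · have key : ∀ ι : A →* G, Function.Injective ι → ι.range ≤ θ.range →
        (∀ x y, θ x * ι y * (θ x)⁻¹ ∈ ι.range) → ι.range ≤ Cfsg.generalizedFittingSubgroup G := by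
      intro ι h1 h2 h3
      have e := MonoidHom.ofInjective h1
      have := e.symm.isSimpleGroup
      have hZ' : center ι.range = ⊥ := eq_bot_iff.mpr fun g hg => by
        obtain ⟨x, rfl⟩ := e.surjective g
        have : x ∈ center A := mem_center_iff.mpr fun y => e.injective (by
          simpa using mem_center_iff.mp hg (e y))
        rw [hZ, mem_bot] at this
        simp [this]
      refine le_sup_of_le_left (le_sSup ⟨IsSubnormal.step _ _ h2 hN.isSubnormal ⟨?_⟩, ⟨?_⟩,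
        ((QuotientGroup.quotientMulEquivOfEq hZ').trans QuotientGroup.quotientBot).isSimpleGroup⟩)
      · rintro ⟨_, _⟩ ⟨y, rfl⟩ ⟨_, x, rfl⟩
        exact h3 x y
      · refine (inferInstance : (commutator ι.range).Normal).eq_bot_or_eq_top.resolve_left fun e => ?_
        rw [commutator_eq_bot_iff_center_eq_top, hZ'] at e
        exact bot_ne_top e
    rintro _ ⟨x, rfl⟩
    rw [sp]
    refine mul_mem (key (θ.comp (MonoidHom.inl A A)) (inj.comp fun _ _ e => congrArg Prod.fst e)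
      (fun _ ⟨y, e⟩ => ⟨_, e⟩) (fun x y => ⟨x.1 * y * x.1⁻¹, ?_⟩) ⟨x.1, rfl⟩)
      (key (θ.comp (MonoidHom.inr A A)) (inj.comp fun _ _ e => congrArg Prod.snd e)
      (fun _ ⟨y, e⟩ => ⟨_, e⟩) (fun x y => ⟨x.2 * y * x.2⁻¹, ?_⟩) ⟨x.2, rfl⟩) <;>
    · simp only [MonoidHom.comp_apply, ← map_inv, ← map_mul]
      exact congrArg θ (Prod.ext (by simp) (by simp))

namespace S8

variable {φ ψ : P →* G} {u : G} {R : M →* G}

attribute [local irreducible] z a c t s h p q v e m d

theorem WR.final (h : WR φ ψ u R) (top : h.H = ⊤) :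
    ∃ N : Subgroup G, N.Normal ∧ Cfsg.generalizedFittingSubgroup G = N ∧
      Nonempty (N ≃* alternatingGroup (Fin 5) × alternatingGroup (Fin 5)) ∧
      (∀ K : Subgroup G, K.Normal → K ≤ N → K = ⊥ ∨ K = N) ∧
      N.index = 4 ∧ ∀ g : G, g ^ 2 ∈ N := by
  obtain ⟨θ, hθ⟩ : ∃ θ : alternatingGroup (Fin 5) × alternatingGroup (Fin 5) →* G,
      ∀ x, θ x = R (S8.ev x.1 x.2 x.1.2 x.2.2) :=
    ⟨R.comp (MonoidHom.mk' (fun x => S8.ev x.1 x.2 x.1.2 x.2.2) fun _ _ => rfl), fun _ => rfl⟩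
  have inj : Function.Injective θ := fun x y e => by
    rw [hθ, hθ, h.inj.eq_iff] at e
    exact Prod.ext (Subtype.ext (congrArg (·.1.1) e)) (Subtype.ext (congrArg (·.1.2) e))
  have mem : ∀ x, R x ∈ θ.range ↔ Perm.sign x.1.1 = 1 := fun x =>
    ⟨fun ⟨y, e⟩ => by rw [hθ, h.inj.eq_iff] at e; rw [← e]; exact y.1.2,
      fun e => ⟨(⟨x.1.1, e⟩, ⟨x.1.2, (Eq.symm x.2).trans e⟩), hθ _⟩⟩
  have all : ∀ g, ∃ x, g = R x ∨ g = R x * u := fun g => top.ge (mem_top g)
  have nu : ∀ x y, R x * u ≠ R y := fun x y e => by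
    have e1 : R ((x⁻¹ * y) * T1 * (x⁻¹ * y)⁻¹) = R T2 := by
      rw [map_mul, map_mul, map_inv, map_mul, map_inv, ← e, inv_mul_cancel_left, h.t1, h.t2, h.he.ut]
    exact sgn.2.2.2.2.2.2.1 (by simpa [T1, T2, S8.ev] using (congrArg (·.1.2) (h.inj e1)).symm)
  have hN : θ.range.Normal := ⟨by
    rintro _ ⟨y, rfl⟩ g
    have key : ∀ k y : M, Perm.sign y.1.1 = 1 → R k * R y * (R k)⁻¹ ∈ θ.range := fun k y e => by
      rw [← map_inv, ← map_mul, ← map_mul, mem]; simp [e]
    rw [hθ]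
    obtain ⟨x, rfl | rfl⟩ := all g
    · exact key _ _ y.1.2
    · have := key x (sw (S8.ev y.1 y.2 y.1.2 y.2.2)) y.2.2
      rw [← h.swap] at this
      simpa only [mul_inv_rev, mul_assoc] using this⟩
  have hsq : ∀ g, g ^ 2 ∈ θ.range := fun g => by
    obtain ⟨x, rfl | rfl⟩ := all g
    · rw [← map_pow, mem]; simp [pow_two]
    · have : (R x * u) ^ 2 = R (x * sw x) := by rw [map_mul, ← h.swap, h.he.hyp.ui, pow_two]; group
      rw [this, mem]
      simp [sw, show Perm.sign x.1.1 = Perm.sign x.1.2 from x.2]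
  obtain ⟨h1, h2⟩ := prod_struct (alternatingGroup.center_eq_bot (by simp)) θ inj (u := u)
    (fun x y => by rw [hθ, hθ, h.swap]; rfl) hN (fun g hg => by
      have d : ∀ x : Perm (Fin 5), x * d.2 = d.2 * x → x * a.2 = a.2 * x → x * v.2 = v.2 * x →
        x = 1 := by decide +kernel
      obtain ⟨x, rfl⟩ := h.cent_t (top.ge (mem_top g)) (by
        have := hg (⟨_, sgn.2.1⟩, 1)
        rw [hθ] at this
        exact h.t1 ▸ this)
      have key : ∀ y hy, x * S8.ev y y hy hy = S8.ev y y hy hy * x := fun y hy => h.inj (by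
        simpa only [hθ, map_mul] using hg (⟨y, hy⟩, ⟨y, hy⟩))
      rw [show x = 1 from Subtype.ext (Prod.ext (d _ (congrArg (·.1.1) (key _ sgn.2.1))
        (congrArg (·.1.1) (key _ sgn.2.2.2.1)) (congrArg (·.1.1) (key _ sgn.2.2.1)))
        (d _ (congrArg (·.1.2) (key _ sgn.2.1)) (congrArg (·.1.2) (key _ sgn.2.2.2.1))
          (congrArg (·.1.2) (key _ sgn.2.2.1)))), map_one]) hsq
  refine ⟨θ.range, hN, h1, ⟨(MonoidHom.ofInjective inj).symm⟩, h2, ?_, hsq⟩
  have i1 : R.range.index = 2 := index_eq_two_iff.mpr ⟨u, fun g => by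
    obtain ⟨x, rfl | rfl⟩ := all g
    · exact Or.inr ⟨⟨x, rfl⟩, fun ⟨y, e⟩ => nu x y e.symm⟩
    · exact Or.inl ⟨⟨x, by rw [mul_assoc, h.he.hyp.uu, mul_one]⟩, fun ⟨y, e⟩ => nu x y e.symm⟩⟩
  have i2 : θ.range.relIndex R.range = 2 := index_eq_two_iff.mpr ⟨⟨_, Cc, rfl⟩, by
    rintro ⟨_, x, rfl⟩
    change Xor (R x * R Cc ∈ θ.range) (R x ∈ θ.range)
    rw [← map_mul, mem, mem]
    rcases Int.units_eq_one_or (Perm.sign x.1.1) with e | e <;> simp [e, Cc, sgn.1]⟩
  rw [← relIndex_mul_index (show θ.range ≤ R.range from fun _ ⟨x, e⟩ =>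
    ⟨_, (hθ x).symm.trans e⟩), i1, i2]

end S8

end Cfsg.Agent.Char
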