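import Cfsg.Agent.Char.S8Dec
import Cfsg.Agent.Char.S6Q

/-!
# Groups with a `3`-local subgroup `S₃ × S₅`
-/

set_option autoImplicit false

namespace Cfsg.Agent.Char.S8

open Subgroup Local Equiv
open scoped Pointwise

variable {G : Type*} [Group G]

attribute [local irreducible] z a c t s h

/-- `φ` identifies the model with the normaliser of a subgroup of order three. -/
structure Loc (φ : P →* G) : Prop where
  inj : Function.Injective φ
  mem : ∀ g, g * φ z * g⁻¹ ∈ zpowers (φ z) → ∃ l, φ l = g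

/-- The Sylow `3`-subgroup. -/
def D (φ : P →* G) : Subgroup G := closure {φ z, φ a}

variable {φ : P →* G}

theorem Loc.conj (hl : Loc φ) (g : G) : Loc ((MulAut.conj g).toMonoidHom.comp φ) :=
  ⟨(MulAut.conj g).injective.comp hl.inj, fun k ⟨n, hn⟩ => by
    obtain ⟨l, e⟩ := hl.mem (g⁻¹ * k * g) ⟨n, by
      have : (g * φ z * g⁻¹) ^ n = k * (g * φ z * g⁻¹) * k⁻¹ := hn
      rw [conj_zpow] at this
      calc φ z ^ n = g⁻¹ * (g * φ z ^ n * g⁻¹) * g := by group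
        _ = _ := by rw [this]; group⟩
    exact ⟨l, by simp [e, mul_assoc]⟩⟩

theorem Loc.cent (hl : Loc φ) {g : G} (hg : g * φ z = φ z * g) : ∃ l, φ l = g :=
  hl.mem g (by rw [hg, mul_inv_cancel_right]; exact mem_zpowers _)

theorem Loc.cm (hl : Loc φ) {x y : P} : φ x * φ y = φ y * φ x ↔ x * y = y * x := by
  rw [← map_mul, ← map_mul, hl.inj.eq_iff]

theorem Loc.eq1 (hl : Loc φ) {x : P} : φ x = 1 ↔ x = 1 := map_eq_one_iff φ hl.inj

theorem cj (φ : P →* G) {x y w : P} (e : x * y * x⁻¹ = w) : φ x * φ y * (φ x)⁻¹ = φ w := by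
  rw [← e]; simp

theorem Loc.cj' (hl : Loc φ) {x y w : P} (e : φ x * φ y * (φ x)⁻¹ = φ w) : x * y * x⁻¹ = w :=
  hl.inj (by simpa using e)

theorem cm (φ : P →* G) {x y : P} (e : x * y = y * x) : φ x * φ y = φ y * φ x := by
  rw [← map_mul, ← map_mul, e]

theorem sq (φ : P →* G) {x : P} (e : x * x = 1) : φ x * φ x = 1 := by
  rw [← map_mul, e, map_one]

theorem z3 : φ z ^ 3 = 1 := by rw [← map_pow, rel.1.1, map_one]

theorem a3 : φ a ^ 3 = 1 := by rw [← map_pow, rel.1.2.1, map_one]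

theorem za : φ z * φ a = φ a * φ z := cm φ rel.1.2.2.2.2.1

theorem cc : φ c * φ c = 1 := sq φ rel.2.1.1

theorem tt : φ t * φ t = 1 := sq φ rel.2.2.1.1

theorem zD : φ z ∈ D φ := subset_closure (by simp)

theorem aD : φ a ∈ D φ := subset_closure (by simp)

theorem mem_D {d : G} : d ∈ D φ ↔ ∃ i < 3, ∃ j < 3, d = φ (z ^ i * a ^ j) := by
  simp only [map_mul, map_pow]
  refine ⟨exists_pow_of_mem_closure z3 a3 za, ?_⟩
  rintro ⟨i, -, j, -, rfl⟩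
  exact mul_mem (pow_mem zD i) (pow_mem aD j)

theorem comm_D {d g : G} (h1 : g * φ z = φ z * g) (h2 : g * φ a = φ a * g) (hd : d ∈ D φ) :
    g * d = d * g := by
  obtain ⟨i, -, j, -, rfl⟩ := mem_D.mp hd
  rw [map_mul, map_pow, map_pow]
  exact Commute.mul_right (Commute.pow_right h1 i) (Commute.pow_right h2 j)

theorem D_comm {d e : G} (hd : d ∈ D φ) (he : e ∈ D φ) : d * e = e * d :=
  comm_D (comm_D rfl za hd).symm (comm_D za.symm rfl hd).symm he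

theorem c_comm {d : G} (hd : d ∈ D φ) : φ c * d = d * φ c :=
  comm_D (cm φ rel.2.1.2.2.1) (cm φ rel.2.1.2.2.2.1) hd

theorem D_cube {d : G} (hd : d ∈ D φ) : d ^ 3 = 1 := cube_of_mem_closure z3 a3 za hd

theorem Loc.o3 (hl : Loc φ) {x : P} (h1 : x ^ 3 = 1) (h2 : x ≠ 1) : orderOf (φ x) = 3 :=
  have : Fact (Nat.Prime 3) := ⟨Nat.prime_three⟩
  orderOf_eq_prime (by rw [← map_pow, h1, map_one]) fun e => h2 (hl.eq1.mp e)

theorem Loc.oz (hl : Loc φ) : orderOf (φ z) = 3 := hl.o3 rel.1.1 rel.1.2.2.1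

theorem Loc.oa (hl : Loc φ) : orderOf (φ a) = 3 := hl.o3 rel.1.2.1 rel.1.2.2.2.1

theorem Loc.cent_D (hl : Loc φ) {g : G} (h1 : g * φ z = φ z * g) (h2 : g * φ a = φ a * g) :
    (g * g = 1 → g = 1 ∨ g = φ c) ∧ (g ∈ D φ ∨ g * φ c ∈ D φ) := by
  obtain ⟨l, rfl⟩ := hl.cent h1
  obtain ⟨h3, i, hi, j, hj, e⟩ := S8.cent_D l (hl.cm.mp h1) (hl.cm.mp h2)
  refine ⟨fun e => (h3 (hl.eq1.mp (by rw [map_mul, e]))).imp hl.eq1.mpr (congrArg φ),
    e.imp (fun e => ?_) fun e => ?_⟩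
  · exact mem_D.mpr ⟨i, hi, j, hj, by rw [e]⟩
  · exact mem_D.mpr ⟨i, hi, j, hj, by rw [← e, map_mul]⟩

theorem Loc.mem_cent (hl : Loc φ) (g : G) :
    g ∈ centralizer (D φ : Set G) ↔ g ∈ D φ ∨ g * φ c ∈ D φ := by
  refine ⟨fun hg => (hl.cent_D (hg _ zD).symm (hg _ aD).symm).2, ?_⟩
  rintro (e | e) d hd
  · exact D_comm hd e
  · have := Commute.mul_right (D_comm hd e) (Commute.inv_right (c_comm hd).symm)
    rwa [mul_inv_cancel_right] at this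

theorem norm_D' [Finite G] {g : G} (h1 : g * φ z * g⁻¹ ∈ D φ) (h2 : g * φ a * g⁻¹ ∈ D φ) :
    g ∈ normalizer (D φ : Set G) := mem_normalizer_of_conj_mem fun d hd => by
  obtain ⟨i, -, j, -, rfl⟩ := mem_D.mp hd
  rw [map_mul, map_pow, map_pow, ← conj_mul, ← conj_pow, ← conj_pow]
  exact mul_mem (pow_mem h1 i) (pow_mem h2 j)

theorem norm_of [Finite G] {l : P} (e : l * a * l⁻¹ * a = a * (l * a * l⁻¹)) :
    φ l ∈ normalizer (D φ : Set G) := by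
  refine norm_D' ?_ ?_
  · rcases norm_z l with e | e <;> rw [cj φ e]
    exacts [zD, map_inv φ z ▸ inv_mem zD]
  · rcases (norm_D l e).1 with e | e <;> rw [cj φ e]
    exacts [aD, map_inv φ a ▸ inv_mem aD]

theorem Loc.of_norm (hl : Loc φ) {l : P} (e : φ l ∈ normalizer (D φ : Set G)) :
    l * a * l⁻¹ * a = a * (l * a * l⁻¹) :=
  hl.cm.mp (by simpa using D_comm (conj_mem_of_mem_normalizer e aD) aD)

theorem sN [Finite G] : φ s ∈ normalizer (D φ : Set G) :=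
  norm_of (by rw [rel.2.2.1.2.2.2.2.2.1]; group)

theorem tN [Finite G] : φ t ∈ normalizer (D φ : Set G) := norm_of (by rw [rel.2.2.1.2.2.1])

theorem Loc.norm_c (hl : Loc φ) {g : G} (hg : g ∈ normalizer (D φ : Set G)) :
    g * φ c = φ c * g := by
  have h1 := conj_mem_of_mem_normalizer (normalizer_le_normalizer_centralizer _ hg)
    ((hl.mem_cent (φ c)).mpr (Or.inr (cc (φ := φ) ▸ one_mem _)))
  rcases (hl.cent_D (h1 _ zD).symm (h1 _ aD).symm).1 (by rw [conj_mul, cc]; group) with e | e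
  · exact absurd (hl.eq1.mp (conj_eq_one_iff.mp e)) rel.2.1.2.1
  · exact mul_inv_eq_iff_eq_mul.mp e

theorem Loc.exists_swap [Finite G] (hl : Loc φ)
    (N1 : ∃ n ∈ normalizer (D φ : Set G), n ^ 2 ∉ centralizer (D φ : Set G))
    (N2 : ∀ g ∈ normalizer (D φ : Set G), ∀ k ∈ normalizer (D φ : Set G),
      g * (k⁻¹ * g * k) * g⁻¹ * (k⁻¹ * g * k)⁻¹ ∈ centralizer (D φ : Set G)) :
    ∃ u, u * φ z * u⁻¹ = φ a ∧ u * φ a * u⁻¹ = φ z := by
  obtain ⟨-, e1, e2, -, e3, e5, -⟩ := rel.2.2.1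
  have key : ∀ n ∈ normalizer (D φ : Set G), n ^ 2 ∉ centralizer (D φ : Set G) →
      n * φ z * n⁻¹ = φ a ∨ n * φ z * n⁻¹ = (φ a)⁻¹ := fun n hn h2 => by
    have hw := mul_mem (mul_mem (inv_mem hn) sN) hn
    have h3 := N2 _ sN _ hn
    set w := n⁻¹ * φ s * n with hw'
    have h4 := conj_mem_of_mem_normalizer hw zD
    have h5 : φ s * (w * φ z * w⁻¹) = w * φ z * w⁻¹ * φ s := by
      calc _ = φ s * w * (φ s)⁻¹ * w⁻¹ * (w * (φ s * φ z * (φ s)⁻¹) * w⁻¹) *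
          (φ s * w * (φ s)⁻¹ * w⁻¹)⁻¹ * φ s := by group
        _ = _ := by rw [cj φ e3, ← h3 _ h4]; group
    obtain ⟨i, hi, j, hj, e⟩ := mem_D.mp h4
    rw [e, hl.cm] at h5
    obtain rfl := (fix_s i hi j hj).1 h5
    obtain ⟨k, hk, j, hj, e'⟩ := mem_D.mp (conj_mem_of_mem_normalizer hn zD)
    have h6 : φ s * (n * φ z * n⁻¹) * (φ s)⁻¹ ∈ zpowers (n * φ z * n⁻¹) := ⟨i, by
      calc (n * φ z * n⁻¹) ^ (i : ℤ) = n * φ (z ^ i * a ^ 0) * n⁻¹ := by simp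
        _ = _ := by rw [← e, hw']; group⟩
    have h7 := mem_zpowers_three (((MulAut.conj n).orderOf_eq _).trans hl.oz) h6
    rw [MulAut.conj_apply, e', ← map_inv, ← map_inv, ← map_mul, ← map_mul, hl.eq1, hl.inj.eq_iff,
      hl.inj.eq_iff] at h7
    rcases (fix_s k hk j hj).2 h7 with rfl | e | e
    · obtain ⟨l, rfl⟩ := hl.mem n (by rw [e']; exact ⟨k, by simp⟩)
      have sq : ∀ x : P, l * x * l⁻¹ = x ∨ l * x * l⁻¹ = x⁻¹ → φ l ^ 2 * φ x = φ x * φ l ^ 2 := by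
        intro x hx
        rw [← map_pow, hl.cm, ← mul_inv_eq_iff_eq_mul]
        calc _ = l * (l * x * l⁻¹) * l⁻¹ := by rw [pow_two]; group
          _ = _ := by
            rcases hx with e | e
            · rw [e, e]
            · rw [e, ← conj_inv, e, inv_inv]
      exact absurd (fun d hd => (comm_D (sq z (norm_z l)) (sq a (norm_D l (hl.of_norm hn)).1)
        hd).symm) h2
    · exact Or.inl (by rw [e', e])
    · exact Or.inr (by rw [e', e, map_inv])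
  obtain ⟨n, hn, h2⟩ := N1
  have h3 : n * φ a * n⁻¹ = φ z ∨ n * φ a * n⁻¹ = (φ z)⁻¹ := by
    refine (key n⁻¹ (inv_mem hn) (by rwa [inv_pow, inv_mem_iff])).imp (fun e => ?_) fun e => ?_
    · rw [← e]; group
    · rw [← inv_inv (φ a), ← e]; group
  have c : ∀ (l x y : P) (b : G), l * x * l⁻¹ = y → n * φ y * n⁻¹ = b →
      n * φ l * φ x * (n * φ l)⁻¹ = b := fun l x y b e e' => by
    rw [← e', ← cj φ e]; group
  have c' : ∀ {x b : G}, n * x * n⁻¹ = b⁻¹ → n * x⁻¹ * n⁻¹ = b := fun e => by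
    rw [← conj_inv, e, inv_inv]
  rcases key n hn h2 with h4 | h4 <;> rcases h3 with h3 | h3
  · exact ⟨n, h4, h3⟩
  · exact ⟨_, c s _ _ _ e3 h4, c s _ _ _ e5 (map_inv φ a ▸ c' h3)⟩
  · exact ⟨_, c t _ _ _ e1 (map_inv φ z ▸ c' h4), c t _ _ _ e2 h3⟩
  · refine ⟨_, c (t * s) _ z⁻¹ _ ?_ (map_inv φ z ▸ c' h4), c (t * s) _ a⁻¹ _ ?_
      (map_inv φ a ▸ c' h3)⟩
    · calc _ = t * (s * z * s⁻¹) * t⁻¹ := by group
        _ = _ := by rw [e3, e1]
    · calc _ = t * (s * a * s⁻¹) * t⁻¹ := by group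
        _ = _ := by rw [e5, ← conj_inv, e2]

/-- The local hypotheses. -/
structure Hyp (φ : P →* G) (u : G) : Prop where
  loc : Loc φ
  uu : u * u = 1
  uz : u * φ z * u⁻¹ = φ a
  ua : u * φ a * u⁻¹ = φ z
  cy : ∀ g, g * φ (z * a) = φ (z * a) * g → g ∈ normalizer (D φ : Set G)
  nc : ¬ IsConj (φ z) (φ (z * a))
  syl : IsSylowIn 3 (D φ) ⊤

variable {u : G}

theorem Hyp.un [Finite G] (hh : Hyp φ u) : u ∈ normalizer (D φ : Set G) :=
  norm_D' (hh.uz ▸ aD) (hh.ua ▸ zD)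

theorem Hyp.ui (hh : Hyp φ u) : u⁻¹ = u := inv_eq_of_mul_eq_one_right hh.uu

theorem Hyp.uc [Finite G] (hh : Hyp φ u) : u * φ c * u⁻¹ = φ c := by
  rw [hh.loc.norm_c hh.un, mul_inv_cancel_right]

theorem Hyp.back (hh : Hyp φ u) {x y : G} (e : u * x * u⁻¹ = y) : u * y * u⁻¹ = x := by
  rw [← e, hh.ui]
  calc _ = (u * u) * x * (u * u) := by group
    _ = _ := by rw [hh.uu]; group

theorem cls [Finite G] {d : G} (hd : d ∈ D φ) (h1 : d ≠ 1) : ∃ l, φ l ∈ normalizer (D φ : Set G) ∧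
    (φ l * φ z * (φ l)⁻¹ = d ∨ φ l * φ a * (φ l)⁻¹ = d ∨ φ l * φ (z * a) * (φ l)⁻¹ = d) := by
  obtain ⟨i, hi, j, hj, rfl⟩ := mem_D.mp hd
  rcases cls_D i hi j hj with e | ⟨k, -, l, -, e⟩
  · exact absurd (by rw [e, map_one]) h1
  · exact ⟨t ^ k * s ^ l, by
      rw [map_mul, map_pow, map_pow]; exact mul_mem (pow_mem tN k) (pow_mem sN l),
      e.imp (cj φ) (Or.imp (cj φ) (cj φ))⟩

theorem Hyp.key [Finite G] (hh : Hyp φ u) {n : G} (hn : n ∈ normalizer (D φ : Set G)) :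
    (∃ l, φ l = n) ∨ ∃ l, φ l = u * n := by
  obtain ⟨l, hl, e | e | e⟩ := cls (conj_mem_of_mem_normalizer hn zD)
    fun e => rel.1.2.2.1 (hh.loc.eq1.mp (conj_eq_one_iff.mp e))
  · refine Or.inl (hh.loc.mem n ?_)
    rcases norm_z l with e' | e' <;> rw [← e, cj φ e'] <;> simp
  · refine Or.inr (hh.loc.mem _ ?_)
    have : u * n * φ z * (u * n)⁻¹ = u * (n * φ z * n⁻¹) * u⁻¹ := by group
    rcases (norm_D l (hh.loc.of_norm hl)).1 with e' | e' <;> rw [this, ← e, cj φ e']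
    · simp [hh.ua]
    · rw [map_inv, ← conj_inv, hh.ua]; simp
  · exact absurd ((isConj_iff.mpr ⟨n, rfl⟩).trans (isConj_iff.mpr ⟨_, e⟩).symm) hh.nc

theorem Hyp.no5 [Finite G] (hh : Hyp φ u) {n : G} (hn : n ∈ normalizer (D φ : Set G))
    (h5 : n ^ 5 = 1) : n = 1 := by
  have h1 : ∀ l, φ l ∈ normalizer (D φ : Set G) → φ l ^ 5 = 1 → φ l = 1 := fun l h1 h2 =>
    hh.loc.eq1.mpr ((norm_D l (hh.loc.of_norm h1)).2 (hh.loc.eq1.mp (by rw [map_pow, h2])))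
  rcases hh.key hn with ⟨l, rfl⟩ | ⟨l, e⟩
  · exact h1 l hn h5
  have hl : φ l ∈ normalizer (D φ : Set G) := e ▸ mul_mem hh.un hn
  have e1 : n = u * φ l := by rw [e, ← mul_assoc, hh.uu, one_mul]
  obtain ⟨k, e2⟩ := hh.loc.mem (u * φ l * u⁻¹) (by
    rw [← hh.ua, conj_mul, conj_inv, conj_mul]
    rcases (norm_D l (hh.loc.of_norm hl)).1 with e' | e' <;> rw [cj φ e']
    · exact mem_zpowers _
    · rw [map_inv, ← conj_inv]; exact inv_mem (mem_zpowers _))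
  have e3 : φ (k * l) = n ^ 2 := by rw [map_mul, e2, e1, hh.ui, pow_two]; group
  have := h1 (k * l) (e3 ▸ pow_mem hn 2) (by rw [e3, pow_right_comm, h5, one_pow])
  exact eq_one_of_pow_eq_one_of_coprime (m := 2) (n := 5) (by norm_num) (e3 ▸ this) h5

theorem Hyp.dich [Finite G] (hh : Hyp φ u) (h9 : Nat.card (D φ) = 9)
    [((centralizer (D φ : Set G)).subgroupOf (normalizer (D φ : Set G))).Normal]
    (eN : normalizer (D φ : Set G) ⧸ (centralizer (D φ : Set G)).subgroupOf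
      (normalizer (D φ : Set G)) ≃* DihedralGroup 4) :
    (∀ g, g * φ c = φ c * g → g ∈ normalizer (D φ : Set G)) ∨ ∃ F, S6Q (φ c) F := by
  have hl := hh.loc
  refine s6_dich hh.syl h9 (fun _ => D_cube) cc (fun e => rel.2.1.2.1 (hl.eq1.mp e)) hl.mem_cent
    (fun _ => hl.norm_c) eN fun d hd h1 g h2 h3 => ?_
  have k1 : ∀ g, g * φ z = φ z * g → g * φ c = φ c * g → g ∈ normalizer (D φ : Set G) :=
    fun g h2 h3 => by
      obtain ⟨l, rfl⟩ := hl.cent h2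
      exact norm_of (cent_cz l (hl.cm.mp h3))
  have k2 : ∀ n ∈ normalizer (D φ : Set G), ∀ x, n * x * n⁻¹ = d → (n⁻¹ * g * n * x = x * (n⁻¹ * g * n)
      → n⁻¹ * g * n * φ c = φ c * (n⁻¹ * g * n) → n⁻¹ * g * n ∈ normalizer (D φ : Set G)) →
      g ∈ normalizer (D φ : Set G) := fun n hn x e k => by
    have := k (by
      calc _ = n⁻¹ * (g * (n * x * n⁻¹)) * n := by group
        _ = _ := by rw [e, h2, ← e]; group)
      (Commute.mul_left (Commute.mul_left (Commute.inv_left (hl.norm_c hn)) h3) (hl.norm_c hn))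
    simpa [mul_assoc] using mul_mem (mul_mem hn this) (inv_mem hn)
  obtain ⟨l, h4, e | e | e⟩ := cls hd h1
  · exact k2 _ h4 _ e (k1 _)
  · exact k2 _ (mul_mem h4 hh.un) (φ z) (by rw [← e, ← hh.uz]; group) (k1 _)
  · exact k2 _ h4 _ e fun e _ => hh.cy _ e

theorem Hyp.normalise [Finite G] (hh : Hyp φ u) :
    ∃ u, Hyp φ u ∧ (u * φ t * u⁻¹ = φ s ∨ u * φ t * u⁻¹ = φ (s * c)) := by
  have hl := hh.loc
  obtain ⟨-, e1, e2, -⟩ := rel.2.2.1
  have h1 : u * φ t * u⁻¹ * φ z = φ z * (u * φ t * u⁻¹) := by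
    rw [← hh.ua, conj_mul, conj_mul, cm φ (mul_inv_eq_iff_eq_mul.mp e2)]
  obtain ⟨l, e⟩ := hl.cent h1
  obtain ⟨i, -, hi⟩ := eq_s l (hl.eq1.mp (by rw [map_mul, e, conj_mul, tt]; group))
    (hl.cm.mp (e ▸ h1)) (hl.cj' (by
      rw [e, map_inv, ← hh.uz, conj_mul, conj_inv, conj_mul, cj φ e1, map_inv, conj_inv]))
  have h2 : ∀ d ∈ D φ, φ a ^ i * d * (φ a ^ i)⁻¹ = d := fun d hd => by
    rw [D_comm (pow_mem aD i) hd]; group
  have h3 : ∀ d ∈ D φ, (φ a ^ i)⁻¹ * d * φ a ^ i = d := fun d hd => by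
    rw [mul_assoc, D_comm hd (pow_mem aD i)]; group
  refine ⟨φ a ^ i * u * (φ a ^ i)⁻¹, ⟨hl, by rw [conj_mul, hh.uu]; group, ?_, ?_, hh.cy, hh.nc,
    hh.syl⟩, ?_⟩
  · calc _ = φ a ^ i * (u * ((φ a ^ i)⁻¹ * φ z * φ a ^ i) * u⁻¹) * (φ a ^ i)⁻¹ := by group
      _ = _ := by rw [h3 _ zD, hh.uz, h2 _ aD]
  · calc _ = φ a ^ i * (u * ((φ a ^ i)⁻¹ * φ a * φ a ^ i) * u⁻¹) * (φ a ^ i)⁻¹ := by group
      _ = _ := by rw [h3 _ aD, hh.ua, h2 _ zD]
  · have : φ t * φ a ^ i = φ a ^ i * φ t :=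
      Commute.pow_right (cm φ (mul_inv_eq_iff_eq_mul.mp e2)) i
    have h4 : φ a ^ i * u * (φ a ^ i)⁻¹ * φ t * (φ a ^ i * u * (φ a ^ i)⁻¹)⁻¹ =
        φ (a ^ i * l * (a ^ i)⁻¹) := by
      calc _ = φ a ^ i * (u * ((φ a ^ i)⁻¹ * (φ t * φ a ^ i)) * u⁻¹) * (φ a ^ i)⁻¹ := by group
        _ = _ := by rw [this, inv_mul_cancel_left, ← e]; simp
    rw [h4]
    exact hi.imp (congrArg φ) (congrArg φ)

theorem Hyp.wc3 [Finite G] (hh : Hyp φ u) {H : Subgroup G} (hM : ∀ l, φ l ∈ H) (uH : u ∈ H) :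
    normalizer (D φ : Set G) ≤ H ∧ ∀ x ∈ H, orderOf x = 3 → WC H x := by
  have hN : normalizer (D φ : Set G) ≤ H := fun n hn => by
    rcases hh.key hn with ⟨l, rfl⟩ | ⟨l, e⟩
    exacts [hM l, (mul_mem_cancel_left uH).mp (e ▸ hM l)]
  have : Fact (Nat.Prime 3) := ⟨Nat.prime_three⟩
  have hc : ∀ y ∈ H, orderOf y = 3 → ∃ i, HC H (bif i then φ z else φ (z * a)) y := by
    intro y hy o
    obtain ⟨n, hn, e⟩ := (hh.syl.of_le (le_normalizer.trans hN) le_top).exists_le_conj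
      (isPGroup_zpowers_of_orderOf_eq o) (zpowers_le.mpr hy)
    have e' : HC H (n⁻¹ * y * n) y := ⟨n, hn, by group⟩
    obtain ⟨l, -, e | e | e⟩ := cls (Local.mem_conj_smul_iff.mp (e (mem_zpowers y))) fun e =>
      ne_one_of_orderOf_eq_prime Nat.prime_three o (by
        simpa using conj_eq_one_iff (a := n⁻¹).mp (by simpa using e))
    · exact ⟨true, HC.trans ⟨_, hM l, e⟩ e'⟩
    · exact ⟨true, HC.trans ⟨_, uH, hh.uz⟩ (HC.trans ⟨_, hM l, e⟩ e')⟩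
    · exact ⟨false, HC.trans ⟨_, hM l, e⟩ e'⟩
  refine ⟨hN, fun y hy o => wc_of_classes _ (hc y hy o) (fun w hw e => hc w hw (by
      obtain ⟨k, rfl⟩ := isConj_iff.mp e
      exact ((MulAut.conj k).orderOf_eq y).trans o)) (fun i j e => by
        cases i <;> cases j
        exacts [⟨1, one_mem _, by simp⟩, absurd e.symm hh.nc, absurd e hh.nc,
          ⟨1, one_mem _, by simp⟩]) fun i k e => ?_⟩
  cases i
  · exact hN (hh.cy k e)
  · obtain ⟨l, rfl⟩ := hh.loc.cent e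
    exact hM l

theorem Hyp.exists_conj (hh : Hyp φ u) : ∃ ψ : P →* G, Loc ψ ∧ ∀ l, ψ l = u * φ l * u⁻¹ :=
  ⟨_, hh.loc.conj u, fun _ => rfl⟩

end Cfsg.Agent.Char.S8
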